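import Mathlib
import Cfsg.Agent.Lib.Helper42.ReeSpStmt

set_option autoImplicit false

namespace Cfsg.Agent.Lib.Helper74.ReeSpNA

open Cfsg.Agent.Lib.Helper42.ReeSpStmt

universe u v

theorem qq_mod8 (m : ℕ) : qq m % 8 = 3 := by
  unfold qq
  rw [pow_succ, pow_mul, Nat.mul_mod, Nat.pow_mod]
  norm_num

theorem qq_ge (m : ℕ) (hm : 1 ≤ m) : 27 ≤ qq m := by
  unfold qq
  calc 27 = 3 ^ 3 := by norm_num
    _ ≤ 3 ^ (2 * m + 1) := Nat.pow_le_pow_right (by norm_num) (by omega)

/-- the final arithmetic -/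
theorem arith (k n t q : ℕ) (hk : 7 ≤ k) (hq : q + 1 = 4 * k) (hn : n < k)
    (h : 4 * k * n * (1 + k * t) = q ^ 3 * (q - 1) * (q ^ 3 + 1)) : n = 6 := by
  obtain ⟨k', rfl⟩ : ∃ k', k = k' + 7 := ⟨k - 7, by omega⟩
  have hq' : q = 4 * k' + 27 := by omega
  subst hq'
  have e1 : 4 * k' + 27 - 1 = 4 * k' + 26 := by omega
  rw [e1] at h
  have hZ : (4 * ((k' : ℤ) + 7)) * ((n : ℤ) * (1 + ((k' : ℤ) + 7) * t))
      = (4 * ((k' : ℤ) + 7)) * ((4 * (k' : ℤ) + 27) ^ 3 * (4 * (k' : ℤ) + 26)
        * ((4 * (k' : ℤ) + 27) ^ 2 - (4 * (k' : ℤ) + 27) + 1)) := by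
    have := congrArg (Nat.cast : ℕ → ℤ) h
    push_cast at this
    linear_combination this
  have hne : (4 * ((k' : ℤ) + 7)) ≠ 0 := by positivity
  have hZ2 := mul_left_cancel₀ hne hZ
  have hdvd : ((k' : ℤ) + 7) ∣ (n : ℤ) - 6 := by
    refine ⟨-108 + 800 * ((k' : ℤ) + 7) - 3136 * ((k' : ℤ) + 7) ^ 2 + 6912 * ((k' : ℤ) + 7) ^ 3
      - 8192 * ((k' : ℤ) + 7) ^ 4 + 4096 * ((k' : ℤ) + 7) ^ 5 - n * t, ?_⟩
    linear_combination hZ2
  have hzero : (n : ℤ) - 6 = 0 := by
    apply Int.eq_zero_of_abs_lt_dvd hdvd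
    rw [abs_lt]
    constructor <;> push_cast <;> omega
  omega

theorem main : Cfsg.Agent.Lib.Helper42.ReeSpStmt.NA.{u, v} := by
  intro G _ _ U H A K _ _ m ax hTI
  unfold NAC
  have hq8 := qq_mod8 m
  have hq27 := qq_ge m ax.hm
  obtain ⟨k, hk⟩ : ∃ k, k = (qq m + 1) / 4 := ⟨_, rfl⟩
  have hk4 : qq m + 1 = 4 * k := by omega
  have hkodd : Odd k := by rw [Nat.odd_iff]; omega
  have hk7 : 7 ≤ k := by omega
  have hcardA : Nat.card A = k := by rw [ax.cardA, hk]
  obtain ⟨C, hC⟩ : ∃ C, C = Subgroup.centralizer (A : Set G) := ⟨_, rfl⟩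
  obtain ⟨N, hN⟩ : ∃ N, N = Subgroup.normalizer (A : Set G) := ⟨_, rfl⟩
  have hcardC : Nat.card C = 4 * k := by rw [hC, ax.cardCA, hk4]
  rw [← hN]
  -- A is commutative
  have hAcomm : ∀ a ∈ A, ∀ b ∈ A, a * b = b * a := by
    intro a ha b hb
    haveI := ax.cycA
    obtain ⟨g, hg⟩ := IsCyclic.exists_generator (α := ↥A)
    obtain ⟨i, hi⟩ := Subgroup.mem_zpowers_iff.mp (hg ⟨a, ha⟩)
    obtain ⟨j, hj⟩ := Subgroup.mem_zpowers_iff.mp (hg ⟨b, hb⟩)
    have h1 : a = (g : G) ^ i := by
      have := congrArg Subtype.val hi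
      simpa using this.symm
    have h2 : b = (g : G) ^ j := by
      have := congrArg Subtype.val hj
      simpa using this.symm
    rw [h1, h2, ← zpow_add, ← zpow_add, add_comm]
  have hAC : A ≤ C := by
    intro a ha
    rw [hC, Subgroup.mem_centralizer_iff]
    intro b hb
    exact hAcomm b hb a ha
  -- elements of odd order of C lie in A
  have hHall : ∀ c ∈ C, Odd (orderOf c) → c ∈ A := by
    intro c hc hodd
    have hnorm : (A.subgroupOf C).Normal := by
      constructor
      intro n hn g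
      rw [Subgroup.mem_subgroupOf] at hn ⊢
      have e : ((g * n * g⁻¹ : ↥C) : G) = (n : G) := by
        have hg : (g : G) ∈ Subgroup.centralizer (A : Set G) := hC.le g.2
        rw [Subgroup.mem_centralizer_iff] at hg
        have := hg (n : G) hn
        simp only [Subgroup.coe_mul, InvMemClass.coe_inv]
        rw [← this, mul_inv_cancel_right]
      rw [e]; exact hn
    have hidx : (A.subgroupOf C).index = 4 := by
      have h1 := Subgroup.card_mul_index (A.subgroupOf C)
      have h2 : Nat.card (A.subgroupOf C) = k := by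
        rw [Nat.card_congr (Subgroup.subgroupOfEquivOfLe hAC).toEquiv, hcardA]
      rw [h2, hcardC] at h1
      have hkpos : 0 < k := by omega
      exact Nat.eq_of_mul_eq_mul_left hkpos (by rw [h1]; ring)
    have h3 : orderOf (QuotientGroup.mk' (A.subgroupOf C) ⟨c, hc⟩) ∣ orderOf c := by
      have := orderOf_map_dvd (QuotientGroup.mk' (A.subgroupOf C)) (⟨c, hc⟩ : ↥C)
      rwa [Subgroup.orderOf_mk] at this
    have h4 : orderOf (QuotientGroup.mk' (A.subgroupOf C) ⟨c, hc⟩) ∣ 4 := by
      have := orderOf_dvd_natCard (QuotientGroup.mk' (A.subgroupOf C) ⟨c, hc⟩)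
      rw [← hidx]
      exact this
    have h5 : orderOf (QuotientGroup.mk' (A.subgroupOf C) ⟨c, hc⟩) = 1 := by
      have ho := Odd.of_dvd_nat hodd h3
      have hcop : Nat.Coprime (orderOf (QuotientGroup.mk' (A.subgroupOf C) ⟨c, hc⟩)) (2 ^ 2) :=
        Nat.Coprime.pow_right 2 ho.coprime_two_right
      exact Nat.Coprime.eq_one_of_dvd hcop (by norm_num; exact h4)
    have h6 := orderOf_eq_one_iff.mp h5
    have h7 : (⟨c, hc⟩ : ↥C) ∈ A.subgroupOf C := (QuotientGroup.eq_one_iff _).mp h6
    exact Subgroup.mem_subgroupOf.mp h7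
  have hodd_of_mem : ∀ a ∈ A, Odd (orderOf a) := by
    intro a ha
    have h1 : orderOf a ∣ k := by
      rw [← hcardA]
      have := orderOf_dvd_natCard (⟨a, ha⟩ : ↥A)
      rwa [Subgroup.orderOf_mk] at this
    exact Odd.of_dvd_nat hkodd h1
  -- conjugation moving one nonidentity element of A into A preserves A
  have hconjA : ∀ g : G, (∃ x ∈ A, x ≠ 1 ∧ g * x * g⁻¹ ∈ A) → ∀ a ∈ A, g * a * g⁻¹ ∈ A := by
    rintro g ⟨x, hx, hx1, hgx⟩ a ha
    have hy1 : g * x * g⁻¹ ≠ 1 := by
      intro h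
      apply hx1
      have e : x = g⁻¹ * (g * x * g⁻¹) * g := by group
      rw [e, h]; group
    have hCy := ax.centA _ hgx hy1
    have hax : x * a = a * x := hAcomm x hx a ha
    have hmem : g * a * g⁻¹ ∈ Subgroup.centralizer ({g * x * g⁻¹} : Set G) := by
      rw [Subgroup.mem_centralizer_iff]
      intro y hy
      rw [Set.mem_singleton_iff] at hy
      rw [hy]
      calc g * x * g⁻¹ * (g * a * g⁻¹) = g * (x * a) * g⁻¹ := by group
        _ = g * (a * x) * g⁻¹ := by rw [hax]
        _ = g * a * g⁻¹ * (g * x * g⁻¹) := by group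
    rw [hCy, ← hC] at hmem
    apply hHall _ hmem
    have e : orderOf (g * a * g⁻¹) = orderOf a := (MulAut.conj g).orderOf_eq a
    rw [e]
    exact hodd_of_mem a ha
  have hmemN : ∀ g : G, (∃ x ∈ A, x ≠ 1 ∧ g * x * g⁻¹ ∈ A) → g ∈ N := by
    rintro g ⟨x, hx, hx1, hgx⟩
    have h1 := hconjA g ⟨x, hx, hx1, hgx⟩
    have hy1 : g * x * g⁻¹ ≠ 1 := by
      intro h
      apply hx1
      have e : x = g⁻¹ * (g * x * g⁻¹) * g := by group
      rw [e, h]; group
    have h2 := hconjA g⁻¹ ⟨g * x * g⁻¹, hgx, hy1, by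
      have e : g⁻¹ * (g * x * g⁻¹) * g⁻¹⁻¹ = x := by group
      rw [e]; exact hx⟩
    rw [hN, Subgroup.mem_normalizer_iff]
    intro n
    constructor
    · exact h1 n
    · intro h
      have := h2 _ h
      have e : g⁻¹ * (g * n * g⁻¹) * g⁻¹⁻¹ = n := by group
      rwa [e] at this
  have hNpos : 0 < N.index := Nat.pos_of_ne_zero Subgroup.index_ne_zero_of_finite
  -- the index of N is 1 modulo k
  have hGN : k ∣ N.index - 1 := by
    rw [Nat.dvd_iff_prime_pow_dvd_dvd]
    intro l a hl hla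
    rcases Nat.eq_zero_or_pos a with rfl | ha
    · simp
    haveI : Fact l.Prime := ⟨hl⟩
    have hlk : l ∣ k := (dvd_pow_self l ha.ne').trans hla
    have hlodd : Odd l := Odd.of_dvd_nat hkodd hlk
    have hlA : l ∣ Nat.card ↥A := by rw [hcardA]; exact hlk
    obtain ⟨x0, hx0⟩ := exists_prime_orderOf_dvd_card' l hlA
    have hx0G : orderOf (x0 : G) = l := by rw [Subgroup.orderOf_coe, hx0]
    have hx01 : (x0 : G) ≠ 1 := by
      intro h
      rw [h, orderOf_one] at hx0G
      exact hl.one_lt.ne hx0G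
    have hpz : IsPGroup l (Subgroup.zpowers (x0 : G)) := by
      apply IsPGroup.of_card (n := 1)
      rw [Nat.card_zpowers, hx0G, pow_one]
    obtain ⟨P, hP⟩ := hpz.exists_le_sylow
    have hx0P : (x0 : G) ∈ (P : Subgroup G) := hP (Subgroup.mem_zpowers _)
    have hPpow : ∀ y ∈ (P : Subgroup G), y ^ Nat.card ↥(P : Subgroup G) = 1 := by
      intro y hy
      have := pow_card_eq_one' (G := ↥(P : Subgroup G)) (x := ⟨y, hy⟩)
      exact congrArg Subtype.val this
    obtain ⟨e, he⟩ := P.2.exists_card_eq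
    have hPodd : ∀ y ∈ (P : Subgroup G), Odd (orderOf y) := by
      intro y hy
      have h1 := hPpow y hy
      rw [he] at h1
      have h2 : orderOf y ∣ l ^ e := orderOf_dvd_of_pow_eq_one h1
      exact Odd.of_dvd_nat hlodd.pow h2
    -- a central element of P
    haveI : Nontrivial ↥(P : Subgroup G) :=
      ⟨⟨⟨(x0 : G), hx0P⟩, 1, fun h => hx01 (congrArg Subtype.val h)⟩⟩
    haveI hZ := IsPGroup.center_nontrivial P.2
    obtain ⟨z, hz⟩ := exists_ne (1 : ↥(Subgroup.center ↥(P : Subgroup G)))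
    obtain ⟨z', hz'⟩ : ∃ z' : G, z' = ((z : ↥(P : Subgroup G)) : G) := ⟨_, rfl⟩
    have hzc : ∀ y ∈ (P : Subgroup G), y * z' = z' * y := by
      intro y hy
      have := Subgroup.mem_center_iff.mp z.2 ⟨y, hy⟩
      rw [hz']
      exact congrArg Subtype.val this
    have hz1 : z' ≠ 1 := by
      intro h
      apply hz
      apply Subtype.ext
      apply Subtype.ext
      rw [← hz']
      exact h
    have hzP : z' ∈ (P : Subgroup G) := by
      rw [hz']
      exact (z : ↥(P : Subgroup G)).2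
    have hzC : z' ∈ C := by
      rw [hC, ← ax.centA (x0 : G) x0.2 hx01, Subgroup.mem_centralizer_iff]
      intro y hy
      rw [Set.mem_singleton_iff] at hy
      rw [hy]
      exact hzc _ hx0P
    have hzA : z' ∈ A := hHall _ hzC (hPodd _ hzP)
    have hPC : (P : Subgroup G) ≤ C := by
      intro y hy
      rw [hC, ← ax.centA _ hzA hz1, Subgroup.mem_centralizer_iff]
      intro w hw
      rw [Set.mem_singleton_iff] at hw
      rw [hw]
      exact (hzc y hy).symm
    have hPA : (P : Subgroup G) ≤ A := fun y hy => hHall y (hPC hy) (hPodd y hy)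
    -- the |P|-torsion of A is P
    have hT : ∀ a ∈ A, a ^ Nat.card ↥(P : Subgroup G) = 1 → a ∈ (P : Subgroup G) := by
      intro a ha hpow
      let T : Subgroup G :=
        { carrier := {b | b ∈ A ∧ b ^ Nat.card ↥(P : Subgroup G) = 1}
          one_mem' := ⟨A.one_mem, one_pow _⟩
          mul_mem' := by
            rintro b c ⟨hb, hb'⟩ ⟨hc, hc'⟩
            refine ⟨A.mul_mem hb hc, ?_⟩
            rw [(show Commute b c from hAcomm b hb c hc).mul_pow, hb', hc', one_mul]
          inv_mem' := by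
            rintro b ⟨hb, hb'⟩
            exact ⟨A.inv_mem hb, by rw [inv_pow, hb', inv_one]⟩ }
      have hTp : IsPGroup l T := by
        intro b
        refine ⟨e, ?_⟩
        apply Subtype.ext
        have := b.2.2
        rw [he] at this
        simpa using this
      have hPT : (P : Subgroup G) ≤ T := fun y hy => ⟨hPA hy, hPpow y hy⟩
      have hTP : T = (P : Subgroup G) := P.is_maximal' hTp hPT
      rw [← hTP]
      exact ⟨ha, hpow⟩
    have key : ∀ g : G, (∀ a ∈ A, g * a * g⁻¹ ∈ A) →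
        ∀ y ∈ (P : Subgroup G), g * y * g⁻¹ ∈ (P : Subgroup G) := by
      intro g hgA y hy
      apply hT _ (hgA y (hPA hy))
      rw [conj_pow, hPpow y hy]
      group
    have hTIP : ∀ g : G, (∃ x ∈ (P : Subgroup G), x ≠ 1 ∧ g * x * g⁻¹ ∈ (P : Subgroup G)) →
        ∀ x ∈ (P : Subgroup G), g * x * g⁻¹ ∈ (P : Subgroup G) := by
      rintro g ⟨x, hx, hx1, hgx⟩ y hy
      exact key g (hconjA g ⟨x, hPA hx, hx1, hPA hgx⟩) y hy
    have hcount := hTI G l P hTIP
    have hNP : Subgroup.normalizer ((P : Subgroup G) : Set G) = N := by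
      apply le_antisymm
      · intro g hg
        apply hmemN
        refine ⟨(x0 : G), x0.2, hx01, hPA ?_⟩
        exact (Subgroup.mem_normalizer_iff.mp hg (x0 : G)).mp hx0P
      · intro g hg
        have hgA : ∀ a ∈ A, g * a * g⁻¹ ∈ A := by
          intro a ha
          rw [hN] at hg
          exact (Subgroup.mem_normalizer_iff.mp hg a).mp ha
        have hg'A : ∀ a ∈ A, g⁻¹ * a * g⁻¹⁻¹ ∈ A := by
          intro a ha
          have hg' := N.inv_mem hg
          rw [hN] at hg'
          exact (Subgroup.mem_normalizer_iff.mp hg' a).mp ha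
        rw [Subgroup.mem_normalizer_iff]
        intro n
        constructor
        · exact key g hgA n
        · intro h
          have := key g⁻¹ hg'A _ h
          have e : g⁻¹ * (g * n * g⁻¹) * g⁻¹⁻¹ = n := by group
          rwa [e] at this
    have hidx : Nat.card (Sylow l G) = N.index := by
      rw [Sylow.card_eq_index_normalizer P]
      exact congrArg Subgroup.index hNP
    rw [hidx] at hcount
    have hdvdP : l ^ a ∣ Nat.card ↥(P : Subgroup G) := by
      apply P.pow_dvd_card_of_pow_dvd_card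
      have : k ∣ Nat.card G := by rw [← hcardA]; exact Subgroup.card_subgroup_dvd_card A
      exact hla.trans this
    have h1 : Nat.card ↥(P : Subgroup G) ∣ N.index - 1 :=
      (Nat.modEq_iff_dvd' hNpos).mp hcount.symm
    exact hdvdP.trans h1
  -- the index of C in N is less than k
  have hCN : C ≤ N := by
    rw [hC, hN]
    exact Subgroup.centralizer_le_normalizer _
  have hkey : (C.subgroupOf N).index ∣ Nat.card (MulAut ↥A) := by
    have key := Subgroup.card_dvd_of_injective _
      (QuotientGroup.kerLift_injective A.normalizerMonoidHom)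
    rw [Subgroup.normalizerMonoidHom_ker] at key
    rw [hC, hN]
    exact key
  haveI := ax.cycA
  rw [IsCyclic.card_mulAut, hcardA] at hkey
  have hnlt : (C.subgroupOf N).index < k := by
    have h1 : Nat.totient k < k := Nat.totient_lt k (by omega)
    have h2 : 0 < Nat.totient k := Nat.totient_pos.mpr (by omega)
    exact lt_of_le_of_lt (Nat.le_of_dvd h2 hkey) h1
  have hcardN : Nat.card N = 4 * k * (C.subgroupOf N).index := by
    have h1 := Subgroup.card_mul_index (C.subgroupOf N)
    rw [Nat.card_congr (Subgroup.subgroupOfEquivOfLe hCN).toEquiv, hcardC] at h1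
    exact h1.symm
  obtain ⟨t, ht⟩ := hGN
  have hj : N.index = 1 + k * t := by omega
  have hG := Subgroup.card_mul_index N
  rw [hcardN, hj, ax.card] at hG
  have hn6 := arith k _ t (qq m) hk7 hk4 hnlt hG
  rw [hcardN, hn6, hk4]
  ring

end Cfsg.Agent.Lib.Helper74.ReeSpNA
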