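import Mathlib
import Cfsg.Agent.Lib.Helper42.ReeSpStmt
import Cfsg.Agent.Lib.Helper59.PSL2Spec

set_option autoImplicit false

namespace Cfsg.Agent.Lib.Helper74.ReeSpTHREE

open Cfsg.Agent.Lib.Helper42.ReeSpStmt

universe u v

theorem qq_mod8 (m : ℕ) : qq m % 8 = 3 := by
  unfold qq
  rw [pow_succ, pow_mul, Nat.mul_mod, Nat.pow_mod]
  norm_num

theorem qq_mod3 (m : ℕ) : qq m % 3 = 0 := by
  unfold qq
  rw [pow_succ, Nat.mul_mod]
  norm_num

/-- characteristic 3 from the cardinality -/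
theorem charP_three (K : Type v) [Field K] [Fintype K] (m : ℕ) (h : Fintype.card K = qq m) :
    CharP K 3 := by
  obtain ⟨n, hp, hn⟩ := FiniteField.card K (ringChar K)
  have h3 : Nat.Prime 3 := by norm_num
  have hdvd : ringChar K ∣ 3 ^ (2 * m + 1) := by
    have : ringChar K ∣ Fintype.card K := by
      rw [hn]
      exact dvd_pow_self _ n.ne_zero
    rwa [h] at this
  have h1 : ringChar K ∣ 3 := hp.dvd_of_dvd_pow hdvd
  have h2 : ringChar K = 3 := (Nat.prime_dvd_prime_iff_eq hp h3).mp h1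
  rw [← h2]
  exact ringChar.charP K

theorem main : Cfsg.Agent.Lib.Helper42.ReeSpStmt.Three.{u, v} := by
  intro G _ _ U H A K _ _ m ax ⟨hNcard, hNdec, hconj⟩ g h3
  have hq8 := qq_mod8 m
  have hq3 := qq_mod3 m
  have hopos : 0 < orderOf g := orderOf_pos g
  -- an element of order 3 among the powers of g, conjugated into U
  have hto : orderOf (g ^ (orderOf g / 3)) = 3 := orderOf_pow_orderOf_div hopos.ne' h3
  have h3pow : (g ^ (orderOf g / 3)) ^ 3 ^ 1 = 1 := by
    rw [pow_one]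
    have := pow_orderOf_eq_one (g ^ (orderOf g / 3))
    rwa [hto] at this
  obtain ⟨x, hx⟩ := hconj (g ^ (orderOf g / 3)) ⟨1, h3pow⟩
  set g' := x * g * x⁻¹ with hg'
  have hord : orderOf g' = orderOf g := (MulAut.conj x).orderOf_eq g
  have htU : g' ^ (orderOf g / 3) ∈ U := by rw [hg', conj_pow]; exact hx
  have hto' : orderOf (g' ^ (orderOf g / 3)) = 3 := by
    rw [hg', conj_pow]
    rw [show x * g ^ (orderOf g / 3) * x⁻¹ = MulAut.conj x (g ^ (orderOf g / 3)) from rfl,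
      MulEquiv.orderOf_eq, hto]
  set t := g' ^ (orderOf g / 3) with ht
  have ht1 : t ≠ 1 := by
    intro h
    rw [h, orderOf_one] at hto'
    norm_num at hto'
  have hcomm : g' * t = t * g' := by
    rw [ht]
    exact (pow_mul_comm' g' _).symm
  -- g' normalizes U
  have hn1 : ∀ u ∈ U, g' * u * g'⁻¹ ∈ U := by
    apply ax.ti g'
    refine ⟨t, htU, ht1, ?_⟩
    rw [hcomm, mul_inv_cancel_right]
    exact htU
  have hn2 : ∀ u ∈ U, g'⁻¹ * u * g'⁻¹⁻¹ ∈ U := by
    apply ax.ti g'⁻¹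
    refine ⟨t, htU, ht1, ?_⟩
    have : g'⁻¹ * t * g'⁻¹⁻¹ = t := by
      rw [inv_inv, mul_assoc, ← hcomm, inv_mul_cancel_left]
    rw [this]
    exact htU
  have hgN : g' ∈ Subgroup.normalizer (U : Set G) := by
    rw [Subgroup.mem_normalizer_iff]
    intro n
    constructor
    · exact hn1 n
    · intro h
      have := hn2 _ h
      have e : g'⁻¹ * (g' * n * g'⁻¹) * g'⁻¹⁻¹ = n := by group
      rwa [e] at this
  obtain ⟨u, hu, h, hh, hguh⟩ := hNdec g' hgN
  -- the square of h is trivial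
  have hh2 : h * h = 1 := by
    by_contra hne
    have hh2H : h * h ∈ H := H.mul_mem hh hh
    have hodd : Odd (orderOf (h * h)) := by
      have hcard : h ^ (qq m - 1) = 1 := by
        have := pow_card_eq_one' (G := ↥H) (x := ⟨h, hh⟩)
        rw [ax.cardH] at this
        exact congrArg Subtype.val this
      have hd : orderOf (h * h) ∣ (qq m - 1) / 2 := by
        apply orderOf_dvd_of_pow_eq_one
        rw [← pow_two, ← pow_mul]
        have : 2 * ((qq m - 1) / 2) = qq m - 1 := by omega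
        rw [this, hcard]
      have hodd2 : Odd ((qq m - 1) / 2) := by
        rw [Nat.odd_iff]; omega
      exact Odd.of_dvd_nat hodd2 hd
    -- the commutator map on U is injective, hence surjective
    have hnorm : ∀ v ∈ U, v * (h * h) * v⁻¹ * (h * h)⁻¹ ∈ U := by
      intro v hv
      have h1 := ax.normH (h * h) hh2H v⁻¹ (U.inv_mem hv)
      have e : v * (h * h) * v⁻¹ * (h * h)⁻¹ = v * ((h * h) * v⁻¹ * (h * h)⁻¹) := by group
      rw [e]
      exact U.mul_mem hv h1
    let φ : ↥U → ↥U := fun v => ⟨(v : G) * (h * h) * (v : G)⁻¹ * (h * h)⁻¹, hnorm v v.2⟩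
    have hinj : Function.Injective φ := by
      intro v w hvw
      have h1 : (v : G) * (h * h) * (v : G)⁻¹ * (h * h)⁻¹
          = (w : G) * (h * h) * (w : G)⁻¹ * (h * h)⁻¹ := congrArg Subtype.val hvw
      have h2 : ((w : G)⁻¹ * (v : G)) * (h * h) = (h * h) * ((w : G)⁻¹ * (v : G)) := by
        have h3 : (v : G) * (h * h) * (v : G)⁻¹ = (w : G) * (h * h) * (w : G)⁻¹ :=
          mul_right_cancel h1
        calc ((w : G)⁻¹ * (v : G)) * (h * h)
            = (w : G)⁻¹ * ((v : G) * (h * h) * (v : G)⁻¹) * (v : G) := by group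
          _ = (w : G)⁻¹ * ((w : G) * (h * h) * (w : G)⁻¹) * (v : G) := by rw [h3]
          _ = (h * h) * ((w : G)⁻¹ * (v : G)) := by group
      have h4 := ax.fpf (h * h) hh2H hne hodd _ (U.mul_mem (U.inv_mem w.2) v.2) h2
      apply Subtype.ext
      exact (inv_mul_eq_one.mp h4).symm
    have hsurj : Function.Surjective φ := Finite.injective_iff_surjective.mp hinj
    have hu2 : u * (h * u * h⁻¹) ∈ U := U.mul_mem hu (ax.normH h hh u hu)
    obtain ⟨v, hv⟩ := hsurj ⟨u * (h * u * h⁻¹), hu2⟩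
    have hv' : (v : G) * (h * h) * (v : G)⁻¹ * (h * h)⁻¹ = u * (h * u * h⁻¹) :=
      congrArg Subtype.val hv
    have hy : g' * g' = (v : G) * (h * h) * (v : G)⁻¹ := by
      have e1 : g' * g' = (u * (h * u * h⁻¹)) * (h * h) := by rw [hguh]; group
      rw [e1, ← hv']
      group
    have hty : t * (g' * g') = (g' * g') * t := by
      calc t * (g' * g') = (t * g') * g' := (mul_assoc _ _ _).symm
        _ = (g' * t) * g' := by rw [hcomm]
        _ = g' * (t * g') := mul_assoc _ _ _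
        _ = g' * (g' * t) := by rw [hcomm]
        _ = g' * g' * t := (mul_assoc _ _ _).symm
    rw [hy] at hty
    have hw : ((v : G)⁻¹ * t * (v : G)) * (h * h) = (h * h) * ((v : G)⁻¹ * t * (v : G)) := by
      calc ((v : G)⁻¹ * t * (v : G)) * (h * h)
          = (v : G)⁻¹ * (t * ((v : G) * (h * h) * (v : G)⁻¹)) * (v : G) := by group
        _ = (v : G)⁻¹ * (((v : G) * (h * h) * (v : G)⁻¹) * t) * (v : G) := by rw [hty]
        _ = (h * h) * ((v : G)⁻¹ * t * (v : G)) := by group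
    have hwU : (v : G)⁻¹ * t * (v : G) ∈ U := U.mul_mem (U.mul_mem (U.inv_mem v.2) htU) v.2
    have h5 := ax.fpf (h * h) hh2H hne hodd _ hwU hw
    apply ht1
    calc t = (v : G) * ((v : G)⁻¹ * t * (v : G)) * (v : G)⁻¹ := by group
      _ = 1 := by rw [h5]; group
  -- hence g'^2 ∈ U and g'^18 = 1
  have hsq : g' * g' ∈ U := by
    have e1 : g' * g' = (u * (h * u * h⁻¹)) * (h * h) := by rw [hguh]; group
    rw [e1, hh2, mul_one]
    exact U.mul_mem hu (ax.normH h hh u hu)
  have h18 : g' ^ 18 = 1 := by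
    have := ax.exp9 _ hsq
    rw [← pow_two, ← pow_mul] at this
    exact this
  have hdvd : orderOf g ∣ 18 := by
    rw [← hord]
    exact orderOf_dvd_of_pow_eq_one h18
  have hle : orderOf g ≤ 18 := Nat.le_of_dvd (by norm_num) hdvd
  have hcases : orderOf g = 3 ∨ orderOf g = 6 ∨ orderOf g = 9 ∨ orderOf g = 18 := by
    generalize orderOf g = o at *
    interval_cases o <;> simp_all
  rcases hcases with h | h | h | h
  · exact Or.inl h
  · exact Or.inr (Or.inl h)
  · exact Or.inr (Or.inr h)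
  · -- order 18 is impossible
    exfalso
    have hs : orderOf (g ^ 9) = 2 := by
      rw [orderOf_pow, h]
      norm_num
    have hw : orderOf (g ^ 2) = 9 := by
      rw [orderOf_pow, h]
      norm_num
    obtain ⟨e⟩ := ax.invo (g ^ 9) hs
    have hmem : g ^ 2 ∈ Subgroup.centralizer ({g ^ 9} : Set G) := by
      rw [Subgroup.mem_centralizer_iff]
      intro y hy
      rw [Set.mem_singleton_iff] at hy
      rw [hy, ← pow_add, ← pow_add]
    have hw' : orderOf (⟨g ^ 2, hmem⟩ : ↥(Subgroup.centralizer ({g ^ 9} : Set G))) = 9 := by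
      rw [Subgroup.orderOf_mk, hw]
    have he : orderOf (e ⟨g ^ 2, hmem⟩) = 9 := by rw [MulEquiv.orderOf_eq, hw']
    rw [← Prod.mk.eta (p := e ⟨g ^ 2, hmem⟩), Prod.orderOf_mk] at he
    have ha : orderOf (e ⟨g ^ 2, hmem⟩).1 ∣ 2 := by
      have := orderOf_dvd_card (x := (e ⟨g ^ 2, hmem⟩).1)
      have hc : Fintype.card (Multiplicative (ZMod 2)) = 2 := by
        rw [Fintype.card_multiplicative, ZMod.card]
      rwa [hc] at this
    have hb9 : 9 ∣ orderOf (e ⟨g ^ 2, hmem⟩).2 := by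
      have h1 : (9 : ℕ) ∣ Nat.lcm (orderOf (e ⟨g ^ 2, hmem⟩).1) (orderOf (e ⟨g ^ 2, hmem⟩).2) := by
        rw [he]
      have hcop : Nat.Coprime 9 (orderOf (e ⟨g ^ 2, hmem⟩).1) :=
        Nat.Coprime.coprime_dvd_right ha (by norm_num)
      have h2 : Nat.lcm (orderOf (e ⟨g ^ 2, hmem⟩).1) (orderOf (e ⟨g ^ 2, hmem⟩).2) ∣
          orderOf (e ⟨g ^ 2, hmem⟩).1 * orderOf (e ⟨g ^ 2, hmem⟩).2 :=
        Nat.lcm_dvd_mul _ _
      exact hcop.dvd_of_dvd_mul_left (h1.trans h2)
    haveI : Fact (Nat.Prime 3) := ⟨by norm_num⟩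
    haveI : CharP K 3 := charP_three K m ax.cardK
    have hspec := Cfsg.Agent.Lib.Helper59.PSL2Spec.orderOf_dvd 3 (e ⟨g ^ 2, hmem⟩).2
    rw [ax.cardK] at hspec
    rcases hspec with h1 | h1 | h1
    · have := Nat.le_of_dvd (by norm_num) (hb9.trans h1)
      omega
    · have h2 : (3 : ℕ) ∣ (qq m - 1) / Nat.gcd 2 (qq m - 1) :=
        (Dvd.intro 3 rfl : (3 : ℕ) ∣ 9).trans (hb9.trans h1)
      have h3 : (3 : ℕ) ∣ qq m - 1 := h2.trans (Nat.div_dvd_of_dvd (Nat.gcd_dvd_right _ _))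
      omega
    · have h2 : (3 : ℕ) ∣ (qq m + 1) / Nat.gcd 2 (qq m + 1) :=
        (Dvd.intro 3 rfl : (3 : ℕ) ∣ 9).trans (hb9.trans h1)
      have h3 : (3 : ℕ) ∣ qq m + 1 := h2.trans (Nat.div_dvd_of_dvd (Nat.gcd_dvd_right _ _))
      omega

end Cfsg.Agent.Lib.Helper74.ReeSpTHREE
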