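import Mathlib
import Cfsg.Agent.Lib.Helper4.UniStmt

/-!
# S4395, piece WIN: the powers `lam^0, …, lam^(a-1)` span `F` additively
-/

set_option autoImplicit false

namespace Cfsg.Agent.Lib.Helper74.UniWIN

open Cfsg.Agent.Lib.Helper4.UniStmt

theorem main : WIN := by
  intro p _ F _ _ _ lam a hlam hcard hirr x
  let _ : Algebra (ZMod p) F := ZMod.algebra F p
  -- every element is a polynomial in `lam`
  have hadj : ∀ y : F, ∃ f : Polynomial (ZMod p), Polynomial.aeval lam f = y := by
    let A : AddSubgroup F :=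
      (Polynomial.aeval (R := ZMod p) lam).range.toSubmodule.toAddSubgroup
    have hmemA : ∀ y : F, y ∈ A ↔ ∃ f : Polynomial (ZMod p), Polynomial.aeval lam f = y := by
      intro y
      exact Iff.rfl
    have hA : ∀ y ∈ A, lam * y ∈ A := by
      intro y hy
      obtain ⟨f, rfl⟩ := (hmemA y).1 hy
      exact (hmemA _).2 ⟨Polynomial.X * f, by simp⟩
    rcases hirr A hA with h0 | h1
    · exfalso
      have h1A : (1 : F) ∈ A := (hmemA 1).2 ⟨1, by simp⟩
      rw [h0] at h1A
      exact one_ne_zero ((AddSubgroup.mem_bot).1 h1A)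
    · intro y
      have : y ∈ A := by rw [h1]; trivial
      exact (hmemA y).1 this
  obtain ⟨f, rfl⟩ := hadj x
  set m := minpoly (ZMod p) lam with hm
  have hint : IsIntegral (ZMod p) lam := IsIntegral.of_finite (ZMod p) lam
  have hmon : m.Monic := minpoly.monic hint
  have hm1 : m ≠ 1 := minpoly.ne_one (ZMod p) lam
  set g := f %ₘ m with hg
  have hgd : g.natDegree < m.natDegree := Polynomial.natDegree_modByMonic_lt f hmon hm1
  have hgev : Polynomial.aeval lam g = Polynomial.aeval lam f := by
    have h1 := Polynomial.modByMonic_add_div f m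
    conv_rhs => rw [← h1]
    rw [map_add, map_mul, hm, minpoly.aeval, zero_mul, add_zero]
  have hfin : Module.finrank (ZMod p) F = a := by
    have h1 := Module.natCard_eq_pow_finrank (K := ZMod p) (V := F)
    rw [Nat.card_zmod, hcard] at h1
    exact (Nat.pow_right_injective (Fact.out : p.Prime).two_le h1).symm
  have hma : m.natDegree ≤ a := by
    rw [← hfin]; exact minpoly.natDegree_le lam
  refine ⟨fun i => (g.coeff i).val, ?_⟩
  rw [← hgev, Polynomial.aeval_eq_sum_range' (lt_of_lt_of_le hgd hma)]
  refine Finset.sum_congr rfl (fun i _ => ?_)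
  rw [← Nat.cast_smul_eq_nsmul (ZMod p), ZMod.natCast_zmod_val]

end Cfsg.Agent.Lib.Helper74.UniWIN
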