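import Mathlib
import Cfsg.Agent.Lib.Helper74.DetTools
import Cfsg.Agent.Lib.Helper25.CliffordCorr
import Cfsg.Agent.Lib.Helper25.CliffordCorr2
import Cfsg.Agent.Lib.Helper78.CliffordCorr
import Cfsg.Agent.Lib.Helper16.Cover
import Cfsg.Agent.Lib.Helper75.Rotation
import Cfsg.Agent.S0886

/-!
Irreducible characters of degree prime to `p` and a normal subgroup `M` of index `p`:
restriction is irreducible, and sets up a bijection between the characters of `G` with degree
and determinantal order prime to `p` and the `G`-invariant such characters of `M`.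
-/

set_option autoImplicit false

namespace Cfsg.Agent.Lib.Helper74.IndexP

open Cfsg Cfsg.Agent.Lib.Helper74.DetTools
open Cfsg.Agent.Lib.Helper3.Irr Cfsg.Agent.Lib.CT
open Cfsg.Agent.Lib.Helper25.CliffordCorr Cfsg.Agent.Lib.Helper25.CliffordCorr2
open scoped ComplexConjugate

universe u

variable {G : Type u} [Group G] [Fintype G]

/-- Gallagher's theorem for an abelian quotient: two irreducible characters of `G` whose
restrictions to `M` are not orthogonal differ by a linear character trivial on `M`. -/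
theorem gallagher_top (M : Subgroup G) [hM : M.Normal] [Fintype M]
    (hab : ∀ x y : G, x * y * x⁻¹ * y⁻¹ ∈ M) (χ χ' : G → ℂ) (hχ : IsIrrCharacter G χ)
    (hχ' : IsIrrCharacter G χ')
    (hne : classInner (fun m : M => χ m) (fun m : M => χ' m) ≠ 0) :
    ∃ β : G →* ℂˣ, (∀ m ∈ M, β m = 1) ∧ χ' = fun g => ((β g : ℂˣ) : ℂ) * χ g := by
  classical
  have hfin : Fintype (⊤ : Subgroup G) := Fintype.ofFinite _
  have h1 : IsIrrCharacter (⊤ : Subgroup G) (fun t : (⊤ : Subgroup G) => χ t) :=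
    Ops.isIrrCharacter_comp_mulEquiv Subgroup.topEquiv hχ
  have h2 : IsIrrCharacter (⊤ : Subgroup G) (fun t : (⊤ : Subgroup G) => χ' t) :=
    Ops.isIrrCharacter_comp_mulEquiv Subgroup.topEquiv hχ'
  obtain ⟨f, hf1, hf2⟩ := exists_twist M ⊤ le_top (fun x _ y _ => hab x y) _ _ h1 h2 hne
  refine ⟨f.comp (Subgroup.topEquiv.symm : G ≃* (⊤ : Subgroup G)).toMonoidHom, ?_, ?_⟩
  · intro m hm
    exact hf1 ⟨m, Subgroup.mem_top m⟩ hm
  · funext g
    exact congrFun hf2 ⟨g, Subgroup.mem_top g⟩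

omit [Fintype G] in
/-- The quotient by a normal subgroup of prime index is abelian. -/
theorem comm_mem_of_index_prime (M : Subgroup G) [hM : M.Normal] {p : ℕ} (hp : p.Prime)
    (hidx : M.index = p) (x y : G) : x * y * x⁻¹ * y⁻¹ ∈ M := by
  have hcard : Nat.card (G ⧸ M) = p := by rw [← Subgroup.index_eq_card]; exact hidx
  have hpf := Fact.mk hp
  have hcyc : IsCyclic (G ⧸ M) := isCyclic_of_prime_card hcard
  rw [← QuotientGroup.eq_one_iff]
  simp only [QuotientGroup.mk_mul, QuotientGroup.mk_inv]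
  rw [mul_comm' (x : G ⧸ M) (y : G ⧸ M)]
  group

omit [Fintype G] in
theorem isCyclic_of_index_prime (M : Subgroup G) [hM : M.Normal] {p : ℕ} (hp : p.Prime)
    (hidx : M.index = p) : IsCyclic (G ⧸ M) := by
  have hcard : Nat.card (G ⧸ M) = p := by rw [← Subgroup.index_eq_card]; exact hidx
  have hpf := Fact.mk hp
  exact isCyclic_of_prime_card hcard

/-- An irreducible character of degree prime to `p` restricts irreducibly to a normal
subgroup of index `p`. -/
theorem restrict_irr (M : Subgroup G) [hM : M.Normal] [Fintype M] {p : ℕ} (hp : p.Prime)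
    (hidx : M.index = p) (χ : G → ℂ) (hχ : IsIrrCharacter G χ) (hdeg : ¬ p ∣ charDegree χ) :
    IsIrrCharacter M (fun m : M => χ m) := by
  classical
  obtain ⟨θ, hθ⟩ := Cfsg.Agent.Lib.Helper16.Cover.exists_constituent M ⟨χ, hχ⟩
  obtain ⟨T, hTdef⟩ : ∃ T : Subgroup G,
      T = Cfsg.Agent.Lib.Helper78.CliffordCorr.inertia M hM θ.1 := ⟨_, rfl⟩
  have hT : ∀ g : G, g ∈ T ↔ ∀ n : M, θ.1 ⟨g * n * g⁻¹, hM.conj_mem (n : G) n.2 g⟩ = θ.1 n := by
    intro g
    rw [hTdef]
    exact Cfsg.Agent.Lib.Helper78.CliffordCorr.mem_inertia M hM θ.1 g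
  have hMT : M ≤ T := by
    rw [hTdef]
    exact Cfsg.Agent.Lib.Helper78.CliffordCorr.le_inertia M hM
      (IsIrrCharacter.isClassFunction θ.2)
  have hfinT : Fintype T := Fintype.ofFinite _
  obtain ⟨ψ, e, hψ, hind, he, hcon, hres, hdegeq⟩ :=
    Cfsg.Agent.Lib.Helper78.CliffordCorr.clifford_corr M hM θ.1 θ.2 T hT hMT χ hχ hθ
  have hTidx : T.index = 1 := by
    have h1 : T.index ∣ p := by rw [← hidx]; exact Subgroup.index_dvd_of_le hMT
    rcases (Nat.dvd_prime hp).1 h1 with h | h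
    · exact h
    · exfalso
      apply hdeg
      rw [hdegeq, h]
      exact Dvd.dvd.mul_right (Dvd.intro_left e rfl) _
  have hTtop : T = ⊤ := Subgroup.index_eq_one.mp hTidx
  have hinvθ : ∀ (g : G) (n : M), θ.1 ⟨g * n * g⁻¹, hM.conj_mem (n : G) n.2 g⟩ = θ.1 n :=
    fun g => (hT g).1 (by rw [hTtop]; exact Subgroup.mem_top g)
  obtain ⟨χ₁, hχ₁, hext⟩ := Cfsg.Agent.S0886.result M (isCyclic_of_index_prime M hp hidx)
    θ.1 θ.2 hinvθ
  have hres₁ : (fun m : M => χ₁ m) = θ.1 := funext hext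
  have hne : classInner (fun m : M => χ₁ m) (fun m : M => χ m) ≠ 0 := by
    rw [hres₁]
    exact classInner_ne_zero_symm _ _ hθ
  obtain ⟨β, hβ1, hβ2⟩ := gallagher_top M (comm_mem_of_index_prime M hp hidx) χ₁ χ hχ₁ hχ hne
  have h3 : (fun m : M => χ m) = θ.1 := by
    funext m
    rw [hβ2]
    show ((β (m : G) : ℂˣ) : ℂ) * χ₁ m = θ.1 m
    rw [hβ1 m m.2, hext m]
    simp
  rw [h3]
  exact θ.2

/-- Two irreducible characters of `G` with degree prime to `p` and determinantal orders prime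
to `p` that agree on a normal subgroup of index `p` are equal. -/
theorem eq_of_restrict_eq (M : Subgroup G) [hM : M.Normal] [Fintype M] {p : ℕ} (hp : p.Prime)
    (hidx : M.index = p) (χ χ' : G → ℂ) (hχ : IsIrrCharacter G χ) (hχ' : IsIrrCharacter G χ')
    (hdeg : ¬ p ∣ charDegree χ) (hdet : ¬ p ∣ detOrder χ) (hdet' : ¬ p ∣ detOrder χ')
    (hres : ∀ m : M, χ m = χ' m) : χ = χ' := by
  classical
  have hirr := restrict_irr M hp hidx χ hχ hdeg
  have hne : classInner (fun m : M => χ m) (fun m : M => χ' m) ≠ 0 := by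
    rw [← funext hres, irr_inner_self ⟨_, hirr⟩]
    exact one_ne_zero
  obtain ⟨β, hβ1, hβ2⟩ := gallagher_top M (comm_mem_of_index_prime M hp hidx) χ χ' hχ hχ' hne
  have hdetc := detChar_twist β hχ
  rw [← hβ2] at hdetc
  have hβ : ∀ g, β g = 1 := by
    intro g
    have h2 : (((β g : ℂˣ) : ℂ) ^ charDegree χ * detChar χ g) ^ detOrder χ' = 1 := by
      have h := detChar_pow_detOrder χ' g
      rw [hdetc] at h
      exact h
    have h3 := detChar_pow_detOrder χ g
    have h4 : (((β g : ℂˣ) : ℂ) ^ charDegree χ * detChar χ g) ^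
        (detOrder χ * detOrder χ') = 1 := by
      rw [mul_comm (detOrder χ), pow_mul, h2, one_pow]
    rw [mul_pow, pow_mul (detChar χ g), h3, one_pow, mul_one, ← pow_mul] at h4
    have h5 : (β g) ^ (charDegree χ * (detOrder χ * detOrder χ')) = 1 := by
      apply Units.ext
      rw [Units.val_pow_eq_pow_val]
      exact h4
    have h6 : (β g) ^ p = 1 := by
      rw [← map_pow]
      apply hβ1
      rw [← hidx]
      exact Subgroup.pow_index_mem M g
    have h7 : orderOf (β g) ∣ Nat.gcd (charDegree χ * (detOrder χ * detOrder χ')) p :=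
      Nat.dvd_gcd (orderOf_dvd_of_pow_eq_one h5) (orderOf_dvd_of_pow_eq_one h6)
    have hcop : Nat.Coprime (charDegree χ * (detOrder χ * detOrder χ')) p := by
      apply Nat.Coprime.symm
      rw [Nat.Prime.coprime_iff_not_dvd hp]
      intro hd
      rcases (Nat.Prime.dvd_mul hp).1 hd with h | h
      · exact hdeg h
      · rcases (Nat.Prime.dvd_mul hp).1 h with h | h
        · exact hdet h
        · exact hdet' h
    rw [hcop] at h7
    exact orderOf_eq_one_iff.mp (Nat.dvd_one.mp h7)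
  rw [hβ2]
  funext g
  rw [hβ g]
  simp

/-- A `G`-invariant irreducible character of a normal subgroup of index `p`, with degree and
determinantal order prime to `p`, has an extension with determinantal order prime to `p`. -/
theorem exists_extension_coprime_det (M : Subgroup G) [hM : M.Normal] [Fintype M] {p : ℕ}
    (hp : p.Prime) (hidx : M.index = p) (ψ : M → ℂ) (hψ : IsIrrCharacter M ψ)
    (hinv : ∀ (g : G) (n : M), ψ ⟨g * n * g⁻¹, hM.conj_mem (n : G) n.2 g⟩ = ψ n)
    (hdeg : ¬ p ∣ charDegree ψ) (hdet : ¬ p ∣ detOrder ψ) :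
    ∃ χ : G → ℂ, IsIrrCharacter G χ ∧ (∀ m : M, χ m = ψ m) ∧ ¬ p ∣ detOrder χ := by
  classical
  obtain ⟨χ₁, hχ₁, hext⟩ := Cfsg.Agent.S0886.result M (isCyclic_of_index_prime M hp hidx)
    ψ hψ hinv
  have hres₁ : (fun m : M => χ₁ m) = ψ := funext hext
  obtain ⟨δ, hδ⟩ := exists_detHom hχ₁
  have hδM : ∀ x : M, ((δ (x : G) : ℂˣ) : ℂ) = detChar ψ x := by
    intro x
    have h1 := detChar_restrict M hχ₁ (by rw [hres₁]; exact hψ)
    rw [hres₁] at h1
    rw [h1, hδ]
  have hdeg₁ : charDegree χ₁ = charDegree ψ := by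
    unfold charDegree
    rw [← hext 1]
    rfl
  obtain ⟨m, hm⟩ : ∃ m, m = detOrder ψ := ⟨_, rfl⟩
  obtain ⟨n, hn⟩ : ∃ n, n = charDegree χ₁ := ⟨_, rfl⟩
  have hcop : Nat.Coprime (m * n) p := by
    apply Nat.Coprime.symm
    rw [Nat.Prime.coprime_iff_not_dvd hp]
    intro hd
    rcases (Nat.Prime.dvd_mul hp).1 hd with h | h
    · exact hdet (hm ▸ h)
    · exact hdeg (by rw [← hdeg₁, ← hn]; exact h)
  obtain ⟨j₀, -, hj₀⟩ := Nat.exists_mul_mod_eq_one_of_coprime hcop hp.one_lt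
  obtain ⟨j, hj⟩ : ∃ j, j = j₀ * (p - 1) := ⟨_, rfl⟩
  have hdvd : p ∣ m * j * n + 1 := by
    obtain ⟨p', rfl⟩ : ∃ p', p = p' + 1 := ⟨p - 1, by have := hp.pos; omega⟩
    have h1 : m * n * j₀ = (p' + 1) * (m * n * j₀ / (p' + 1)) + 1 := by
      have := Nat.div_add_mod (m * n * j₀) (p' + 1)
      omega
    obtain ⟨q, hq⟩ : ∃ q, m * n * j₀ = (p' + 1) * q + 1 := ⟨_, h1⟩
    refine ⟨q * p' + 1, ?_⟩
    have h2 : m * j * n = (m * n * j₀) * p' := by
      rw [hj]
      simp only [Nat.add_sub_cancel]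
      ring
    rw [h2, hq]
    ring
  have hδm : ∀ x ∈ M, (δ x) ^ m = 1 := by
    intro x hx
    apply Units.ext
    rw [Units.val_pow_eq_pow_val, hδM ⟨x, hx⟩, hm]
    exact detChar_pow_detOrder ψ ⟨x, hx⟩
  obtain ⟨β, hβ⟩ : ∃ β : G →* ℂˣ, β = δ ^ (m * j) := ⟨_, rfl⟩
  have hβM : ∀ x ∈ M, β x = 1 := by
    intro x hx
    rw [hβ, MonoidHom.pow_apply, pow_mul, hδm x hx, one_pow]
  refine ⟨fun g => ((β g : ℂˣ) : ℂ) * χ₁ g,
    Cfsg.Agent.Lib.CT.LinChar.isIrrCharacter_linear_mul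
      (Cfsg.Agent.Lib.CT.LinChar.isCharacter_of_hom β) (by simp) hχ₁, ?_, ?_⟩
  · intro x
    show ((β (x : G) : ℂˣ) : ℂ) * χ₁ x = ψ x
    rw [hβM x x.2, hext x]
    simp
  · intro hpd
    apply hdet
    rw [← hm]
    refine hpd.trans (detOrder_dvd_of_pow _ m ?_)
    intro g
    rw [detChar_twist β hχ₁, hδ]
    show (((β g : ℂˣ) : ℂ) ^ charDegree χ₁ * ((δ g : ℂˣ) : ℂ)) ^ m = 1
    rw [← hn, hβ, MonoidHom.pow_apply]
    have hu : ((δ g) ^ m) ^ p = 1 := by
      rw [← pow_mul, mul_comm, pow_mul, ← map_pow]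
      apply hδm
      rw [← hidx]
      exact Subgroup.pow_index_mem M g
    have h8 : (((δ g) ^ (m * j)) ^ n * δ g) ^ m = 1 := by
      have h9 : ((δ g) ^ (m * j)) ^ n * δ g = (δ g) ^ (m * j * n + 1) := by
        rw [← pow_mul, pow_succ]
      rw [h9, ← pow_mul, mul_comm, pow_mul]
      obtain ⟨c, hc⟩ := hdvd
      rw [hc, pow_mul, hu, one_pow]
    rw [← Units.val_pow_eq_pow_val, ← Units.val_mul, ← Units.val_pow_eq_pow_val, h8,
      Units.val_one]

end Cfsg.Agent.Lib.Helper74.IndexP
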