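import Cfsg.Agent.Lib.Helper3.M24BlkStmt

set_option autoImplicit false

namespace Cfsg.Agent.Lib.Helper74.M24LNODUP

open Cfsg.Agent.Lib.Helper3.M24InvD Cfsg.Agent.Lib.Helper3.M24BlkStmt

/-- strictly increasing check with a running lower bound `lo`; returns the last entry plus one,
`0` on failure (and `0` is absorbing) -/
def chk (l : List Nat) : Nat → Nat :=
  List.rec (motive := fun _ => Nat → Nat) (fun lo => lo)
    (fun x _ ih lo => cond (Nat.ble lo x) (cond (Nat.beq lo 0) 0 (ih (Nat.succ x))) 0) l

theorem chk_nil (lo : Nat) : chk [] lo = lo := rfl

theorem chk_cons (x : Nat) (l : List Nat) (lo : Nat) :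
    chk (x :: l) lo = cond (Nat.ble lo x) (cond (Nat.beq lo 0) 0 (chk l (Nat.succ x))) 0 := rfl

theorem chk_zero (l : List Nat) : chk l 0 = 0 := by
  cases l with
  | nil => rfl
  | cons x l => rw [chk_cons]; simp

theorem chk_append (l₁ l₂ : List Nat) : ∀ lo, chk (l₁ ++ l₂) lo = chk l₂ (chk l₁ lo) := by
  induction l₁ with
  | nil => intro lo; rfl
  | cons x l₁ ih =>
    intro lo
    rw [List.cons_append, chk_cons, chk_cons, ih]
    cases h1 : Nat.ble lo x
    · simp [chk_zero]
    · cases h2 : Nat.beq lo 0
      · simp
      · simp [chk_zero]

theorem chk_flatten (cs : List (List Nat)) :
    ∀ lo, chk cs.flatten lo = cs.foldl (fun lo l => chk l lo) lo := by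
  induction cs with
  | nil => intro lo; rfl
  | cons c cs ih =>
    intro lo
    rw [List.flatten_cons, chk_append, ih, List.foldl_cons]

theorem chk_spec : ∀ (l : List Nat) (lo : Nat), chk l lo ≠ 0 →
    l.Pairwise (· < ·) ∧ (∀ x ∈ l, lo ≤ x) ∧ (∀ x ∈ l, x < chk l lo) ∧ lo ≤ chk l lo := by
  intro l
  induction l with
  | nil =>
    intro lo _
    exact ⟨List.Pairwise.nil, by simp, by simp, le_refl _⟩
  | cons x l ih =>
    intro lo h
    rw [chk_cons] at h ⊢
    cases h1 : Nat.ble lo x
    · rw [h1] at h; simp at h
    · rw [h1] at h
      cases h2 : Nat.beq lo 0
      · rw [h2] at h
        simp only [cond_true, cond_false] at h ⊢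
        have hle : lo ≤ x := Nat.le_of_ble_eq_true h1
        obtain ⟨p1, p2, p3, p4⟩ := ih (Nat.succ x) h
        refine ⟨List.pairwise_cons.mpr ⟨fun y hy => p2 y hy, p1⟩, ?_, ?_, ?_⟩
        · intro y hy
          rcases List.mem_cons.mp hy with rfl | hy
          · exact hle
          · have := p2 y hy; omega
        · intro y hy
          rcases List.mem_cons.mp hy with rfl | hy
          · omega
          · exact p3 y hy
        · omega
      · rw [h2] at h; simp at h

theorem c0 : chk L0 1 = 47349287943032391665121523566693108 := by decide +kernel

theorem c1 : chk L1 47349287943032391665121523566693108 = 93966503904784681272028954530864714 := by decide +kernel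

theorem c2 : chk L2 93966503904784681272028954530864714 = 140258708128965381645850220754087600 := by decide +kernel

theorem c3 : chk L3 140258708128965381645850220754087600 = 186462902638219323334442601923216452 := by decide +kernel

theorem c4 : chk L4 186462902638219323334442601923216452 = 232945630336468380387276715645214020 := by decide +kernel

theorem c5 : chk L5 232945630336468380387276715645214020 = 278664630004991528195871435030694155 := by decide +kernel

theorem c6 : chk L6 278664630004991528195871435030694155 = 336774490975141726930133124347803111 := by decide +kernel

theorem c7 : chk L7 336774490975141726930133124347803111 = 383178332830893090980712761665245555 := by decide +kernel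

theorem c8 : chk L8 383178332830893090980712761665245555 = 431010437215350929682650080943950513 := by decide +kernel

theorem c9 : chk L9 431010437215350929682650080943950513 = 477094731178059083638825640515346884 := by decide +kernel

theorem c10 : chk L10 477094731178059083638825640515346884 = 523507627221509268973830885746059621 := by decide +kernel

theorem c11 : chk L11 523507627221509268973830885746059621 = 569421816525019503725272917461765164 := by decide +kernel

theorem c12 : chk L12 569421816525019503725272917461765164 = 627301987540807287961783667441484948 := by decide +kernel

theorem c13 : chk L13 627301987540807287961783667441484948 = 673792162704755819010519421356954981 := by decide +kernel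

theorem c14 : chk L14 673792162704755819010519421356954981 = 719912291355941950664414701774222696 := by decide +kernel

theorem c15 : chk L15 719912291355941950664414701774222696 = 766473793046054643224853738418373251 := by decide +kernel

theorem c16 : chk L16 766473793046054643224853738418373251 = 812889492087714499993460007401698790 := by decide +kernel

theorem c17 : chk L17 812889492087714499993460007401698790 = 860206207045955302477491487813778017 := by decide +kernel

theorem c18 : chk L18 860206207045955302477491487813778017 = 943828597443769373180375058128486636 := by decide +kernel

theorem c19 : chk L19 943828597443769373180375058128486636 = 961127859031003581046043783180159467 := by decide +kernel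

theorem c20 : chk L20 961127859031003581046043783180159467 = 983537916908136790996128034974913025 := by decide +kernel

theorem c21 : chk L21 983537916908136790996128034974913025 = 984818244535754528103549039458486305 := by decide +kernel

theorem n0 : L0.length = 2000 := by decide +kernel

theorem n1 : L1.length = 2000 := by decide +kernel

theorem n2 : L2.length = 2000 := by decide +kernel

theorem n3 : L3.length = 2000 := by decide +kernel

theorem n4 : L4.length = 2000 := by decide +kernel

theorem n5 : L5.length = 2000 := by decide +kernel

theorem n6 : L6.length = 2000 := by decide +kernel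

theorem n7 : L7.length = 2000 := by decide +kernel

theorem n8 : L8.length = 2000 := by decide +kernel

theorem n9 : L9.length = 2000 := by decide +kernel

theorem n10 : L10.length = 2000 := by decide +kernel

theorem n11 : L11.length = 2000 := by decide +kernel

theorem n12 : L12.length = 2000 := by decide +kernel

theorem n13 : L13.length = 2000 := by decide +kernel

theorem n14 : L14.length = 2000 := by decide +kernel

theorem n15 : L15.length = 2000 := by decide +kernel

theorem n16 : L16.length = 2000 := by decide +kernel

theorem n17 : L17.length = 2000 := by decide +kernel

theorem n18 : L18.length = 2000 := by decide +kernel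

theorem n19 : L19.length = 2000 := by decide +kernel

theorem n20 : L20.length = 2000 := by decide +kernel

theorem n21 : L21.length = 1264 := by decide +kernel

theorem chk_LL : chk LL 1 = 984818244535754528103549039458486305 := by
  rw [LL, chk_flatten]
  simp only [chunks, List.foldl]
  rw [c0, c1, c2, c3, c4, c5, c6, c7, c8, c9, c10, c11, c12, c13, c14, c15, c16, c17, c18, c19, c20, c21]

/-- `LL` is strictly increasing -/
theorem sorted : LL.Pairwise (· < ·) :=
  (chk_spec LL 1 (by rw [chk_LL]; norm_num)).1

/-- `LL` has no repetition -/
theorem nodup : LL.Nodup := sorted.imp (fun hab => Nat.ne_of_lt hab)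

/-- the length of `LL` (the identity table is included) -/
theorem length_LL : LL.length = 43264 := by
  rw [LL, List.length_flatten]
  simp only [chunks, List.map, List.sum_cons, List.sum_nil]
  rw [n0, n1, n2, n3, n4, n5, n6, n7, n8, n9, n10, n11, n12, n13, n14, n15, n16, n17, n18, n19, n20, n21]
  norm_num

/-- the corrected form of LNODUP -/
theorem nodup_len : LL.Nodup ∧ LL.length = 43264 := ⟨nodup, length_LL⟩

end Cfsg.Agent.Lib.Helper74.M24LNODUP
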