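import Mathlib
import Cfsg.Prelude.Def_Characters
import Cfsg.Agent.Lib.CT.PInt

/-!
# Idempotents of the group algebra with `p`-integral coefficients

Main result (`osima_sum_conj_eq_zero`): if `f : G → ℂ` has `p`-integral values and is a
convolution idempotent (`∑ h, f (g * h⁻¹) * f h = f g`), then `∑ g, f (g * y * g⁻¹) = 0`
for every `y` of order divisible by `p`.  (Osima: central idempotents with `p`-integral
coefficients are supported on the `p`-regular elements.)

The proof compares the ranks of the idempotent acting on the modules induced from two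
linear characters `θ`, `θ * θ₀` of the cyclic group generated by `y`, `θ₀` of order `p`.
-/

set_option autoImplicit false

namespace Cfsg.Agent.Lib.Helper74.Osima

open Matrix Cfsg.Agent.Lib.CT.PInt

variable {p : ℕ}

/-! ### The ring of `p`-integral numbers -/

theorem pint_neg (hp : p.Prime) {z : ℂ} (hz : IsPInt p z) : IsPInt p (-z) := by
  have h1 : -z = (-1 : ℂ) * z := by ring
  rw [h1]
  exact pint_mul hp (pint_of_isIntegral hp isIntegral_one.neg) hz

/-- the subring of `p`-integral complex numbers -/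
def pintSubring (p : ℕ) (hp : p.Prime) : Subring ℂ where
  carrier := {z | IsPInt p z}
  mul_mem' := fun ha hb => pint_mul hp ha hb
  one_mem' := pint_one hp
  add_mem' := fun ha hb => pint_add hp ha hb
  zero_mem' := pint_zero hp
  neg_mem' := fun hz => pint_neg hp hz

theorem mem_pintSubring (hp : p.Prime) (z : ℂ) : z ∈ pintSubring p hp ↔ IsPInt p z := Iff.rfl

theorem not_pint_inv_prime (hp : p.Prime) : ¬ IsPInt p (1 / (p : ℂ)) := by
  intro h
  have h1 : IsPInt p (((1 : ℕ) : ℂ) / ((p : ℕ) : ℂ)) := by simpa using h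
  have h2 := pint_dvd hp hp.ne_zero h1 1 (by simp)
  rw [pow_one] at h2
  exact hp.one_lt.ne' (Nat.dvd_one.mp h2)

theorem one_add_mul_ne_zero (hp : p.Prime) {π w β : ℂ} (hπ : π ^ p = (p : ℂ) * w)
    (hw : IsPInt p w) (hβ : IsPInt p β) : 1 + π * β ≠ 0 := by
  intro h
  have h1 : π * β = -1 := by linear_combination h
  have h2 : (π * β) ^ p = (-1) ^ p := by rw [h1]
  rw [mul_pow, hπ] at h2
  have hp0 : (p : ℂ) ≠ 0 := Nat.cast_ne_zero.mpr hp.ne_zero
  have h4 : ((-1 : ℂ) ^ p) * ((-1) ^ p) = 1 := by rw [← mul_pow]; simp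
  have h3 : (1 : ℂ) / (p : ℂ) = (-1) ^ p * (w * β ^ p) := by
    rw [div_eq_iff hp0]
    linear_combination (-(-1 : ℂ) ^ p) * h2 - h4
  apply not_pint_inv_prime hp
  rw [h3]
  exact pint_mul hp (pint_pow hp (pint_neg hp (pint_one hp)) p)
    (pint_mul hp hw (pint_pow hp hβ p))

/-- `det (1 + π • N) ≠ 0` when `N` has `p`-integral entries and `π ^ p ∈ p R`. -/
theorem det_one_add_smul_ne_zero {ι : Type*} [Fintype ι] [DecidableEq ι] (hp : p.Prime)
    {π w : ℂ} (hπint : IsPInt p π) (hπ : π ^ p = (p : ℂ) * w) (hw : IsPInt p w)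
    (N : Matrix ι ι ℂ) (hN : ∀ i j, IsPInt p (N i j)) : (1 + π • N).det ≠ 0 := by
  let N₀ : Matrix ι ι (pintSubring p hp) := fun i j => ⟨N i j, hN i j⟩
  let π₀ : pintSubring p hp := ⟨π, hπint⟩
  have h1 : (1 + π • N) = (pintSubring p hp).subtype.mapMatrix (1 + π₀ • N₀) := by
    ext i j
    by_cases hij : i = j
    · subst hij
      simp only [RingHom.mapMatrix_apply, Matrix.map_apply, Matrix.add_apply, Matrix.one_apply_eq,
        Subring.coe_subtype, Subring.coe_add, Subring.coe_one, Matrix.smul_apply,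
        smul_eq_mul]
      rfl
    · simp only [RingHom.mapMatrix_apply, Matrix.map_apply, Matrix.add_apply,
        Matrix.one_apply_ne hij, Subring.coe_subtype, Subring.coe_add, Subring.coe_zero,
        Matrix.smul_apply, smul_eq_mul]
      rfl
  rw [h1, ← RingHom.map_det, Matrix.det_one_add_smul]
  set c := (Polynomial.eval π₀ (Matrix.det (1 + (Polynomial.X : Polynomial (pintSubring p hp)) •
    N₀.map Polynomial.C)).divX.divX) with hc
  have h2 : (pintSubring p hp).subtype (1 + N₀.trace * π₀ + c * π₀ ^ 2)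
      = 1 + π * ((N₀.trace + c * π₀ : pintSubring p hp) : ℂ) := by
    simp [π₀]
    ring
  rw [h2]
  exact one_add_mul_ne_zero hp hπ hw (N₀.trace + c * π₀).2

/-- `(ξ - 1) ^ p ∈ p R` for a `p`-th root of unity `ξ`. -/
theorem sub_one_pow_prime (hp : p.Prime) {ξ : ℂ} (hξ : ξ ^ p = 1) (hξint : IsPInt p ξ) :
    ∃ w : ℂ, IsPInt p w ∧ (ξ - 1) ^ p = (p : ℂ) * w := by
  let ξ₀ : pintSubring p hp := ⟨ξ, hξint⟩
  obtain ⟨r, hr⟩ := exists_add_pow_prime_eq hp ξ₀ (-1 : pintSubring p hp)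
  have hr' := congrArg (pintSubring p hp).subtype hr
  simp only [map_add, map_pow, map_mul, map_neg, map_one, map_natCast] at hr'
  have hξ₀ : (pintSubring p hp).subtype ξ₀ = ξ := rfl
  rw [hξ₀, hξ] at hr'
  have hsub : ξ - 1 = ξ + -1 := by ring
  rcases hp.eq_two_or_odd' with h2 | hodd
  · refine ⟨1 - ξ * (r : ℂ), ?_, ?_⟩
    · exact (pintSubring p hp).sub_mem (pint_one hp) ((pintSubring p hp).mul_mem hξint r.2)
    · rw [hsub, hr']
      subst h2
      simp
      ring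
  · refine ⟨-(ξ * (r : ℂ)), ?_, ?_⟩
    · exact (pintSubring p hp).neg_mem ((pintSubring p hp).mul_mem hξint r.2)
    · rw [hsub, hr', hodd.neg_one_pow]
      simp
      ring

/-! ### Ranks of congruent idempotent matrices -/

theorem trace_toLin' {ι : Type*} [Fintype ι] [DecidableEq ι] (E : Matrix ι ι ℂ) :
    LinearMap.trace ℂ (ι → ℂ) (Matrix.toLin' E) = E.trace := by
  rw [LinearMap.trace_eq_matrix_trace ℂ (Pi.basisFun ℂ ι), LinearMap.toMatrix_eq_toMatrix',
    LinearMap.toMatrix'_toLin']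

theorem trace_eq_finrank_range {ι : Type*} [Fintype ι] [DecidableEq ι] (E : Matrix ι ι ℂ)
    (hE : E * E = E) :
    E.trace = (Module.finrank ℂ (LinearMap.range (Matrix.toLin' E)) : ℂ) := by
  have hidem : IsIdempotentElem (Matrix.toLin' E) := by
    show Matrix.toLin' E * Matrix.toLin' E = Matrix.toLin' E
    rw [Module.End.mul_eq_comp, ← Matrix.toLin'_mul, hE]
  rw [← trace_toLin', (LinearMap.IsIdempotentElem.isProj_range _ hidem).trace]

theorem finrank_range_le {ι : Type*} [Fintype ι] [DecidableEq ι] (E E' : Matrix ι ι ℂ)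
    (hE : E * E = E) (hdet : (1 + E * (E' - E) * E).det ≠ 0) :
    Module.finrank ℂ (LinearMap.range (Matrix.toLin' E))
      ≤ Module.finrank ℂ (LinearMap.range (Matrix.toLin' E')) := by
  let φ : LinearMap.range (Matrix.toLin' E) →ₗ[ℂ] LinearMap.range (Matrix.toLin' E') :=
    ((Matrix.toLin' E').domRestrict (LinearMap.range (Matrix.toLin' E))).codRestrict
      (LinearMap.range (Matrix.toLin' E')) (fun v => LinearMap.mem_range_self _ _)
  apply LinearMap.finrank_le_finrank_of_injective (f := φ)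
  rw [← LinearMap.ker_eq_bot, LinearMap.ker_eq_bot']
  rintro ⟨v, hv⟩ hφ
  have h1 : E' *ᵥ v = 0 := by
    have := congrArg Subtype.val hφ
    exact this
  have h2 : E *ᵥ v = v := by
    obtain ⟨u, rfl⟩ := hv
    rw [Matrix.toLin'_apply, Matrix.mulVec_mulVec, hE]
  have h3 : (1 + E * (E' - E) * E) *ᵥ v = 0 := by
    rw [Matrix.add_mulVec, Matrix.one_mulVec, ← Matrix.mulVec_mulVec, h2, ← Matrix.mulVec_mulVec,
      Matrix.sub_mulVec, h1, h2, zero_sub, Matrix.mulVec_neg, h2, add_neg_cancel]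
  have h4 := Matrix.eq_zero_of_mulVec_eq_zero hdet h3
  exact Subtype.ext h4

/-- Two idempotent matrices with `p`-integral entries which are congruent modulo `π`
(with `π ^ p ∈ p R`) have the same trace. -/
theorem trace_eq_of_idem_congr {ι : Type*} [Fintype ι] [DecidableEq ι] (hp : p.Prime)
    {π w : ℂ} (hπint : IsPInt p π) (hπ : π ^ p = (p : ℂ) * w) (hw : IsPInt p w)
    (E E' D : Matrix ι ι ℂ) (hE : E * E = E) (hE' : E' * E' = E') (hD : E' = E + π • D)
    (hEint : ∀ i j, IsPInt p (E i j)) (hE'int : ∀ i j, IsPInt p (E' i j))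
    (hDint : ∀ i j, IsPInt p (D i j)) : E.trace = E'.trace := by
  have hmul : ∀ X Y : Matrix ι ι ℂ, (∀ i j, IsPInt p (X i j)) → (∀ i j, IsPInt p (Y i j)) →
      ∀ i j, IsPInt p ((X * Y) i j) := by
    intro X Y hX hY i j
    rw [Matrix.mul_apply]
    exact pint_sum hp _ _ fun k _ => pint_mul hp (hX i k) (hY k j)
  have h1 : (1 + E * (E' - E) * E).det ≠ 0 := by
    have : 1 + E * (E' - E) * E = 1 + π • (E * D * E) := by
      rw [hD, add_sub_cancel_left, Matrix.mul_smul, Matrix.smul_mul]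
    rw [this]
    exact det_one_add_smul_ne_zero hp hπint hπ hw _ (hmul _ _ (hmul _ _ hEint hDint) hEint)
  have h2 : (1 + E' * (E - E') * E').det ≠ 0 := by
    have : 1 + E' * (E - E') * E' = 1 + π • (E' * (-D) * E') := by
      rw [hD, sub_add_cancel_left, Matrix.mul_neg, Matrix.neg_mul, Matrix.mul_neg, Matrix.neg_mul,
        smul_neg, Matrix.mul_smul, Matrix.smul_mul]
    rw [this]
    refine det_one_add_smul_ne_zero hp hπint hπ hw _ (hmul _ _ (hmul _ _ hE'int ?_) hE'int)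
    intro i j
    rw [Matrix.neg_apply]
    exact pint_neg hp (hDint i j)
  rw [trace_eq_finrank_range E hE, trace_eq_finrank_range E' hE']
  congr 1
  exact le_antisymm (finrank_range_le E E' hE h1) (finrank_range_le E' E hE' h2)

/-! ### The idempotent acting on an induced module -/

section Induced

open Classical

universe u
variable {G : Type u} [Group G] [Fintype G]

/-- summing over cosets and then over the subgroup -/
theorem sum_coset (A : Subgroup G) (F : G → ℂ) :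
    ∑ q : G ⧸ A, ∑ a : A, F (q.out * (a : G)) = ∑ g : G, F g := by
  rw [← Fintype.sum_prod_type']
  refine Fintype.sum_bijective (fun qa : (G ⧸ A) × A => qa.1.out * (qa.2 : G)) ⟨?_, ?_⟩ _ _
    (fun _ => rfl)
  · rintro ⟨q, a⟩ ⟨q', a'⟩ h
    have h' : q.out * (a : G) = q'.out * (a' : G) := h
    have h1 : (QuotientGroup.mk (q.out * (a : G)) : G ⧸ A)
        = QuotientGroup.mk (q'.out * (a' : G)) := by rw [h']
    rw [QuotientGroup.mk_mul_of_mem _ a.2, QuotientGroup.mk_mul_of_mem _ a'.2,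
      QuotientGroup.out_eq', QuotientGroup.out_eq'] at h1
    subst h1
    have h2 : (a : G) = (a' : G) := mul_left_cancel h'
    rw [Subtype.ext h2]
  · intro g
    have h1 : (QuotientGroup.mk ((QuotientGroup.mk g : G ⧸ A).out) : G ⧸ A) = QuotientGroup.mk g :=
      QuotientGroup.out_eq' _
    have h2 : ((QuotientGroup.mk g : G ⧸ A).out)⁻¹ * g ∈ A := QuotientGroup.eq.1 h1
    exact ⟨(QuotientGroup.mk g, ⟨_, h2⟩), by simp⟩

/-- the matrix of `∑ f g • g` on the module induced from `A` with coefficients `c` -/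
noncomputable def emat (A : Subgroup G) (f : G → ℂ) (c : A → ℂ) : Matrix (G ⧸ A) (G ⧸ A) ℂ :=
  fun l i => ∑ a : A, c a * f (l.out * (a : G) * (i.out)⁻¹)

theorem emat_apply (A : Subgroup G) (f : G → ℂ) (c : A → ℂ) (l i : G ⧸ A) :
    emat A f c l i = ∑ a : A, c a * f (l.out * (a : G) * (i.out)⁻¹) := rfl

theorem emat_pint (hp : p.Prime) (A : Subgroup G) (f : G → ℂ) (c : A → ℂ)
    (hf : ∀ g, IsPInt p (f g)) (hc : ∀ a, IsPInt p (c a)) (l i : G ⧸ A) :
    IsPInt p (emat A f c l i) :=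
  pint_sum hp _ _ fun a _ => pint_mul hp (hc a) (hf _)

theorem emat_trace (A : Subgroup G) (f : G → ℂ) (c : A → ℂ) :
    (emat A f c).trace = ∑ a : A, c a * ∑ i : G ⧸ A, f (i.out * (a : G) * (i.out)⁻¹) := by
  simp only [Matrix.trace, Matrix.diag_apply, emat_apply, Finset.mul_sum]
  rw [Finset.sum_comm]

/-- a convolution idempotent acts as an idempotent on the induced module -/
theorem emat_mul_self (A : Subgroup G) (f : G → ℂ)
    (hf : ∀ g, ∑ h, f (g * h⁻¹) * f h = f g) (θ : A →* ℂˣ) :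
    emat A f (fun a => ((θ a : ℂˣ) : ℂ)) * emat A f (fun a => ((θ a : ℂˣ) : ℂ))
      = emat A f (fun a => ((θ a : ℂˣ) : ℂ)) := by
  ext l i
  rw [Matrix.mul_apply]
  simp only [emat_apply]
  -- expand the product
  have h1 : ∀ j : G ⧸ A,
      (∑ a : A, ((θ a : ℂˣ) : ℂ) * f (l.out * (a : G) * (j.out)⁻¹)) *
        (∑ b : A, ((θ b : ℂˣ) : ℂ) * f (j.out * (b : G) * (i.out)⁻¹))
      = ∑ b : A, ∑ c : A, ((θ c : ℂˣ) : ℂ) *
          (f (l.out * (c : G) * (i.out)⁻¹ * (j.out * (b : G) * (i.out)⁻¹)⁻¹) *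
            f (j.out * (b : G) * (i.out)⁻¹)) := by
    intro j
    rw [Finset.sum_mul_sum, Finset.sum_comm]
    refine Finset.sum_congr rfl fun b _ => ?_
    refine Fintype.sum_equiv (Equiv.mulRight b) _ _ fun a => ?_
    simp only [Equiv.coe_mulRight, map_mul, Units.val_mul, Subgroup.coe_mul]
    have h2 : l.out * ((a : G) * (b : G)) * (i.out)⁻¹ * (j.out * (b : G) * (i.out)⁻¹)⁻¹
        = l.out * (a : G) * (j.out)⁻¹ := by group
    rw [h2]
    ring
  simp only [h1]
  -- collect the sum over the group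
  have h3 : ∀ c : A, ∑ j : G ⧸ A, ∑ b : A,
      (f (l.out * (c : G) * (i.out)⁻¹ * (j.out * (b : G) * (i.out)⁻¹)⁻¹) *
            f (j.out * (b : G) * (i.out)⁻¹)) = f (l.out * (c : G) * (i.out)⁻¹) := by
    intro c
    rw [sum_coset A (fun g => f (l.out * (c : G) * (i.out)⁻¹ * (g * (i.out)⁻¹)⁻¹) *
      f (g * (i.out)⁻¹))]
    rw [← hf (l.out * (c : G) * (i.out)⁻¹)]
    exact Fintype.sum_equiv (Equiv.mulRight (i.out)⁻¹) _ _ fun g => rfl
  calc ∑ j : G ⧸ A, ∑ b : A, ∑ c : A, ((θ c : ℂˣ) : ℂ) *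
          (f (l.out * (c : G) * (i.out)⁻¹ * (j.out * (b : G) * (i.out)⁻¹)⁻¹) *
            f (j.out * (b : G) * (i.out)⁻¹))
      = ∑ c : A, ((θ c : ℂˣ) : ℂ) * ∑ j : G ⧸ A, ∑ b : A,
          (f (l.out * (c : G) * (i.out)⁻¹ * (j.out * (b : G) * (i.out)⁻¹)⁻¹) *
            f (j.out * (b : G) * (i.out)⁻¹)) := by
        simp only [Finset.mul_sum]
        rw [Finset.sum_congr rfl fun j _ => Finset.sum_comm]
        rw [Finset.sum_comm]
    _ = ∑ c : A, ((θ c : ℂˣ) : ℂ) * f (l.out * (c : G) * (i.out)⁻¹) := by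
        simp only [h3]

end Induced

/-! ### Fourier inversion on a finite abelian group -/

section Fourier

theorem exists_hom_ne_one {B : Type*} [Group B] [Finite B] (hcomm : ∀ a b : B, a * b = b * a)
    {a : B} (ha : a ≠ 1) : ∃ φ : B →* ℂˣ, φ a ≠ 1 := by
  let inst : CommGroup B := { ‹Group B› with mul_comm := hcomm }
  have : NeZero (Monoid.exponent B) := ⟨Monoid.exponent_ne_zero_of_finite⟩
  exact CommGroup.exists_apply_ne_one_of_hasEnoughRootsOfUnity B ℂ ha

theorem finite_hom {B : Type*} [Group B] [Finite B] (hcomm : ∀ a b : B, a * b = b * a) :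
    Finite (B →* ℂˣ) := by
  let inst : CommGroup B := { ‹Group B› with mul_comm := hcomm }
  have : NeZero (Monoid.exponent B) := ⟨Monoid.exponent_ne_zero_of_finite⟩
  obtain ⟨e⟩ := CommGroup.monoidHom_mulEquiv_of_hasEnoughRootsOfUnity B ℂ
  exact Finite.of_equiv B e.symm.toEquiv

theorem fourier_inversion {B : Type*} [Group B] [Fintype B] (hcomm : ∀ a b : B, a * b = b * a)
    (F : B → ℂ) (h : ∀ θ : B →* ℂˣ, ∑ b : B, ((θ b : ℂˣ) : ℂ) * F b = 0) (b : B) : F b = 0 := by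
  classical
  have hfin : Finite (B →* ℂˣ) := finite_hom hcomm
  let _ := Fintype.ofFinite (B →* ℂˣ)
  have horth : ∀ c : B, c ≠ 1 → ∑ θ : B →* ℂˣ, ((θ c : ℂˣ) : ℂ) = 0 := by
    intro c hc
    obtain ⟨φ, hφ⟩ := exists_hom_ne_one hcomm hc
    have h1 : ∑ θ : B →* ℂˣ, ((θ c : ℂˣ) : ℂ)
        = ((φ c : ℂˣ) : ℂ) * ∑ θ : B →* ℂˣ, ((θ c : ℂˣ) : ℂ) := by
      rw [Finset.mul_sum]
      refine (Fintype.sum_equiv (Equiv.mulLeft φ) _ _ fun θ => ?_).symm
      simp
    have h2 : ((φ c : ℂˣ) : ℂ) ≠ 1 := fun h => hφ (Units.ext h)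
    have h3 : (1 - ((φ c : ℂˣ) : ℂ)) * ∑ θ : B →* ℂˣ, ((θ c : ℂˣ) : ℂ) = 0 := by
      linear_combination h1
    rcases mul_eq_zero.1 h3 with h4 | h4
    · exact absurd (sub_eq_zero.1 h4).symm h2
    · exact h4
  have h5 : ∑ θ : B →* ℂˣ, ((θ b⁻¹ : ℂˣ) : ℂ) * ∑ a : B, ((θ a : ℂˣ) : ℂ) * F a = 0 := by
    simp only [h, mul_zero, Finset.sum_const_zero]
  have h6 : ∑ θ : B →* ℂˣ, ((θ b⁻¹ : ℂˣ) : ℂ) * ∑ a : B, ((θ a : ℂˣ) : ℂ) * F a
      = ∑ a : B, F a * ∑ θ : B →* ℂˣ, ((θ (b⁻¹ * a) : ℂˣ) : ℂ) := by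
    simp only [Finset.mul_sum]
    rw [Finset.sum_comm]
    refine Finset.sum_congr rfl fun a _ => Finset.sum_congr rfl fun θ _ => ?_
    rw [map_mul, Units.val_mul]; ring
  rw [h6, Finset.sum_eq_single b] at h5
  · have h7 : ∑ θ : B →* ℂˣ, ((θ (b⁻¹ * b) : ℂˣ) : ℂ) = (Fintype.card (B →* ℂˣ) : ℂ) := by
      simp
    rw [h7] at h5
    rcases mul_eq_zero.1 h5 with h8 | h8
    · exact h8
    · exfalso
      have : Fintype.card (B →* ℂˣ) ≠ 0 := Fintype.card_ne_zero
      exact this (by exact_mod_cast h8)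
  · intro a _ hab
    rw [horth (b⁻¹ * a) (fun h => hab (by
      have := congrArg (fun z => b * z) h
      simpa using this)), mul_zero]
  · intro h; exact absurd (Finset.mem_univ b) h

end Fourier

/-! ### The main theorem -/

section Main

open Classical

universe u
variable {G : Type u} [Group G] [Fintype G]

/-- **Osima's theorem**, general form: a convolution idempotent with `p`-integral values
has zero class sums on elements of order divisible by `p`. -/
theorem osima_sum_conj_eq_zero (hp : p.Prime) (f : G → ℂ) (hfint : ∀ g, IsPInt p (f g))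
    (hf : ∀ g, ∑ h, f (g * h⁻¹) * f h = f g) (y : G) (hy : p ∣ orderOf y) :
    ∑ g : G, f (g * y * g⁻¹) = 0 := by
  obtain ⟨A, hA⟩ : ∃ A : Subgroup G, A = Subgroup.zpowers y := ⟨_, rfl⟩
  have hyA : y ∈ A := by rw [hA]; exact Subgroup.mem_zpowers y
  have hmem : ∀ a : A, (a : G) ∈ Subgroup.zpowers y := fun a =>
    (SetLike.ext_iff.1 hA (a : G)).1 a.2
  have hcomm : ∀ a b : A, a * b = b * a := by
    intro a b
    have ha := hmem a
    have hb := hmem b
    obtain ⟨m, hm⟩ := Subgroup.mem_zpowers_iff.1 ha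
    obtain ⟨n, hn⟩ := Subgroup.mem_zpowers_iff.1 hb
    apply Subtype.ext
    show (a : G) * (b : G) = (b : G) * (a : G)
    rw [← hm, ← hn, ← _root_.zpow_add, ← _root_.zpow_add, add_comm]
  obtain ⟨yA, hyA'⟩ : ∃ yA : A, (yA : G) = y := ⟨⟨y, hyA⟩, rfl⟩
  have hN : 0 < orderOf y := orderOf_pos y
  have hpowN : ∀ a : A, a ^ orderOf y = 1 := by
    intro a
    have ha := hmem a
    obtain ⟨m, hm⟩ := Subgroup.mem_zpowers_iff.1 ha
    apply Subtype.ext
    show (a : G) ^ orderOf y = 1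
    rw [← hm, ← zpow_natCast, ← _root_.zpow_mul, mul_comm, _root_.zpow_mul, zpow_natCast,
      pow_orderOf_eq_one, _root_.one_zpow]
  have hnat : ∀ a : A, ∃ n : ℕ, yA ^ n = a := by
    intro a
    have ha := hmem a
    rw [← mem_powers_iff_mem_zpowers] at ha
    obtain ⟨n, hn⟩ := (Submonoid.mem_powers_iff _ _).1 ha
    exact ⟨n, Subtype.ext (by rw [Subgroup.coe_pow, hyA', hn])⟩
  obtain ⟨k, hk⟩ := hy
  have hk0 : 0 < k := by
    rcases Nat.eq_zero_or_pos k with h | h
    · rw [h, mul_zero] at hk; omega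
    · exact h
  have hyk : yA ^ k ≠ 1 := by
    intro h
    have h1 : y ^ k = 1 := by
      have := congrArg Subtype.val h
      rwa [Subgroup.coe_pow, hyA'] at this
    have h2 : k < orderOf y := by
      rw [hk]
      have := hp.one_lt
      nlinarith
    exact pow_ne_one_of_lt_orderOf hk0.ne' h2 h1
  obtain ⟨ψ, hψ⟩ := exists_hom_ne_one hcomm hyk
  obtain ⟨θ₀, hθ₀⟩ : ∃ θ₀ : A →* ℂˣ, ∀ a, θ₀ a = ψ a ^ k := ⟨ψ ^ k, fun a => rfl⟩
  have hθ₀y : θ₀ yA ≠ 1 := by rw [hθ₀, ← map_pow]; exact hψ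
  have hθ₀p : ∀ a : A, (θ₀ a) ^ p = 1 := by
    intro a
    rw [hθ₀, ← pow_mul, ← map_pow, mul_comm, ← hk, hpowN, map_one]
  obtain ⟨ξ, hξ⟩ : ∃ ξ : ℂ, ξ = ((θ₀ yA : ℂˣ) : ℂ) := ⟨_, rfl⟩
  have hξp : ξ ^ p = 1 := by rw [hξ, ← Units.val_pow_eq_pow_val, hθ₀p, Units.val_one]
  have hξ1 : ξ ≠ 1 := fun h => hθ₀y (Units.ext (by rw [← hξ, h]; rfl))
  have hint : ∀ (θ : A →* ℂˣ) (a : A), IsIntegral ℤ ((θ a : ℂˣ) : ℂ) := by
    intro θ a
    apply IsIntegral.of_pow hN
    rw [← Units.val_pow_eq_pow_val, ← map_pow, hpowN, map_one, Units.val_one]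
    exact isIntegral_one
  have hξint : IsPInt p ξ := by rw [hξ]; exact pint_of_isIntegral hp (hint θ₀ yA)
  obtain ⟨w, hw, hπ⟩ := sub_one_pow_prime hp hξp hξint
  have hπint : IsPInt p (ξ - 1) := by
    have : ξ - 1 = ξ + -1 := by ring
    rw [this]
    exact pint_add hp hξint (pint_neg hp (pint_one hp))
  have hu : ∀ a : A, ∃ u : ℂ, IsPInt p u ∧ ((θ₀ a : ℂˣ) : ℂ) - 1 = (ξ - 1) * u := by
    intro a
    obtain ⟨n, hn⟩ := hnat a
    refine ⟨∑ i ∈ Finset.range n, ξ ^ i, ?_, ?_⟩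
    · exact pint_sum hp _ _ fun i _ => pint_pow hp hξint i
    · rw [← hn, map_pow, Units.val_pow_eq_pow_val, ← hξ, mul_geom_sum]
  choose u hu1 hu2 using hu
  have hkey : ∀ θ : A →* ℂˣ, ∑ a : A, ((θ a : ℂˣ) : ℂ) *
      ((((θ₀ a : ℂˣ) : ℂ) - 1) * ∑ i : G ⧸ A, f (i.out * (a : G) * (i.out)⁻¹)) = 0 := by
    intro θ
    have hE := emat_mul_self A f hf θ
    have hE' := emat_mul_self A f hf (θ * θ₀)
    have hD : emat A f (fun a => (((θ * θ₀) a : ℂˣ) : ℂ))
        = emat A f (fun a => ((θ a : ℂˣ) : ℂ))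
          + (ξ - 1) • emat A f (fun a => ((θ a : ℂˣ) : ℂ) * u a) := by
      ext l i
      simp only [Matrix.add_apply, Matrix.smul_apply, emat_apply, smul_eq_mul, Finset.mul_sum,
        ← Finset.sum_add_distrib]
      refine Finset.sum_congr rfl fun a _ => ?_
      have h1 := hu2 a
      rw [MonoidHom.mul_apply, Units.val_mul]
      linear_combination (((θ a : ℂˣ) : ℂ) * f (l.out * (a : G) * (i.out)⁻¹)) * h1
    have htr := trace_eq_of_idem_congr hp hπint hπ hw _ _ _ hE hE' hD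
      (emat_pint hp A f _ hfint fun a => pint_of_isIntegral hp (hint θ a))
      (emat_pint hp A f _ hfint fun a => pint_of_isIntegral hp (hint (θ * θ₀) a))
      (emat_pint hp A f _ hfint fun a => pint_mul hp (pint_of_isIntegral hp (hint θ a)) (hu1 a))
    rw [emat_trace, emat_trace] at htr
    have h2 : ∑ a : A, ((θ a : ℂˣ) : ℂ) *
        ((((θ₀ a : ℂˣ) : ℂ) - 1) * ∑ i : G ⧸ A, f (i.out * (a : G) * (i.out)⁻¹))
        = ∑ a : A, (((θ * θ₀) a : ℂˣ) : ℂ) * ∑ i : G ⧸ A, f (i.out * (a : G) * (i.out)⁻¹)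
          - ∑ a : A, ((θ a : ℂˣ) : ℂ) * ∑ i : G ⧸ A, f (i.out * (a : G) * (i.out)⁻¹) := by
      rw [← Finset.sum_sub_distrib]
      refine Finset.sum_congr rfl fun a _ => ?_
      rw [MonoidHom.mul_apply, Units.val_mul]
      ring
    rw [h2, htr, sub_self]
  have hF := fourier_inversion hcomm (fun a : A => (((θ₀ a : ℂˣ) : ℂ) - 1) *
    ∑ i : G ⧸ A, f (i.out * (a : G) * (i.out)⁻¹)) hkey yA
  have hFy : ∑ i : G ⧸ A, f (i.out * y * (i.out)⁻¹) = 0 := by
    rcases mul_eq_zero.1 hF with h | h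
    · rw [← hξ] at h
      exact absurd (sub_eq_zero.1 h) hξ1
    · rw [hyA'] at h
      exact h
  rw [← sum_coset A (fun g => f (g * y * g⁻¹))]
  have hq : ∀ q : G ⧸ A, ∑ a : A, f (q.out * (a : G) * y * (q.out * (a : G))⁻¹)
      = (Fintype.card A : ℂ) * f (q.out * y * (q.out)⁻¹) := by
    intro q
    have h1 : ∀ a : A, q.out * (a : G) * y * (q.out * (a : G))⁻¹ = q.out * y * (q.out)⁻¹ := by
      intro a
      have hc : (a : G) * y = y * (a : G) := by
        have := congrArg Subtype.val (hcomm a yA)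
        rwa [Subgroup.coe_mul, Subgroup.coe_mul, hyA'] at this
      calc q.out * (a : G) * y * (q.out * (a : G))⁻¹
          = q.out * ((a : G) * y) * (a : G)⁻¹ * (q.out)⁻¹ := by group
        _ = q.out * y * (q.out)⁻¹ := by rw [hc]; group
    simp only [h1, Finset.sum_const, Finset.card_univ, nsmul_eq_mul]
  simp only [hq, ← Finset.mul_sum, hFy, mul_zero]

end Main

end Cfsg.Agent.Lib.Helper74.Osima
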