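import Mathlib
import Cfsg.Prelude.Def_Characters
import Cfsg.Prelude.Def_Blocks
import Cfsg.Agent.Lib.CT.PInt
import Cfsg.Agent.Lib.CT.MatCoeff
import Cfsg.Agent.Lib.CT.Ops
import Cfsg.Agent.Lib.CT.Wedderburn
import Cfsg.Agent.Lib.Helper80.Integrality
import Cfsg.Agent.Lib.Helper74.Osima

/-!
# Characters of `p`-defect zero vanish on `p`-singular elements
-/

set_option autoImplicit false

namespace Cfsg.Agent.Lib.Helper74.DefectZero

open Matrix Cfsg Cfsg.Agent.Lib.CT.PInt Cfsg.Agent.Lib.CT.MatCoeff Cfsg.Agent.Lib.Helper74.Osima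

universe u
variable {G : Type u} [Group G] {n : ℕ}

/-- generalized orthogonality: `∑ h, χ (h * a) * χ h⁻¹ = |G| / χ 1 * χ a` -/
theorem gen_orth [Fintype G] (ρ : Representation ℂ G (Fin n → ℂ)) [ρ.IsIrreducible] (a : G) :
    ∑ h : G, ρ.character (h * a) * ρ.character h⁻¹
      = (Fintype.card G : ℂ) / n * ρ.character a := by
  have h1 : ∀ h : G, ρ.character (h * a) * ρ.character h⁻¹
      = ∑ i, ∑ j, ∑ k, mat ρ a j i * (mat ρ h i j * mat ρ h⁻¹ k k) := by
    intro h
    rw [character_eq_trace, character_eq_trace, mat_mul, Matrix.trace, Matrix.trace,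
      Finset.sum_mul]
    refine Finset.sum_congr rfl fun i _ => ?_
    rw [Matrix.diag_apply, Matrix.mul_apply, Finset.sum_mul]
    refine Finset.sum_congr rfl fun j _ => ?_
    rw [Finset.mul_sum]
    refine Finset.sum_congr rfl fun k _ => ?_
    rw [Matrix.diag_apply]
    ring
  simp only [h1]
  rw [Finset.sum_comm]
  have h2 : ∀ i : Fin n, ∑ h : G, ∑ j, ∑ k, mat ρ a j i * (mat ρ h i j * mat ρ h⁻¹ k k)
      = (Fintype.card G : ℂ) / n * mat ρ a i i := by
    intro i
    rw [Finset.sum_comm]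
    have h3 : ∀ j : Fin n, ∑ h : G, ∑ k, mat ρ a j i * (mat ρ h i j * mat ρ h⁻¹ k k)
        = if j = i then (Fintype.card G : ℂ) / n * mat ρ a i i else 0 := by
      intro j
      rw [Finset.sum_comm]
      simp only [← Finset.mul_sum, schur_orthogonality]
      by_cases hji : j = i
      · subst hji
        simp
        ring
      · rw [if_neg hji]
        have : ∀ k : Fin n, ¬ (i = k ∧ j = k) := fun k hk => hji (hk.2.trans hk.1.symm)
        simp [this]
    simp only [h3]
    simp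
  simp only [h2]
  rw [← Finset.mul_sum, character_eq_trace, Matrix.trace]
  rfl

/-- the coefficient function of the primitive central idempotent is a convolution
idempotent -/
theorem idem_conv [Fintype G] (ρ : Representation ℂ G (Fin n → ℂ)) [ρ.IsIrreducible] (g : G) :
    ∑ h : G, ((n : ℂ) / (Fintype.card G : ℂ) * ρ.character (g * h⁻¹)⁻¹) *
        ((n : ℂ) / (Fintype.card G : ℂ) * ρ.character h⁻¹)
      = (n : ℂ) / (Fintype.card G : ℂ) * ρ.character g⁻¹ := by
  have hn : (n : ℂ) ≠ 0 := Nat.cast_ne_zero.mpr (pos_dim ρ).ne'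
  have hG : (Fintype.card G : ℂ) ≠ 0 := Nat.cast_ne_zero.mpr Fintype.card_ne_zero
  have h1 : ∀ h : G, ((n : ℂ) / (Fintype.card G : ℂ) * ρ.character (g * h⁻¹)⁻¹) *
        ((n : ℂ) / (Fintype.card G : ℂ) * ρ.character h⁻¹)
      = ((n : ℂ) / (Fintype.card G : ℂ)) ^ 2 * (ρ.character (h * g⁻¹) * ρ.character h⁻¹) := by
    intro h
    rw [_root_.mul_inv_rev, inv_inv]
    ring
  simp only [h1]
  rw [← Finset.mul_sum, gen_orth ρ g⁻¹]
  field_simp

/-- A character of `p`-defect zero vanishes on the `p`-singular elements (matrix form). -/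
theorem character_eq_zero_of_defect_zero [Fintype G] {p : ℕ} (hp : p.Prime)
    (ρ : Representation ℂ G (Fin n → ℂ)) [ρ.IsIrreducible] (m : ℕ)
    (hm : Fintype.card G = n * m) (hpm : ¬ p ∣ m) (x : G) (hx : p ∣ orderOf x) :
    ρ.character x = 0 := by
  have hn : (n : ℂ) ≠ 0 := Nat.cast_ne_zero.mpr (pos_dim ρ).ne'
  have hG : (Fintype.card G : ℂ) ≠ 0 := Nat.cast_ne_zero.mpr Fintype.card_ne_zero
  have hc : (n : ℂ) / (Fintype.card G : ℂ) = 1 / (m : ℂ) := by
    rw [hm]
    push_cast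
    have hm0 : (m : ℂ) ≠ 0 := by
      intro h0
      apply hG
      rw [hm]; push_cast; rw [h0, mul_zero]
    field_simp
  have hfint : ∀ g : G, IsPInt p ((n : ℂ) / (Fintype.card G : ℂ) * ρ.character g⁻¹) := by
    intro g
    rw [hc]
    exact pint_mul hp (pint_inv_natCast hp hpm)
      (pint_of_isIntegral hp (Cfsg.Agent.Lib.Helper80.Integrality.isIntegral_character ρ g⁻¹))
  have hx' : p ∣ orderOf x⁻¹ := by rw [orderOf_inv]; exact hx
  have h := osima_sum_conj_eq_zero hp
    (fun g => (n : ℂ) / (Fintype.card G : ℂ) * ρ.character g⁻¹) hfint (idem_conv ρ) x⁻¹ hx'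
  have h2 : ∀ g : G, (n : ℂ) / (Fintype.card G : ℂ) * ρ.character (g * x⁻¹ * g⁻¹)⁻¹
      = (n : ℂ) / (Fintype.card G : ℂ) * ρ.character x := by
    intro g
    have : (g * x⁻¹ * g⁻¹)⁻¹ = g * x * g⁻¹ := by group
    rw [this, Representation.char_conj]
  simp only [h2, Finset.sum_const, Finset.card_univ, nsmul_eq_mul] at h
  have h3 : (n : ℂ) / (Fintype.card G : ℂ) ≠ 0 := div_ne_zero hn hG
  rcases mul_eq_zero.1 h with h4 | h4
  · exact absurd h4 hG
  · rcases mul_eq_zero.1 h4 with h5 | h5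
    · exact absurd h5 h3
    · exact h5

/-- An irreducible character of `p`-defect zero vanishes on the `p`-singular elements. -/
theorem irr_eq_zero_of_defect_zero [Finite G] {p : ℕ} (hp : p.Prime) (χ : IrrCharacter G)
    (m : ℕ) (hm : Nat.card G = charDegree (χ : G → ℂ) * m) (hpm : ¬ p ∣ m) (x : G)
    (hx : p ∣ orderOf x) : (χ : G → ℂ) x = 0 := by
  classical
  let _ := Fintype.ofFinite G
  obtain ⟨d, ρ, hirr, hχ⟩ := χ.2
  have := hirr
  have hd : charDegree (χ : G → ℂ) = d := by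
    rw [← hχ, Cfsg.Agent.Lib.Helper80.Integrality.charDegree_eq_finrank]
    simp
  rw [← hχ]
  refine character_eq_zero_of_defect_zero hp ρ m ?_ hpm x hx
  rw [← Nat.card_eq_fintype_card, hm, hd]

end Cfsg.Agent.Lib.Helper74.DefectZero
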