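import Mathlib
import Cfsg.Prelude.Def_Blocks
import Cfsg.Agent.Lib.CT.Wedderburn
import Cfsg.Agent.Lib.CT.Orth
import Cfsg.Agent.Lib.CT.FSInd

/-!
# The Frobenius–Schur count of square roots

`sqrtCount g = #{u | u * u = g}` (as a complex number) equals `∑ χ, ν(χ) χ(g)` where
`ν = fsInd` is the Frobenius–Schur indicator; integer-valued indicator `fsInt`.
-/

set_option autoImplicit false

namespace Cfsg.Agent.Lib.Helper74.FSCount

open Cfsg Cfsg.Agent.Lib.CT.Wedderburn Cfsg.Agent.Lib.CT.Orth Cfsg.Agent.Lib.CT.FSInd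
open scoped ComplexConjugate

universe u
variable {G : Type u} [Group G]

/-- The number of square roots of `g`, as a complex number. -/
noncomputable def sqrtCount [Fintype G] (g : G) : ℂ := by
  classical exact ∑ u : G, if u * u = g then 1 else 0

theorem sqrtCount_eq_card [Fintype G] (g : G) :
    sqrtCount g = (Nat.card {u : G // u * u = g} : ℂ) := by
  classical
  unfold sqrtCount
  rw [Finset.sum_boole, Nat.card_eq_fintype_card, Fintype.card_subtype]

theorem sqrtCount_isClassFunction [Fintype G] : IsClassFunction G (sqrtCount (G := G)) := by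
  classical
  intro g h
  unfold sqrtCount
  refine Fintype.sum_bijective (fun u => h⁻¹ * u * h) ?_ _ _ ?_
  · refine ⟨fun a b hab => ?_, fun b => ⟨h * b * h⁻¹, by group⟩⟩
    have hab' : h⁻¹ * a * h = h⁻¹ * b * h := hab
    have : h * (h⁻¹ * a * h) * h⁻¹ = h * (h⁻¹ * b * h) * h⁻¹ := by rw [hab']
    simpa [mul_assoc] using this
  · intro u
    have : (u * u = h * g * h⁻¹) ↔ (h⁻¹ * u * h * (h⁻¹ * u * h) = g) := by
      constructor
      · intro hu
        have : h⁻¹ * u * h * (h⁻¹ * u * h) = h⁻¹ * (u * u) * h := by group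
        rw [this, hu]; group
      · intro hu
        have : u * u = h * (h⁻¹ * u * h * (h⁻¹ * u * h)) * h⁻¹ := by group
        rw [this, hu]
    simp only [this]

theorem classInner_sqrtCount [Fintype G] {χ : G → ℂ} (hχ : IsIrrCharacter G χ) :
    classInner (sqrtCount (G := G)) χ = fsInd χ := by
  classical
  have h1 : ∑ g : G, sqrtCount g * conj (χ g) = ∑ u : G, conj (χ (u * u)) := by
    unfold sqrtCount
    simp only [Finset.sum_mul]
    rw [Finset.sum_comm]
    refine Finset.sum_congr rfl fun u _ => ?_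
    simp [ite_mul]
  have h2 : classInner (sqrtCount (G := G)) χ = conj (fsInd χ) := by
    rw [classInner, h1, fsInd_def, map_mul, map_sum]
    congr 1
    rw [map_inv₀, Complex.conj_natCast]
  rw [h2]
  rcases fsInd_trichotomy' hχ with h | h | h <;> rw [h] <;> simp

/-- Frobenius–Schur: the number of square roots of `g` is `∑ χ, ν(χ) χ(g)`. -/
theorem sqrtCount_eq_sum [Fintype G] [Fintype (IrrCharacter G)] (g : G) :
    sqrtCount g = ∑ χ : IrrCharacter G, fsInd (χ : G → ℂ) * (χ : G → ℂ) g := by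
  rw [classFunction_expand_sum _ sqrtCount_isClassFunction g]
  refine Finset.sum_congr rfl fun χ _ => ?_
  rw [classInner_sqrtCount χ.2]

/-- The integer-valued Frobenius–Schur indicator. -/
noncomputable def fsInt [Fintype G] (χ : G → ℂ) : ℤ := by
  classical exact if fsInd χ = 1 then 1 else if fsInd χ = -1 then -1 else 0

theorem fsInt_cast [Fintype G] {χ : G → ℂ} (hχ : IsIrrCharacter G χ) :
    ((fsInt χ : ℤ) : ℂ) = fsInd χ := by
  classical
  unfold fsInt
  rcases fsInd_trichotomy' hχ with h | h | h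
  · have h1 : ¬ ((0 : ℂ) = 1) := by norm_num
    have h2 : ¬ ((0 : ℂ) = -1) := by norm_num
    simp [h]
  · simp [h]
  · have h1 : ¬ ((-1 : ℂ) = 1) := by norm_num
    simp [h, h1]

theorem fsInt_le_one [Fintype G] (χ : G → ℂ) : fsInt χ ≤ 1 := by
  classical
  unfold fsInt
  split_ifs <;> norm_num

theorem fsInt_abs_le_one [Fintype G] (χ : G → ℂ) : |fsInt χ| ≤ 1 := by
  classical
  unfold fsInt
  split_ifs <;> norm_num

theorem fsInt_eq_zero_iff [Fintype G] {χ : G → ℂ} (hχ : IsIrrCharacter G χ) :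
    fsInt χ = 0 ↔ fsInd χ = 0 := by
  rw [← fsInt_cast hχ]
  exact Int.cast_eq_zero.symm

/-- An irreducible character is real-valued iff its indicator is nonzero. -/
theorem fsInd_ne_zero_iff_real [Fintype G] {χ : G → ℂ} (hχ : IsIrrCharacter G χ) :
    fsInd χ ≠ 0 ↔ ∀ g : G, (χ g).im = 0 := by
  rw [fsInd_ne_zero_iff' hχ]
  have hc := isCharacter_of_irr hχ
  constructor
  · intro h g
    have h1 := h g
    rw [char_apply_inv hc g] at h1
    exact Complex.conj_eq_iff_im.1 h1
  · intro h g
    rw [char_apply_inv hc g]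
    exact Complex.conj_eq_iff_im.2 (h g)

theorem fsInd_one [Fintype G] : fsInd (fun _ : G => (1 : ℂ)) = 1 := by
  rw [fsInd_def]
  have hne : (Nat.card G : ℂ) ≠ 0 := Nat.cast_ne_zero.mpr Nat.card_pos.ne'
  simp [Nat.card_eq_fintype_card] at hne ⊢

theorem fsInt_one [Fintype G] : fsInt (fun _ : G => (1 : ℂ)) = 1 := by
  classical
  unfold fsInt
  simp [fsInd_one]

/-- Integer form of the Frobenius–Schur count at the identity:
`#{u | u * u = 1} = ∑ χ, ν(χ) χ(1)`. -/
theorem card_sq_eq_one [Fintype G] [Fintype (IrrCharacter G)] :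
    (Nat.card {u : G // u * u = 1} : ℤ) =
      ∑ χ : IrrCharacter G, fsInt (χ : G → ℂ) * (charDegree (χ : G → ℂ) : ℤ) := by
  have h := sqrtCount_eq_sum (1 : G)
  rw [sqrtCount_eq_card] at h
  have h2 : ((Nat.card {u : G // u * u = 1} : ℤ) : ℂ) =
      ((∑ χ : IrrCharacter G, fsInt (χ : G → ℂ) * (charDegree (χ : G → ℂ) : ℤ) : ℤ) : ℂ) := by
    push_cast
    rw [h]
    refine Finset.sum_congr rfl fun χ _ => ?_
    rw [fsInt_cast χ.2, char_natCast_charDegree (isCharacter_of_irr χ.2)]
  exact_mod_cast h2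

end Cfsg.Agent.Lib.Helper74.FSCount
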