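import Mathlib

/-!
Conjugation action of a subgroup `S` of `Γ` on a subgroup `G` that it normalises.
-/

set_option autoImplicit false

namespace Cfsg.Agent.Lib.Helper74.SubConj

universe u

variable {Γ : Type u} [Group Γ]

theorem conj_inv_mem (G S : Subgroup Γ) (hnorm : ∀ s ∈ S, ∀ g ∈ G, s * g * s⁻¹ ∈ G)
    {s : Γ} (hs : s ∈ S) {g : Γ} (hg : g ∈ G) : s⁻¹ * g * s ∈ G := by
  have := hnorm s⁻¹ (S.inv_mem hs) g hg
  rwa [inv_inv] at this

/-- The conjugation action of `S` on a subgroup `G` it normalises. -/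
def conjHom (G S : Subgroup Γ) (hnorm : ∀ s ∈ S, ∀ g ∈ G, s * g * s⁻¹ ∈ G) : S →* MulAut G where
  toFun s :=
    { toFun := fun g => ⟨s * g * s⁻¹, hnorm s s.2 g g.2⟩
      invFun := fun g => ⟨(s : Γ)⁻¹ * g * s, conj_inv_mem G S hnorm s.2 g.2⟩
      left_inv := by intro g; apply Subtype.ext; simp [mul_assoc]
      right_inv := by intro g; apply Subtype.ext; simp [mul_assoc]
      map_mul' := by intro x y; apply Subtype.ext; simp [mul_assoc] }
  map_one' := by ext g; simp
  map_mul' := by intro a b; ext g; simp [mul_assoc]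

theorem conjHom_apply_coe (G S : Subgroup Γ) (hnorm : ∀ s ∈ S, ∀ g ∈ G, s * g * s⁻¹ ∈ G)
    (s : S) (g : G) : ((conjHom G S hnorm s g : G) : Γ) = s * g * (s : Γ)⁻¹ := rfl

end Cfsg.Agent.Lib.Helper74.SubConj
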