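import Mathlib
import Cfsg.Prelude.Def_Characters
import Cfsg.Agent.Lib.CT.Ops
import Cfsg.Agent.Lib.CT.Wedderburn

/-!
Automorphisms of a group acting on its irreducible characters by precomposition, and the
restriction of a group of automorphisms to an invariant subgroup.
-/

set_option autoImplicit false

namespace Cfsg.Agent.Lib.Helper74.AutAct

open Cfsg

universe u v

variable {N : Type u} [Group N]

/-- The automorphisms of `N` preserving a predicate on complex functions under
precomposition. -/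
def stab (p : (N → ℂ) → Prop) : Subgroup (MulAut N) where
  carrier := {φ | ∀ θ : N → ℂ, p (fun n => θ (φ n)) ↔ p θ}
  one_mem' := fun _ => Iff.rfl
  mul_mem' := by
    intro φ ψ hφ hψ θ
    exact (hψ (fun n => θ (φ n))).trans (hφ θ)
  inv_mem' := by
    intro φ hφ θ
    have h := hφ (fun n => θ (φ⁻¹ n))
    simp only [MulAut.inv_apply, MulEquiv.symm_apply_apply] at h
    simp only [MulAut.inv_apply]
    exact h.symm

theorem mem_stab (p : (N → ℂ) → Prop) (φ : MulAut N) :
    φ ∈ stab p ↔ ∀ θ : N → ℂ, p (fun n => θ (φ n)) ↔ p θ := Iff.rfl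

/-- The irreducible characters of `N` satisfying `p`. -/
abbrev X (p : (N → ℂ) → Prop) : Type u := {θ : N → ℂ // IsIrrCharacter N θ ∧ p θ}

/-- The action of `stab p` on `X p`: `(φ • θ) n = θ (φ⁻¹ n)`. -/
@[reducible]
noncomputable def act (p : (N → ℂ) → Prop) : MulAction (stab p) (X p) where
  smul φ x := ⟨fun n => x.1 ((φ : MulAut N)⁻¹ n),
    ⟨Cfsg.Agent.Lib.CT.Ops.isIrrCharacter_comp_mulEquiv ((φ : MulAut N)⁻¹) x.2.1,
      ((stab p).inv_mem φ.2 x.1).2 x.2.2⟩⟩
  one_smul x := by
    apply Subtype.ext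
    funext n
    show x.1 (((1 : stab p) : MulAut N)⁻¹ n) = x.1 n
    simp
  mul_smul φ ψ x := by
    apply Subtype.ext
    funext n
    show x.1 (((φ * ψ : stab p) : MulAut N)⁻¹ n) = x.1 ((ψ : MulAut N)⁻¹ ((φ : MulAut N)⁻¹ n))
    simp

/-- The permutation representation of `stab p` on `X p`. -/
noncomputable def permHom (p : (N → ℂ) → Prop) : stab p →* Equiv.Perm (X p) :=
  @MulAction.toPermHom (stab p) (X p) _ (act p)

theorem permHom_apply (p : (N → ℂ) → Prop) (φ : stab p) (x : X p) (n : N) :
    ((permHom p φ x : X p) : N → ℂ) n = x.1 ((φ : MulAut N)⁻¹ n) := rfl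

theorem finite_X [Finite N] (p : (N → ℂ) → Prop) : Finite (X p) := by
  have := Cfsg.Agent.Lib.CT.Wedderburn.finite_irrCharacter N
  apply Finite.of_injective (fun x : X p => (⟨x.1, x.2.1⟩ : IrrCharacter N))
  intro x y h
  apply Subtype.ext
  exact congrArg (fun z : IrrCharacter N => (z : N → ℂ)) h

/-- Restriction of a group of automorphisms to an invariant subgroup. -/
def restrictAut {G : Type u} [Group G] {A : Type v} [Group A] (α : A →* MulAut G)
    (T : Subgroup G) (hT : ∀ a, ∀ t ∈ T, α a t ∈ T) : A →* MulAut T where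
  toFun a :=
    { toFun := fun t => ⟨α a t, hT a t t.2⟩
      invFun := fun t => ⟨α a⁻¹ t, hT a⁻¹ t t.2⟩
      left_inv := by intro t; apply Subtype.ext; simp
      right_inv := by intro t; apply Subtype.ext; simp
      map_mul' := by intro x y; apply Subtype.ext; simp }
  map_one' := by ext t; simp
  map_mul' := by intro a b; ext t; simp

theorem restrictAut_apply_coe {G : Type u} [Group G] {A : Type v} [Group A] (α : A →* MulAut G)
    (T : Subgroup G) (hT : ∀ a, ∀ t ∈ T, α a t ∈ T) (a : A) (t : T) :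
    ((restrictAut α T hT a t : T) : G) = α a t := rfl

theorem restrictAut_inv_apply_coe {G : Type u} [Group G] {A : Type v} [Group A]
    (α : A →* MulAut G) (T : Subgroup G) (hT : ∀ a, ∀ t ∈ T, α a t ∈ T) (a : A) (t : T) :
    (((restrictAut α T hT a)⁻¹ t : T) : G) = α a⁻¹ t := rfl

end Cfsg.Agent.Lib.Helper74.AutAct
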