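import Mathlib
import Cfsg.Agent.S0059

/-!
Glauberman's lemma, in a form convenient for character-theoretic applications: two groups
acting on a finite set through homomorphisms into its permutation group.
-/

set_option autoImplicit false

namespace Cfsg.Agent.Lib.Helper74.GlauPerm

/-- Glauberman's lemma for two homomorphisms `a`, `b` into the permutation group of a finite
nonempty set: if `b`'s image normalises `a`'s image, the images have coprime orders, one of
them is solvable, and `a`'s image is transitive, then `b`'s image fixes a point. -/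
theorem exists_fixed {X : Type*} [Finite X] [Nonempty X] {K₀ S₀ : Type*} [Group K₀] [Group S₀]
    (a : K₀ →* Equiv.Perm X) (b : S₀ →* Equiv.Perm X)
    (hnorm : ∀ s k, ∃ k', b s * a k * (b s)⁻¹ = a k')
    (hcop : (Nat.card a.range).Coprime (Nat.card b.range))
    (hsolv : Group.IsSolvable a.range ∨ Group.IsSolvable b.range)
    (htrans : ∀ x y : X, ∃ k, a k x = y) :
    ∃ x : X, ∀ s, b s x = x := by
  classical
  obtain ⟨K, hK⟩ : ∃ K : Subgroup (Equiv.Perm X), K = a.range := ⟨_, rfl⟩
  obtain ⟨H, hH⟩ : ∃ H : Subgroup (Equiv.Perm X), H = b.range := ⟨_, rfl⟩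
  have hHK : H ≤ Subgroup.normalizer (K : Set (Equiv.Perm X)) := by
    intro σ hσ
    rw [hH] at hσ
    obtain ⟨s, rfl⟩ := hσ
    rw [Subgroup.mem_normalizer_iff]
    intro h
    constructor
    · intro hh
      rw [hK] at hh ⊢
      obtain ⟨k, rfl⟩ := hh
      obtain ⟨k', hk'⟩ := hnorm s k
      exact ⟨k', hk'.symm⟩
    · intro hh
      rw [hK] at hh ⊢
      obtain ⟨k, hk⟩ := hh
      obtain ⟨k', hk'⟩ := hnorm s⁻¹ k
      refine ⟨k', ?_⟩
      rw [← hk', hk, map_inv]
      group
  obtain ⟨L, hL⟩ : ∃ L : Subgroup (Equiv.Perm X), L = H ⊔ K := ⟨_, rfl⟩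
  have hKL : K ≤ L := hL ▸ le_sup_right
  have hHL : H ≤ L := hL ▸ le_sup_left
  have hKn : (K.subgroupOf L).Normal := by
    rw [hL]; exact Subgroup.normal_subgroupOf_sup_of_le_normalizer hHK
  have hcK : Nat.card (K.subgroupOf L) = Nat.card K :=
    Nat.card_congr (Subgroup.subgroupOfEquivOfLe hKL).toEquiv
  have hcH : Nat.card (H.subgroupOf L) = Nat.card H :=
    Nat.card_congr (Subgroup.subgroupOfEquivOfLe hHL).toEquiv
  have hcop' : (Nat.card (K.subgroupOf L)).Coprime (Nat.card (H.subgroupOf L)) := by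
    rw [hcK, hcH, hK, hH]; exact hcop
  have hsup : K.subgroupOf L ⊔ H.subgroupOf L = ⊤ := by
    rw [← Subgroup.subgroupOf_sup hKL hHL, sup_comm, ← hL, Subgroup.subgroupOf_self]
  have hc : Subgroup.IsComplement' (K.subgroupOf L) (H.subgroupOf L) := by
    apply Subgroup.isComplement'_of_disjoint_and_mul_eq_univ
    · exact Subgroup.disjoint_of_coprime_natCard hcop'
    · rw [← Subgroup.normal_mul, hsup, Subgroup.coe_top]
  have hsolv' : Group.IsSolvable (K.subgroupOf L) ∨ Group.IsSolvable (H.subgroupOf L) := by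
    rcases hsolv with h | h
    · left
      rw [← hK] at h
      exact Group.isSolvable_of_surjective
        (f := (Subgroup.subgroupOfEquivOfLe hKL).symm.toMonoidHom)
        (Subgroup.subgroupOfEquivOfLe hKL).symm.surjective
    · right
      rw [← hH] at h
      exact Group.isSolvable_of_surjective
        (f := (Subgroup.subgroupOfEquivOfLe hHL).symm.toMonoidHom)
        (Subgroup.subgroupOfEquivOfLe hHL).symm.surjective
  have htrans' : ∀ x y : X, ∃ k ∈ K.subgroupOf L, k • x = y := by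
    intro x y
    obtain ⟨k, hk⟩ := htrans x y
    have hk1 : a k ∈ K := hK ▸ ⟨k, rfl⟩
    exact ⟨⟨a k, hKL hk1⟩, Subgroup.mem_subgroupOf.mpr hk1, hk⟩
  obtain ⟨x₀⟩ := ‹Nonempty X›
  obtain ⟨x, hx⟩ := Cfsg.Agent.S0059.glauberman_exists (K.subgroupOf L) (H.subgroupOf L) hc
    hcop' hsolv' htrans' x₀
  refine ⟨x, fun s => ?_⟩
  have hs1 : b s ∈ H := hH ▸ ⟨s, rfl⟩
  exact hx ⟨b s, hHL hs1⟩ (Subgroup.mem_subgroupOf.mpr hs1)

end Cfsg.Agent.Lib.Helper74.GlauPerm
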