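import Mathlib
import Cfsg.Agent.Lib.Helper74.AutAct
import Cfsg.Agent.Lib.Helper74.GlauPerm
import Cfsg.Agent.Lib.CT.Clifford
import Cfsg.Agent.Lib.Helper16.Cover
import Cfsg.Agent.Lib.Helper25.CliffordCorr

/-!
Coprime action and restriction to a normal subgroup (Isaacs 13.27), for a group `A` acting
on `G` through a homomorphism into `MulAut G`.
-/

set_option autoImplicit false

namespace Cfsg.Agent.Lib.Helper74.CoprimeRes

open Cfsg Cfsg.Agent.Lib.Helper74.AutAct

universe u v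

/-- If `A` acts on `G` fixing the normal subgroup `N`, with `|G : N|` prime to `|A|` and one of
`A`, `G/N` solvable, then every `A`-invariant irreducible character of `G` has an
`A`-invariant irreducible constituent on `N`. -/
theorem exists_invariant_constituent {G : Type u} [Group G] [Fintype G] (N : Subgroup G)
    [hN : N.Normal] [Fintype N] {A : Type v} [Group A] [Finite A] (α : A →* MulAut G)
    (hαN : ∀ a, ∀ n ∈ N, α a n ∈ N) (hcop : (N.index).Coprime (Nat.card A))
    (hsolv : Group.IsSolvable A ∨ Group.IsSolvable (G ⧸ N))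
    (χ : G → ℂ) (hχ : IsIrrCharacter G χ) (hinv : ∀ a g, χ (α a g) = χ g) :
    ∃ θ : N → ℂ, IsIrrCharacter N θ ∧ classInner (fun n : N => χ n) θ ≠ 0 ∧
      ∀ a (n : N), θ ⟨α a n, hαN a n n.2⟩ = θ n := by
  classical
  obtain ⟨ρ, hρ⟩ : ∃ ρ : N → ℂ, ρ = fun n : N => χ n := ⟨_, rfl⟩
  obtain ⟨p, hp⟩ : ∃ p : (N → ℂ) → Prop, p = fun θ => classInner ρ θ ≠ 0 := ⟨_, rfl⟩
  have hχcf : IsClassFunction G χ :=
    Cfsg.Agent.Lib.CT.Wedderburn.char_isClassFunction
      (Cfsg.Agent.Lib.CT.Ops.IsIrrCharacter.isCharacter hχ)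
  have hpiff : ∀ θ : N → ℂ, p θ ↔ classInner ρ θ ≠ 0 := fun θ => by rw [hp]
  have hstab : ∀ φ : MulAut N, (∀ n, ρ (φ n) = ρ n) → φ ∈ stab p := by
    intro φ hφ θ
    rw [hp]
    show classInner ρ (fun n => θ (φ n)) ≠ 0 ↔ classInner ρ θ ≠ 0
    have h1 := Cfsg.Agent.Lib.Helper25.CliffordCorr.classInner_comp_equiv φ ρ θ
    have h2 : (fun x => ρ (φ x)) = ρ := funext hφ
    rw [h2] at h1
    rw [h1]
  obtain ⟨βG, hβGdef⟩ : ∃ βG : G →* MulAut N, βG = MulAut.conjNormal := ⟨_, rfl⟩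
  have hβGapp : ∀ (g : G) (n : N), ((βG g n : N) : G) = g * n * g⁻¹ := by
    intro g n
    rw [hβGdef, MulAut.conjNormal_apply]
  have hβG : ∀ g, βG g ∈ stab p := by
    intro g
    apply hstab
    intro n
    rw [hρ]
    show χ ((βG g n : N) : G) = χ n
    rw [hβGapp]
    exact hχcf n g
  obtain ⟨βA, hβAdef⟩ : ∃ βA : A →* MulAut N, βA = restrictAut α N hαN := ⟨_, rfl⟩
  have hβAapp : ∀ (a : A) (n : N), ((βA a n : N) : G) = α a n := by
    intro a n
    rw [hβAdef]; rfl
  have hβA : ∀ a, βA a ∈ stab p := by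
    intro a
    apply hstab
    intro n
    rw [hρ]
    show χ ((βA a n : N) : G) = χ n
    rw [hβAapp]
    exact hinv a n
  obtain ⟨a₀, ha₀⟩ : ∃ a₀ : G →* Equiv.Perm (X p),
      a₀ = (permHom p).comp (βG.codRestrict (stab p) hβG) := ⟨_, rfl⟩
  obtain ⟨b₀, hb₀⟩ : ∃ b₀ : A →* Equiv.Perm (X p),
      b₀ = (permHom p).comp (βA.codRestrict (stab p) hβA) := ⟨_, rfl⟩
  have ha₀app : ∀ (g : G) (x : X p) (n : N), ((a₀ g x : X p) : N → ℂ) n = x.1 ((βG g)⁻¹ n) := by
    intro g x n
    rw [ha₀]; rfl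
  have hb₀app : ∀ (a : A) (x : X p) (n : N), ((b₀ a x : X p) : N → ℂ) n = x.1 ((βA a)⁻¹ n) := by
    intro a x n
    rw [hb₀]; rfl
  have hfin : Finite (X p) := finite_X p
  have hne : Nonempty (X p) := by
    obtain ⟨θ, hθ⟩ := Cfsg.Agent.Lib.Helper16.Cover.exists_constituent N ⟨χ, hχ⟩
    refine ⟨⟨θ.1, θ.2, ?_⟩⟩
    rw [hpiff, hρ]
    exact hθ
  -- the kernel of the `G`-action contains `N`
  have hNker : N ≤ a₀.ker := by
    intro n hn
    rw [MonoidHom.mem_ker]
    apply Equiv.ext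
    intro x
    apply Subtype.ext
    funext m
    rw [ha₀app]
    have hcf : IsClassFunction N x.1 :=
      Cfsg.Agent.Lib.CT.Wedderburn.char_isClassFunction
        (Cfsg.Agent.Lib.CT.Ops.IsIrrCharacter.isCharacter x.2.1)
    have h1 : (βG n)⁻¹ m = (⟨n, hn⟩ : N)⁻¹ * m * (⟨n, hn⟩ : N)⁻¹⁻¹ := by
      apply Subtype.ext
      rw [← map_inv, hβGapp]
      simp
    rw [h1]
    exact hcf m _
  have hnorm : ∀ s k, ∃ k', b₀ s * a₀ k * (b₀ s)⁻¹ = a₀ k' := by
    intro s k
    refine ⟨α s k, ?_⟩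
    apply Equiv.ext
    intro x
    apply Subtype.ext
    funext m
    rw [Equiv.Perm.mul_apply, Equiv.Perm.mul_apply, hb₀app, ha₀app, ← map_inv b₀, hb₀app,
      ha₀app]
    refine congrArg x.1 ?_
    apply Subtype.ext
    rw [← map_inv βA, inv_inv, hβAapp, ← map_inv βG, hβGapp, ← map_inv βA, hβAapp,
      ← map_inv βG, hβGapp]
    simp
  have hcopr : (Nat.card a₀.range).Coprime (Nat.card b₀.range) := by
    have h1 : Nat.card a₀.range ∣ N.index := by
      rw [← Subgroup.index_ker]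
      exact Subgroup.index_dvd_of_le hNker
    have h2 : Nat.card b₀.range ∣ Nat.card A := Subgroup.card_range_dvd b₀
    exact Nat.Coprime.coprime_dvd_left h1 (Nat.Coprime.coprime_dvd_right h2 hcop)
  have hsolv' : Group.IsSolvable a₀.range ∨ Group.IsSolvable b₀.range := by
    rcases hsolv with h | h
    · right
      exact Group.isSolvable_of_surjective (f := b₀.rangeRestrict) b₀.rangeRestrict_surjective
    · left
      have hker : N ≤ a₀.rangeRestrict.ker := by
        intro n hn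
        rw [MonoidHom.mem_ker]
        apply Subtype.ext
        have := hNker hn
        rw [MonoidHom.mem_ker] at this
        simpa using this
      have hsurj : Function.Surjective (QuotientGroup.lift N a₀.rangeRestrict hker) := by
        intro y
        obtain ⟨g, hg⟩ := a₀.rangeRestrict_surjective y
        exact ⟨(g : G ⧸ N), by rw [QuotientGroup.lift_mk]; exact hg⟩
      exact Group.isSolvable_of_surjective hsurj
  have htrans : ∀ x y : X p, ∃ k, a₀ k x = y := by
    intro x y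
    have hx2 : classInner (fun n : N => χ n) x.1 ≠ 0 := by
      have := (hpiff x.1).1 x.2.2
      rw [hρ] at this
      exact this
    have hy2 : classInner (fun n : N => χ n) y.1 ≠ 0 := by
      have := (hpiff y.1).1 y.2.2
      rw [hρ] at this
      exact this
    obtain ⟨g, hg⟩ := Cfsg.Agent.Lib.CT.Clifford.exists_conj_of_constituent N hN hχ x.2.1 y.2.1
      hx2 hy2
    refine ⟨g⁻¹, ?_⟩
    apply Subtype.ext
    funext m
    rw [ha₀app, hg, Cfsg.Agent.Lib.CT.Clifford.conjFun_apply]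
    refine congrArg x.1 ?_
    apply Subtype.ext
    rw [map_inv, inv_inv, hβGapp]
  obtain ⟨x, hx⟩ := Cfsg.Agent.Lib.Helper74.GlauPerm.exists_fixed a₀ b₀ hnorm hcopr hsolv' htrans
  refine ⟨x.1, x.2.1, ?_, ?_⟩
  · have := (hpiff x.1).1 x.2.2
    rw [hρ] at this
    exact this
  · intro a n
    have h1 := hb₀app a x ⟨α a n, hαN a n n.2⟩
    rw [hx a] at h1
    rw [h1]
    refine congrArg x.1 ?_
    apply Subtype.ext
    rw [← map_inv, hβAapp]
    simp

end Cfsg.Agent.Lib.Helper74.CoprimeRes
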