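import Mathlib
import Cfsg.Prelude.Def_Characters
import Cfsg.Agent.Lib.CT.MatCoeff
import Cfsg.Agent.Lib.CT.FSInd
import Cfsg.Agent.Lib.Helper74.Osima

/-!
# Even multiplicities for characters of quaternionic type

If an irreducible character has Frobenius–Schur indicator `-1`, then the dimension of the fixed
space of any subgroup is even (the invariant skew form restricts to a nondegenerate skew form on
the fixed space).
-/

set_option autoImplicit false

namespace Cfsg.Agent.Lib.Helper74.EvenMult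

open Matrix Cfsg Cfsg.Agent.Lib.CT.MatCoeff Cfsg.Agent.Lib.CT.FSInd

universe u
variable {G : Type u} [Group G] {n : ℕ}

/-- An idempotent that is self-adjoint for an invertible skew form has even rank. -/
theorem even_trace_of_skew (M e : Matrix (Fin n) (Fin n) ℂ) (hMu : IsUnit M) (hM : Mᵀ = -M)
    (he : e * e = e) (heM : eᵀ * M = M * e) :
    ∃ r : ℕ, Even r ∧ e.trace = r := by
  classical
  obtain ⟨W, hW⟩ : ∃ W : Submodule ℂ (Fin n → ℂ), W = LinearMap.range (Matrix.toLin' e) :=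
    ⟨_, rfl⟩
  refine ⟨Module.finrank ℂ W, ?_, ?_⟩
  swap
  · rw [Cfsg.Agent.Lib.Helper74.Osima.trace_eq_finrank_range e he, hW]
  have b : Module.Basis (Fin (Module.finrank ℂ W)) ℂ W := Module.finBasis ℂ W
  obtain ⟨r, hr⟩ : ∃ r : ℕ, r = Module.finrank ℂ W := ⟨_, rfl⟩
  rw [← hr] at b ⊢
  -- elements of `W` are fixed by `e`
  have hfix : ∀ w : Fin n → ℂ, w ∈ W → e *ᵥ w = w := by
    intro w hw
    rw [hW] at hw
    obtain ⟨w', rfl⟩ := hw
    rw [Matrix.toLin'_apply, Matrix.mulVec_mulVec, he]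
  have hmemW : ∀ v : Fin n → ℂ, e *ᵥ v ∈ W := by
    intro v
    rw [hW]
    exact ⟨v, by rw [Matrix.toLin'_apply]⟩
  -- the form is skew
  have hsk : ∀ u v : Fin n → ℂ, u ⬝ᵥ (M *ᵥ v) = -(v ⬝ᵥ (M *ᵥ u)) := by
    intro u v
    rw [Matrix.dotProduct_mulVec, ← Matrix.mulVec_transpose, hM, Matrix.neg_mulVec,
      neg_dotProduct, dotProduct_comm]
  obtain ⟨Gm, hGm⟩ : ∃ Gm : Matrix (Fin r) (Fin r) ℂ,
      ∀ i j, Gm i j = (b i : Fin n → ℂ) ⬝ᵥ (M *ᵥ (b j : Fin n → ℂ)) :=
    ⟨Matrix.of fun i j => (b i : Fin n → ℂ) ⬝ᵥ (M *ᵥ (b j : Fin n → ℂ)), fun _ _ => rfl⟩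
  have hGT : Gmᵀ = -Gm := by
    ext i j
    rw [Matrix.transpose_apply, Matrix.neg_apply, hGm, hGm, hsk]
  have hinj : ∀ x : Fin r → ℂ, Gm *ᵥ x = 0 → x = 0 := by
    intro x hx
    obtain ⟨w, hw⟩ : ∃ w : W, w = ∑ j, x j • b j := ⟨_, rfl⟩
    have hwc : (w : Fin n → ℂ) = ∑ j, x j • (b j : Fin n → ℂ) := by
      rw [hw]
      simp
    have h1 : ∀ i, (b i : Fin n → ℂ) ⬝ᵥ (M *ᵥ (w : Fin n → ℂ)) = 0 := by
      intro i
      have h2 := congrFun hx i
      rw [Matrix.mulVec, dotProduct] at h2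
      rw [hwc, Matrix.mulVec_sum, dotProduct_sum]
      rw [Pi.zero_apply] at h2
      rw [← h2]
      apply Finset.sum_congr rfl
      intro j _
      rw [Matrix.mulVec_smul, dotProduct_smul, hGm, smul_eq_mul, mul_comm]
    have h2 : ∀ u : W, (u : Fin n → ℂ) ⬝ᵥ (M *ᵥ (w : Fin n → ℂ)) = 0 := by
      intro u
      have h3 : (u : Fin n → ℂ) = ∑ i, b.repr u i • (b i : Fin n → ℂ) := by
        have h0 := congrArg (Subtype.val) (b.sum_repr u)
        rw [← h0]
        simp only [AddSubmonoidClass.coe_finsetSum, Submodule.coe_smul]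
      rw [h3, sum_dotProduct]
      apply Finset.sum_eq_zero
      intro i _
      rw [smul_dotProduct, h1 i, smul_zero]
    have h3 : ∀ v : Fin n → ℂ, v ⬝ᵥ (M *ᵥ (w : Fin n → ℂ)) = 0 := by
      intro v
      have h4 := h2 ⟨e *ᵥ v, hmemW v⟩
      have h5 : (e *ᵥ v) ⬝ᵥ (M *ᵥ (w : Fin n → ℂ)) = v ⬝ᵥ (M *ᵥ (w : Fin n → ℂ)) := by
        rw [← Matrix.vecMul_transpose, ← Matrix.dotProduct_mulVec, Matrix.mulVec_mulVec, heM,
          ← Matrix.mulVec_mulVec, hfix _ w.2]
      rw [← h5]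
      exact h4
    have h4 : M *ᵥ (w : Fin n → ℂ) = 0 := by
      apply dotProduct_eq_zero
      intro v
      rw [dotProduct_comm]
      exact h3 v
    have h5 : (w : Fin n → ℂ) = 0 := by
      apply (Matrix.mulVec_injective_iff_isUnit.2 hMu)
      rw [h4, Matrix.mulVec_zero]
    have h6 : ∑ j, x j • b j = 0 := by
      rw [← hw]
      exact Subtype.ext h5
    funext j
    exact Fintype.linearIndependent_iff.1 b.linearIndependent x h6 j
  have hGu : IsUnit Gm := by
    rw [← Matrix.mulVec_injective_iff_isUnit]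
    intro x y hxy
    have : Gm *ᵥ (x - y) = 0 := by rw [Matrix.mulVec_sub, hxy, sub_self]
    exact sub_eq_zero.mp (hinj _ this)
  have hdet : Gm.det ≠ 0 := ((Matrix.isUnit_iff_isUnit_det _).1 hGu).ne_zero
  have h1 : Gm.det = (-1) ^ r * Gm.det := by
    conv_lhs => rw [← Matrix.det_transpose, hGT, Matrix.det_neg]
    rw [Fintype.card_fin]
  have h2 : ((-1 : ℂ)) ^ r = 1 := by
    have h3 : ((-1 : ℂ) ^ r - 1) * Gm.det = 0 := by
      rw [sub_mul, one_mul, ← h1, sub_self]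
    rcases mul_eq_zero.1 h3 with h4 | h4
    · exact sub_eq_zero.1 h4
    · exact absurd h4 hdet
  by_contra hodd
  rw [Nat.not_even_iff_odd] at hodd
  rw [hodd.neg_one_pow] at h2
  norm_num at h2

/-- If `ρ` is irreducible with Frobenius–Schur indicator `-1`, the fixed space of every subgroup
has even dimension. -/
theorem even_fix_of_fsInd_neg_one [Fintype G] (ρ : Representation ℂ G (Fin n → ℂ))
    [hirr : ρ.IsIrreducible] (h : fsInd ρ.character = -1) (Q : Subgroup G) [Fintype Q] :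
    ∃ r : ℕ, Even r ∧ (Nat.card Q : ℂ)⁻¹ * ∑ q : Q, ρ.character (q : G) = r := by
  classical
  have hreal : ∀ g : G, ρ.character g⁻¹ = ρ.character g :=
    (fsInd_ne_zero_iff ρ).1 (by rw [h]; norm_num)
  obtain ⟨M, hM0, hM⟩ := exists_isInvForm_of_char_inv hreal
  have hMT : Mᵀ = -M := by
    have := (fsInd_of_isInvForm hM hM0).2
    rw [h, neg_one_smul] at this
    exact this
  have hMu := isInvForm_isUnit hM hM0
  have hQ : (Nat.card Q : ℂ) ≠ 0 := Nat.cast_ne_zero.mpr Nat.card_pos.ne'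
  obtain ⟨e, he⟩ : ∃ e : Matrix (Fin n) (Fin n) ℂ,
      e = (Nat.card Q : ℂ)⁻¹ • ∑ q : Q, mat ρ (q : G) := ⟨_, rfl⟩
  have hee : e * e = e := by
    have h1 : ∀ q : Q, mat ρ (q : G) * ∑ q' : Q, mat ρ (q' : G) = ∑ q' : Q, mat ρ (q' : G) := by
      intro q
      rw [Finset.mul_sum]
      refine Fintype.sum_equiv (Equiv.mulLeft q) _ _ fun q' => ?_
      rw [Equiv.coe_mulLeft, Subgroup.coe_mul, mat_mul]
    rw [he, Matrix.smul_mul, Matrix.mul_smul, Finset.sum_mul, Finset.sum_congr rfl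
      (fun q _ => h1 q), Finset.sum_const, Finset.card_univ, ← Nat.card_eq_fintype_card,
      ← Nat.cast_smul_eq_nsmul ℂ, smul_smul, smul_smul, mul_assoc, inv_mul_cancel₀ hQ, mul_one]
  have heM : eᵀ * M = M * e := by
    rw [he, Matrix.transpose_smul, Matrix.transpose_sum, Matrix.smul_mul, Matrix.mul_smul,
      Finset.sum_mul, Finset.mul_sum]
    congr 1
    refine Fintype.sum_equiv (Equiv.inv Q) _ _ fun q => ?_
    rw [Equiv.inv_apply, isInvForm_mul_mat hM, Subgroup.coe_inv, inv_inv]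
  obtain ⟨r, hr, hr2⟩ := even_trace_of_skew M e hMu hMT hee heM
  refine ⟨r, hr, ?_⟩
  rw [← hr2, he, Matrix.trace_smul, Matrix.trace_sum, smul_eq_mul]
  congr 1
  apply Finset.sum_congr rfl
  intro q _
  rw [character_eq_trace]

end Cfsg.Agent.Lib.Helper74.EvenMult
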