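import Mathlib
import Cfsg.Agent.Lib.Helper25.ACStmt
import Cfsg.Agent.Lib.Helper25.ACOddStmt

set_option autoImplicit false

/-! # S3911 piece CYCSTEP (helper74, short route)

If `a`, `b` do not commute, neither generates `P`; take `A ∋ a`, `B ∋ b` of index `p` (normal,
proper, hence cyclic, hence abelian).  `c = a b a⁻¹ b⁻¹ ∈ A ∩ B` commutes with `a` and `b`,
`a ^ p ∈ B` commutes with `b`, and `a ^ n * b = c ^ n * b * a ^ n`: `c ^ p = 1`, so `c ∈ N`. -/

namespace Cfsg.Agent.Lib.Helper74.AOCYCSTEP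

open Cfsg.Agent.Lib.Helper25.ACStmt Cfsg.Agent.Lib.Helper25.ACOddStmt

universe u

theorem main : CycStep.{u} := by
  intro P _ _ p _ _hp2 hP N _hN hNuniq hcyc a b
  classical
  by_cases hab : a * b = b * a
  · have h1 : a * b * a⁻¹ * b⁻¹ = 1 := by rw [hab]; group
    rw [h1]; exact N.one_mem
  have hp : p.Prime := Fact.out
  obtain ⟨k, hk⟩ := IsPGroup.iff_card.1 hP
  -- normal abelian subgroups of index p around non-generators
  have key : ∀ x : P, Subgroup.zpowers x ≠ ⊤ → ∃ B : Subgroup P, B.Normal ∧ B.index = p ∧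
      x ∈ B ∧ (∀ y ∈ B, ∀ z ∈ B, y * z = z * y) := by
    intro x hx
    obtain ⟨m, hm⟩ := IsPGroup.iff_card.1 (hP.to_subgroup (Subgroup.zpowers x))
    have hmk : m ≤ k := by
      have hd : p ^ m ∣ p ^ k := by
        rw [← hm, ← hk]; exact Subgroup.card_subgroup_dvd_card _
      exact (Nat.pow_dvd_pow_iff_le_right hp.one_lt).1 hd
    have hmk' : m ≠ k := by
      rintro rfl
      exact hx (Subgroup.eq_top_of_card_eq _ (by rw [hm, hk]))
    have hk1 : k ≠ 0 := by omega
    obtain ⟨B, hBcard, hxB⟩ := Sylow.exists_subgroup_card_pow_prime_le p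
      (n := m) (m := k - 1) (by rw [hk]; exact pow_dvd_pow p (Nat.sub_le k 1))
      (Subgroup.zpowers x) hm (by omega)
    have hBidx : B.index = p := by
      have h0 := Subgroup.card_mul_index B
      rw [hBcard, hk] at h0
      have h1 : p ^ k = p ^ (k - 1) * p := by
        rw [← pow_succ]; congr 1; omega
      rw [h1] at h0
      exact Nat.eq_of_mul_eq_mul_left (pow_pos hp.pos _) h0
    have hBn : B.Normal := by
      apply Subgroup.normal_of_index_eq_minFac_card
      rw [hBidx, hk, hp.pow_minFac hk1]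
    have hBtop : B ≠ ⊤ := by
      intro h
      rw [← Subgroup.index_eq_one, hBidx] at h
      exact hp.one_lt.ne' h
    refine ⟨B, hBn, hBidx, hxB (Subgroup.mem_zpowers x), ?_⟩
    obtain ⟨g, hg⟩ := (hcyc B hBtop).exists_zpow_surjective
    intro y hy z hz
    obtain ⟨i, hi⟩ := hg ⟨y, hy⟩
    obtain ⟨j, hj⟩ := hg ⟨z, hz⟩
    have hi' : (g : P) ^ i = y := by simpa using congrArg Subtype.val hi
    have hj' : (g : P) ^ j = z := by simpa using congrArg Subtype.val hj
    rw [← hi', ← hj', ← zpow_add, ← zpow_add, add_comm]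
  have hza : Subgroup.zpowers a ≠ ⊤ := by
    intro h
    have hb : b ∈ Subgroup.zpowers a := h ▸ Subgroup.mem_top b
    obtain ⟨i, rfl⟩ := Subgroup.mem_zpowers_iff.1 hb
    exact hab (by rw [← zpow_one_add, ← zpow_add_one, add_comm])
  have hzb : Subgroup.zpowers b ≠ ⊤ := by
    intro h
    have ha : a ∈ Subgroup.zpowers b := h ▸ Subgroup.mem_top a
    obtain ⟨i, rfl⟩ := Subgroup.mem_zpowers_iff.1 ha
    exact hab (by rw [← zpow_one_add, ← zpow_add_one, add_comm])
  obtain ⟨A, hAn, _hAidx, haA, hAab⟩ := key a hza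
  obtain ⟨B, hBn, hBidx, hbB, hBab⟩ := key b hzb
  have hcA : a * b * a⁻¹ * b⁻¹ ∈ A := by
    have h1 : a * b * a⁻¹ * b⁻¹ = a * (b * a⁻¹ * b⁻¹) := by group
    rw [h1]
    exact A.mul_mem haA (hAn.conj_mem _ (A.inv_mem haA) _)
  have hcB : a * b * a⁻¹ * b⁻¹ ∈ B :=
    B.mul_mem (hBn.conj_mem _ hbB _) (B.inv_mem hbB)
  have hca := hAab _ hcA _ haA
  have hcb := hBab _ hcB _ hbB
  have hapB : a ^ p ∈ B := by
    have h0 := Subgroup.pow_index_mem B a
    rwa [hBidx] at h0
  have hapb := hBab _ hapB _ hbB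
  generalize hc : a * b * a⁻¹ * b⁻¹ = c at hca hcb ⊢
  have hcba : a * b = c * b * a := by rw [← hc]; group
  have hiter : ∀ n : ℕ, a ^ n * b = c ^ n * b * a ^ n := by
    intro n
    induction n with
    | zero => simp
    | succ n ih =>
      have hcn : a * c ^ n = c ^ n * a := ((Commute.pow_left (show Commute c a from hca) n).eq).symm
      calc a ^ (n + 1) * b = a * (a ^ n * b) := by rw [pow_succ', mul_assoc]
        _ = a * (c ^ n * b * a ^ n) := by rw [ih]
        _ = (a * c ^ n) * b * a ^ n := by simp only [mul_assoc]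
        _ = c ^ n * (a * b) * a ^ n := by rw [hcn]; simp only [mul_assoc]
        _ = c ^ n * (c * b * a) * a ^ n := by rw [hcba]
        _ = c ^ (n + 1) * b * a ^ (n + 1) := by
            rw [pow_succ, pow_succ']; simp only [mul_assoc]
  have hcp : c ^ p = 1 := by
    have h0 := hiter p
    rw [hapb] at h0
    have h1 : b * a ^ p = c ^ p * (b * a ^ p) := h0.trans (mul_assoc _ _ _)
    exact (mul_eq_right.1 h1.symm)
  have hord : orderOf c ∣ p := orderOf_dvd_of_pow_eq_one hcp
  rcases (Nat.dvd_prime hp).1 hord with h1 | h1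
  · rw [orderOf_eq_one_iff] at h1
    rw [h1]; exact N.one_mem
  · exact hNuniq c h1

end Cfsg.Agent.Lib.Helper74.AOCYCSTEP
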