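import Mathlib
import Cfsg.Prelude.Def_Characters
import Cfsg.Agent.Lib.CT.Ops
import Cfsg.Agent.Lib.CT.FrobRec
import Cfsg.Agent.Lib.CT.Orth
import Cfsg.Agent.Lib.CT.NormOne
import Cfsg.Agent.Lib.CT.LinChar
import Cfsg.Agent.Lib.CT.Kernel
import Cfsg.Agent.Lib.CT.IndChar
import Cfsg.Agent.Lib.CT.Wedderburn
import Cfsg.Agent.Lib.CT.Clifford
import Cfsg.Agent.Lib.Helper26.GenChar
import Cfsg.Agent.Lib.Helper26.Coherence

/-!
Exceptional characters for a subgroup `C` with a central subgroup `Z`, normalized by `N`, such that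
the non-regular elements of `C` form a trivial intersection set with normalizer `N` and `N / C`
acts freely on the nontrivial linear characters of `Z` (abstract core of the Brauer--Leonard
argument).
-/

set_option autoImplicit false
set_option linter.unusedSectionVars false
set_option linter.unusedVariables false

namespace Cfsg.Agent.Lib.Helper74.BLCore

open Cfsg Cfsg.Agent.Lib.CT Cfsg.Agent.Lib.CT.Wedderburn
open Cfsg.Agent.Lib.Helper26
open scoped ComplexConjugate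

universe u

variable {G : Type u} [Group G]

/-- The hypotheses of the abstract configuration. -/
structure Hyp (C N Z : Subgroup G) (reg : C → Prop) : Prop where
  hZC : Z ≤ C
  hCN : C ≤ N
  cent : ∀ z ∈ Z, ∀ c ∈ C, z * c = c * z
  normC : ∀ y ∈ N, ∀ c ∈ C, y⁻¹ * c * y ∈ C
  normZ : ∀ y ∈ N, ∀ z ∈ Z, y⁻¹ * z * y ∈ Z
  ti : ∀ c : C, ¬ reg c → ∀ g : G, g⁻¹ * (c : G) * g ∈ C → g ∈ N
  regStable : ∀ c : C, reg c → ∀ (g : G) (hg : g⁻¹ * (c : G) * g ∈ C),
    reg ⟨g⁻¹ * (c : G) * g, hg⟩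
  twist : ∀ ν : Z →* ℂˣ, ∃ ω : C →* ℂˣ,
    (∀ z : Z, ω ⟨z, hZC z.2⟩ = ν z) ∧ ∀ c : C, reg c → ω c = 1
  free : ∀ (y : G) (hy : y ∈ N), y ∉ C → ∀ ν : Z →* ℂˣ,
    (∀ (z : G) (hz : z ∈ Z), ν ⟨y⁻¹ * z * y, normZ y hy z hz⟩ = ν ⟨z, hz⟩) → ν = 1

variable {C N Z : Subgroup G} {reg : C → Prop}

/-- The inclusion of `Z` in `C`. -/
def incl (h : Hyp C N Z reg) (z : Z) : C := ⟨z, h.hZC z.2⟩

theorem incl_coe (h : Hyp C N Z reg) (z : Z) : ((incl h z : C) : G) = z := rfl

/-- Conjugation by an element of `N` as an automorphism of `C`. -/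
def cjEquiv (h : Hyp C N Z reg) (y : N) : C ≃* C where
  toFun c := ⟨(y : G)⁻¹ * c * y, h.normC y y.2 c c.2⟩
  invFun c := ⟨(y : G) * c * (y : G)⁻¹, by
    have := h.normC (y : G)⁻¹ (N.inv_mem y.2) c c.2
    simpa using this⟩
  left_inv c := by
    apply Subtype.ext
    simp [mul_assoc]
  right_inv c := by
    apply Subtype.ext
    simp [mul_assoc]
  map_mul' a b := by
    apply Subtype.ext
    simp [mul_assoc]

/-- The conjugate of a function on `C` by an element of `N`. -/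
def cj (h : Hyp C N Z reg) (y : N) (α : C → ℂ) : C → ℂ := fun c => α (cjEquiv h y c)

theorem cj_apply (h : Hyp C N Z reg) (y : N) (α : C → ℂ) (c : C) :
    cj h y α c = α ⟨(y : G)⁻¹ * c * y, h.normC y y.2 c c.2⟩ := rfl

theorem cj_mul (h : Hyp C N Z reg) (y₁ y₂ : N) (α : C → ℂ) :
    cj h (y₁ * y₂) α = cj h y₁ (cj h y₂ α) := by
  funext c
  simp only [cj_apply]
  congr 1
  apply Subtype.ext
  simp [mul_assoc]

theorem cj_one (h : Hyp C N Z reg) (α : C → ℂ) : cj h 1 α = α := by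
  funext c
  simp only [cj_apply]
  congr 1
  apply Subtype.ext
  simp

theorem cj_inv_cj (h : Hyp C N Z reg) (y : N) (α : C → ℂ) : cj h y⁻¹ (cj h y α) = α := by
  rw [← cj_mul, inv_mul_cancel, cj_one]

theorem cj_cj_inv (h : Hyp C N Z reg) (y : N) (α : C → ℂ) : cj h y (cj h y⁻¹ α) = α := by
  rw [← cj_mul, mul_inv_cancel, cj_one]

theorem cj_sub (h : Hyp C N Z reg) (y : N) (α β : C → ℂ) :
    cj h y (α - β) = cj h y α - cj h y β := rfl

theorem cj_of_mem (h : Hyp C N Z reg) (y : N) (hy : (y : G) ∈ C) {α : C → ℂ}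
    (hα : IsClassFunction C α) : cj h y α = α := by
  funext c
  rw [cj_apply]
  have := hα c ⟨(y : G)⁻¹, C.inv_mem hy⟩
  rw [← this]
  congr 1
  apply Subtype.ext
  simp

theorem cj_restrict (h : Hyp C N Z reg) {F : G → ℂ} (hF : IsClassFunction G F) (y : N) :
    cj h y (fun c : C => F c) = fun c : C => F c := by
  funext c
  rw [cj_apply]
  have := hF c (y : G)⁻¹
  simpa using this

theorem isIrr_cj (h : Hyp C N Z reg) {φ : C → ℂ} (hφ : IsIrrCharacter C φ) (y : N) :
    IsIrrCharacter C (cj h y φ) :=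
  Ops.isIrrCharacter_comp_mulEquiv (cjEquiv h y) hφ

theorem classInner_cj [Fintype C] (h : Hyp C N Z reg) (y : N) (α β : C → ℂ) :
    classInner (cj h y α) (cj h y β) = classInner α β := by
  unfold classInner
  congr 1
  exact Fintype.sum_equiv (cjEquiv h y).toEquiv _ _ (fun c => rfl)

/-- Conjugation by an element of `N` as an endomorphism of `Z`. -/
def conjZ (h : Hyp C N Z reg) (y : N) : Z →* Z where
  toFun z := ⟨(y : G)⁻¹ * z * y, h.normZ y y.2 z z.2⟩
  map_one' := by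
    apply Subtype.ext
    simp
  map_mul' a b := by
    apply Subtype.ext
    simp [mul_assoc]

/-- The action of `N` on the linear characters of `Z`. -/
def act (h : Hyp C N Z reg) (y : N) (ν : Z →* ℂˣ) : Z →* ℂˣ := ν.comp (conjZ h y)

theorem act_apply (h : Hyp C N Z reg) (y : N) (ν : Z →* ℂˣ) (z : Z) :
    act h y ν z = ν ⟨(y : G)⁻¹ * z * y, h.normZ y y.2 z z.2⟩ := rfl

theorem act_mul (h : Hyp C N Z reg) (y₁ y₂ : N) (ν : Z →* ℂˣ) :
    act h (y₁ * y₂) ν = act h y₁ (act h y₂ ν) := by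
  ext z
  simp only [act_apply]
  congr 3
  simp [mul_assoc]

theorem act_one (h : Hyp C N Z reg) (ν : Z →* ℂˣ) : act h 1 ν = ν := by
  ext z
  simp only [act_apply]
  congr 3
  simp

theorem act_inv_act (h : Hyp C N Z reg) (y : N) (ν : Z →* ℂˣ) : act h y⁻¹ (act h y ν) = ν := by
  rw [← act_mul, inv_mul_cancel, act_one]

theorem act_act_inv (h : Hyp C N Z reg) (y : N) (ν : Z →* ℂˣ) : act h y (act h y⁻¹ ν) = ν := by
  rw [← act_mul, mul_inv_cancel, act_one]

theorem act_one_right (h : Hyp C N Z reg) (y : N) : act h y (1 : Z →* ℂˣ) = 1 := rfl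

theorem act_div (h : Hyp C N Z reg) (y : N) (ν ν' : Z →* ℂˣ) :
    act h y (ν / ν') = act h y ν / act h y ν' := rfl

theorem act_eq_one_iff (h : Hyp C N Z reg) (y : N) (ν : Z →* ℂˣ) : act h y ν = 1 ↔ ν = 1 := by
  constructor
  · intro e
    have := congrArg (act h y⁻¹) e
    rwa [act_inv_act, act_one_right] at this
  · rintro rfl
    rfl

/-- `F` transforms under translation by `Z` through the linear character `ν`. -/
def HasCC (h : Hyp C N Z reg) (F : C → ℂ) (ν : Z →* ℂˣ) : Prop :=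
  ∀ (z : Z) (c : C), F (incl h z * c) = ((ν z : ℂˣ) : ℂ) * F c

theorem hasCC_cj (h : Hyp C N Z reg) {φ : C → ℂ} {ν : Z →* ℂˣ} (hφ : HasCC h φ ν) (y : N) :
    HasCC h (cj h y φ) (act h y ν) := by
  intro z c
  rw [cj_apply, cj_apply]
  have e : (⟨(y : G)⁻¹ * ((incl h z * c : C) : G) * y,
      h.normC y y.2 _ (incl h z * c).2⟩ : C) =
      incl h (conjZ h y z) * ⟨(y : G)⁻¹ * c * y, h.normC y y.2 c c.2⟩ := by
    apply Subtype.ext
    simp [incl, conjZ, mul_assoc]
  rw [e, hφ]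
  rfl

theorem hasCC_mul_hom (h : Hyp C N Z reg) {φ : C → ℂ} {ν ν₁ : Z →* ℂˣ} (hφ : HasCC h φ ν)
    (ω : C →* ℂˣ) (hω : ∀ z : Z, ω (incl h z) = ν₁ z) :
    HasCC h (fun c => φ c * ((ω c : ℂˣ) : ℂ)) (ν * ν₁) := by
  intro z c
  simp only
  rw [hφ, map_mul, hω, MonoidHom.mul_apply]
  push_cast
  ring

theorem conj_hom_apply [Finite Z] (ν : Z →* ℂˣ) (z : Z) :
    conj ((ν z : ℂˣ) : ℂ) = (((ν z)⁻¹ : ℂˣ) : ℂ) := by
  have h1 : ((ν z : ℂˣ) : ℂ) ^ orderOf z = 1 := by
    rw [← Units.val_pow_eq_pow_val, ← map_pow, pow_orderOf_eq_one, map_one, Units.val_one]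
  have h2 : ‖((ν z : ℂˣ) : ℂ)‖ = 1 :=
    Complex.norm_eq_one_of_pow_eq_one h1 (orderOf_pos z).ne'
  rw [Units.val_inv_eq_inv_val, Complex.inv_eq_conj h2]

theorem hasCC_mul_conj [Finite Z] (h : Hyp C N Z reg) {φ₁ φ₂ : C → ℂ} {ν₁ ν₂ : Z →* ℂˣ}
    (h₁ : HasCC h φ₁ ν₁) (h₂ : HasCC h φ₂ ν₂) :
    HasCC h (fun c => φ₁ c * conj (φ₂ c)) (ν₁ / ν₂) := by
  intro z c
  simp only
  rw [h₁, h₂, map_mul, conj_hom_apply, MonoidHom.div_apply, div_eq_mul_inv]
  push_cast
  ring

/-- A function with central character `ν` that is not orthogonal to a function with central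
character `ν'` forces `ν = ν'`. -/
theorem cc_eq_of_inner_ne_zero [Fintype C] [Finite Z] (h : Hyp C N Z reg) {F φ : C → ℂ}
    {ν ν' : Z →* ℂˣ} (hF : HasCC h F ν) (hφ : HasCC h φ ν') (hne : classInner F φ ≠ 0) :
    ν = ν' := by
  apply MonoidHom.ext
  intro z
  have hsum : ∑ c : C, F c * conj (φ c) =
      (((ν z : ℂˣ) : ℂ) * conj ((ν' z : ℂˣ) : ℂ)) * ∑ c : C, F c * conj (φ c) := by
    conv_lhs => rw [← Fintype.sum_equiv (Equiv.mulLeft (incl h z))
      (fun c => F (incl h z * c) * conj (φ (incl h z * c))) (fun c => F c * conj (φ c))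
      (fun c => rfl)]
    rw [Finset.mul_sum]
    apply Finset.sum_congr rfl
    intro c _
    rw [hF, hφ, map_mul]
    ring
  have key : classInner F φ =
      (((ν z : ℂˣ) : ℂ) * conj ((ν' z : ℂˣ) : ℂ)) * classInner F φ := by
    unfold classInner
    rw [mul_left_comm, ← hsum]
  have h1 : ((ν z : ℂˣ) : ℂ) * conj ((ν' z : ℂˣ) : ℂ) = 1 := by
    have h2 : (((ν z : ℂˣ) : ℂ) * conj ((ν' z : ℂˣ) : ℂ)) * classInner F φ =
        1 * classInner F φ := by
      rw [one_mul]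
      exact key.symm
    exact mul_right_cancel₀ hne h2
  rw [conj_hom_apply] at h1
  have h3 : ν z * (ν' z)⁻¹ = 1 := by
    apply Units.ext
    rw [Units.val_mul, Units.val_one]
    exact h1
  exact mul_inv_eq_one.mp h3

/-- An irreducible character of `C` has a central character on `Z`. -/
theorem exists_cc [Finite C] (h : Hyp C N Z reg) {φ : C → ℂ} (hφ : IsIrrCharacter C φ) :
    ∃ ν : Z →* ℂˣ, HasCC h φ ν := by
  have h1 : φ 1 ≠ 0 := irr_apply_one_ne_zero hφ
  have hc : ∀ z : Z, incl h z ∈ Subgroup.center C := by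
    intro z
    rw [Subgroup.mem_center_iff]
    intro g
    apply Subtype.ext
    exact (h.cent z z.2 g g.2).symm
  have hs : ∀ (z : Z) (c : C), φ (incl h z * c) = (φ (incl h z) / φ 1) * φ c := by
    intro z c
    obtain ⟨ω, hω1, -, hω3⟩ := Kernel.exists_scalar_of_norm_eq (isCharacter_of_irr hφ)
      (Kernel.norm_eq_of_mem_center hφ (hc z))
    rw [hω1, hω3]
    field_simp
  let f : Z →* ℂ :=
    { toFun := fun z => φ (incl h z) / φ 1
      map_one' := by
        show φ (incl h 1) / φ 1 = 1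
        have : incl h 1 = 1 := rfl
        rw [this]
        exact div_self h1
      map_mul' := by
        intro a b
        show φ (incl h (a * b)) / φ 1 = (φ (incl h a) / φ 1) * (φ (incl h b) / φ 1)
        have e : incl h (a * b) = incl h a * incl h b := rfl
        rw [e, hs]
        field_simp }
  refine ⟨f.toHomUnits, ?_⟩
  intro z c
  rw [MonoidHom.coe_toHomUnits]
  exact hs z c


/-- Restricting a character to `C`: a constituent with nontrivial central character exists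
as soon as `Z` is not in the kernel. -/
theorem exists_constituent [Fintype C] [Finite Z] (h : Hyp C N Z reg) {F : C → ℂ}
    (hF : IsCharacter C F) (hz : ∃ z : Z, F (incl h z) ≠ F 1) :
    ∃ (φ : C → ℂ) (ν : Z →* ℂˣ) (m : ℕ), IsIrrCharacter C φ ∧ HasCC h φ ν ∧ ν ≠ 1 ∧
      classInner F φ = m ∧ 1 ≤ m := by
  classical
  have := finite_irrCharacter C
  have : Fintype (IrrCharacter C) := Fintype.ofFinite _
  obtain ⟨m, hm, hexp⟩ := NormOne.exists_mult_sum hF
  by_contra hcon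
  push Not at hcon
  obtain ⟨z, hz⟩ := hz
  apply hz
  have hval : ∀ c : C, F c = ∑ ψ : IrrCharacter C, (m ψ : ℂ) * (ψ : C → ℂ) c := by
    intro c
    have := congrFun hexp c
    rw [Finset.sum_apply] at this
    simpa using this
  rw [hval, hval]
  apply Finset.sum_congr rfl
  intro ψ _
  by_cases h0 : m ψ = 0
  · rw [h0]
    simp
  · obtain ⟨ν, hν⟩ := exists_cc h ψ.2
    have hν1 : ν = 1 := by
      by_contra hne
      have := hcon (ψ : C → ℂ) ν (m ψ) ψ.2 hν hne (hm ψ)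
      omega
    have := hν z 1
    rw [mul_one, hν1] at this
    rw [this]
    simp

section Orb

variable [Fintype N]

/-- The average of the `N`-conjugates of a function on `C` (normalized by `|C|`). -/
noncomputable def orb (h : Hyp C N Z reg) (α : C → ℂ) : C → ℂ :=
  (Nat.card C : ℂ)⁻¹ • ∑ y : N, cj h y α

theorem orb_apply (h : Hyp C N Z reg) (α : C → ℂ) (c : C) :
    orb h α c = (Nat.card C : ℂ)⁻¹ * ∑ y : N, cj h y α c := by
  unfold orb
  rw [Pi.smul_apply, Finset.sum_apply, smul_eq_mul]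

theorem orb_sub (h : Hyp C N Z reg) (α β : C → ℂ) : orb h (α - β) = orb h α - orb h β := by
  funext c
  rw [Pi.sub_apply, orb_apply, orb_apply, orb_apply, ← mul_sub, ← Finset.sum_sub_distrib]
  rfl

theorem cj_orb (h : Hyp C N Z reg) (y : N) (α : C → ℂ) : cj h y (orb h α) = orb h α := by
  funext c
  rw [cj_apply, orb_apply, orb_apply]
  congr 1
  rw [← Fintype.sum_equiv (Equiv.mulLeft y) (fun z => cj h (y * z) α c) (fun z => cj h z α c)
    (fun z => rfl)]
  apply Finset.sum_congr rfl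
  intro z _
  rw [cj_mul]
  rfl

/-- Values on `C` of the function induced from a function vanishing on regular elements. -/
theorem indFun_eq_orb [Fintype G] [Fintype C] (h : Hyp C N Z reg) {α : C → ℂ}
    (hα : ∀ c, reg c → α c = 0) (c : C) : indFun C α (c : G) = orb h α c := by
  classical
  rw [FrobRec.indFun_apply, orb_apply]
  congr 1
  have h0 : ∀ x : G, extendByZero C α (x⁻¹ * (c : G) * x) ≠ 0 → x ∈ N := by
    intro x hx
    by_contra hxN
    apply hx
    by_cases hm : x⁻¹ * (c : G) * x ∈ C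
    · rw [FrobRec.extendByZero_apply_of_mem C α hm]
      apply hα
      apply h.regStable c _ x hm
      by_contra hreg
      exact hxN (h.ti c hreg x hm)
    · exact FrobRec.extendByZero_apply_of_not_mem C α hm
  rw [← Finset.sum_filter_of_ne (p := fun x => x ∈ N) (fun x _ hx => h0 x hx)]
  rw [Finset.sum_subtype (Finset.univ.filter (fun x => x ∈ N)) (p := fun x => x ∈ N)
    (by intro x; simp) (fun x => extendByZero C α (x⁻¹ * (c : G) * x))]
  apply Finset.sum_congr rfl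
  intro y _
  rw [FrobRec.extendByZero_apply_of_mem C α (h.normC y y.2 c c.2)]
  rfl

theorem inner_ind_ind [Fintype G] [Fintype C] (h : Hyp C N Z reg) (α β : C → ℂ)
    (hβ : ∀ c, reg c → β c = 0) :
    classInner (indFun C α) (indFun C β) = classInner α (orb h β) := by
  rw [FrobRec.frobenius_reciprocity C α (indFun C β) (FrobRec.indFun_isClassFunction C β)]
  congr 1
  funext c
  exact indFun_eq_orb h hβ c

theorem inner_orb_right [Fintype C] (h : Hyp C N Z reg) (α β : C → ℂ) :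
    classInner α (orb h β) = (Nat.card C : ℂ)⁻¹ * ∑ y : N, classInner α (cj h y β) := by
  unfold orb
  rw [GenChar.classInner_smul_right, GenChar.classInner_sum_right, map_inv₀, Complex.conj_natCast]

theorem inner_orb_left [Fintype C] (h : Hyp C N Z reg) (α β : C → ℂ) :
    classInner (orb h α) β = (Nat.card C : ℂ)⁻¹ * ∑ y : N, classInner (cj h y α) β := by
  unfold orb
  rw [Orth.classInner_smul_left, Orth.classInner_sum_left]

theorem inner_orb_eq_zero [Fintype C] (h : Hyp C N Z reg) {φ φ' : C → ℂ}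
    (hφ : IsIrrCharacter C φ) (hφ' : IsIrrCharacter C φ') (hne : ∀ y : N, cj h y φ' ≠ φ) :
    classInner φ (orb h φ') = 0 := by
  rw [inner_orb_right, Finset.sum_eq_zero, mul_zero]
  intro y _
  exact Coherence.irr_inner_ne hφ (isIrr_cj h hφ' y) (fun e => hne y e.symm)

/-- The stabilizer of `φ` in `N` is `C`. -/
def StabC (h : Hyp C N Z reg) (φ : C → ℂ) : Prop := ∀ y : N, cj h y φ = φ → (y : G) ∈ C

theorem card_filter_mem [Fintype C] (h : Hyp C N Z reg) [DecidablePred fun y : N => (y : G) ∈ C] :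
    (Finset.univ.filter (fun y : N => (y : G) ∈ C)).card = Nat.card C := by
  rw [← Fintype.card_subtype, ← Nat.card_eq_fintype_card]
  exact Nat.card_congr (Subgroup.subgroupOfEquivOfLe h.hCN).toEquiv

theorem sum_inner_cj_self [Fintype C] (h : Hyp C N Z reg) {φ : C → ℂ} (hφ : IsIrrCharacter C φ)
    (hst : StabC h φ) : ∑ y : N, classInner φ (cj h y φ) = (Nat.card C : ℂ) := by
  classical
  have h1 : ∀ y : N, classInner φ (cj h y φ) = if (y : G) ∈ C then 1 else 0 := by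
    intro y
    rw [Coherence.irr_inner hφ (isIrr_cj h hφ y)]
    by_cases hy : (y : G) ∈ C
    · rw [if_pos hy, if_pos (cj_of_mem h y hy (char_isClassFunction (isCharacter_of_irr hφ))).symm]
    · rw [if_neg hy, if_neg (fun e => hy (hst y e.symm))]
  rw [Finset.sum_congr rfl (fun y _ => h1 y), Finset.sum_boole, card_filter_mem h]

theorem inner_orb_self [Fintype C] (h : Hyp C N Z reg) {φ : C → ℂ} (hφ : IsIrrCharacter C φ)
    (hst : StabC h φ) : classInner φ (orb h φ) = 1 := by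
  rw [inner_orb_right, sum_inner_cj_self h hφ hst]
  exact inv_mul_cancel₀ (Nat.cast_ne_zero.mpr Nat.card_pos.ne')

theorem stabC_of_cc [Fintype C] [Finite Z] (h : Hyp C N Z reg) {φ : C → ℂ} {ν : Z →* ℂˣ}
    (hφ : IsIrrCharacter C φ) (hcc : HasCC h φ ν) (hν : ν ≠ 1) : StabC h φ := by
  intro y hy
  by_contra hyC
  have h1 := hasCC_cj h hcc y
  rw [hy] at h1
  have e : act h y ν = ν := cc_eq_of_inner_ne_zero h h1 hcc (by
    rw [Coherence.irr_inner_self hφ]
    exact one_ne_zero)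
  exact hν (h.free y y.2 hyC ν (fun z hz => DFunLike.congr_fun e ⟨z, hz⟩))

/-- If two irreducible characters of `C` are `N`-conjugate, so are their central characters. -/
theorem cc_of_cj_eq [Fintype C] [Finite Z] (h : Hyp C N Z reg) {φ φ' : C → ℂ} {ν ν' : Z →* ℂˣ}
    (hφ : IsIrrCharacter C φ) (hcc : HasCC h φ ν) (hcc' : HasCC h φ' ν') (y : N)
    (e : cj h y φ = φ') : act h y ν = ν' := by
  have h1 := hasCC_cj h hcc y
  rw [e] at h1
  have hφ' : IsIrrCharacter C φ' := e ▸ isIrr_cj h hφ y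
  exact cc_eq_of_inner_ne_zero h h1 hcc' (by
    rw [Coherence.irr_inner_self hφ']
    exact one_ne_zero)


theorem inner_restrict_cj [Fintype C] (h : Hyp C N Z reg) {F : G → ℂ} (hF : IsClassFunction G F)
    (φ : C → ℂ) (y : N) :
    classInner (fun c : C => F c) (cj h y φ) = classInner (fun c : C => F c) φ := by
  have e := classInner_cj h y (fun c : C => F c) φ
  rw [cj_restrict h hF y] at e
  exact e

/-- **Orbit-sum lemma**: a class function of `G` whose restriction to `C` has norm at most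
`|N : C|` and contains an irreducible character with stabilizer `C` restricts to the orbit sum. -/
theorem eq_orb_of_le [Fintype C] (h : Hyp C N Z reg) {F : G → ℂ} (hF : IsClassFunction G F)
    {φ : C → ℂ} (hφ : IsIrrCharacter C φ) (hst : StabC h φ) (m : ℕ)
    (hm : classInner (fun c : C => F c) φ = m) (hm1 : 1 ≤ m)
    (hle : (classInner (fun c : C => F c) (fun c : C => F c)).re ≤
      (Nat.card N : ℝ) / (Nat.card C : ℝ)) :
    m = 1 ∧ ∀ c : C, F c = orb h φ c := by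
  have hC0 : (Nat.card C : ℂ) ≠ 0 := Nat.cast_ne_zero.mpr Nat.card_pos.ne'
  have hCpos : (0 : ℝ) < Nat.card C := Nat.cast_pos.mpr Nat.card_pos
  have hNpos : (0 : ℝ) < Nat.card N := Nat.cast_pos.mpr Nat.card_pos
  obtain ⟨FC, hFC⟩ : ∃ FC : C → ℂ, FC = fun c : C => F c := ⟨_, rfl⟩
  rw [← hFC] at hm hle
  have h1 : classInner FC (orb h φ) = (Nat.card N : ℂ) / (Nat.card C : ℂ) * m := by
    rw [inner_orb_right]
    have : ∀ y : N, classInner FC (cj h y φ) = m := by
      intro y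
      rw [hFC, inner_restrict_cj h hF φ y, ← hFC, hm]
    rw [Finset.sum_congr rfl (fun y _ => this y), Finset.sum_const, Finset.card_univ,
      nsmul_eq_mul, ← Nat.card_eq_fintype_card]
    field_simp
  have h2 : classInner (orb h φ) FC = (Nat.card N : ℂ) / (Nat.card C : ℂ) * m := by
    rw [Clifford.classInner_conj_symm, h1]
    simp [map_div₀]
  have h3 : classInner (orb h φ) (orb h φ) = (Nat.card N : ℂ) / (Nat.card C : ℂ) := by
    rw [inner_orb_left]
    have : ∀ y : N, classInner (cj h y φ) (orb h φ) = 1 := by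
      intro y
      have e := classInner_cj h y φ (orb h φ)
      rw [cj_orb] at e
      rw [e, inner_orb_self h hφ hst]
    rw [Finset.sum_congr rfl (fun y _ => this y), Finset.sum_const, Finset.card_univ,
      nsmul_eq_mul, ← Nat.card_eq_fintype_card]
    field_simp
  have h4 : classInner (FC - (m : ℂ) • orb h φ) (FC - (m : ℂ) • orb h φ) =
      classInner FC FC - (m : ℂ) ^ 2 * ((Nat.card N : ℂ) / (Nat.card C : ℂ)) := by
    rw [Orth.classInner_sub_left, GenChar.classInner_sub_right, GenChar.classInner_sub_right,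
      Orth.classInner_smul_left, Orth.classInner_smul_left, GenChar.classInner_smul_right,
      GenChar.classInner_smul_right, h1, h2, h3]
    simp only [Complex.conj_natCast]
    ring
  have h5 := GenChar.classInner_self (FC - (m : ℂ) • orb h φ)
  have h6 : 0 ≤ (classInner (FC - (m : ℂ) • orb h φ) (FC - (m : ℂ) • orb h φ)).re := by
    rw [h5, Complex.ofReal_re]
    positivity
  have h7 : (classInner (FC - (m : ℂ) • orb h φ) (FC - (m : ℂ) • orb h φ)).re =
      (classInner FC FC).re - (m : ℝ) ^ 2 * ((Nat.card N : ℝ) / (Nat.card C : ℝ)) := by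
    rw [h4]
    have : ((m : ℂ) ^ 2 * ((Nat.card N : ℂ) / (Nat.card C : ℂ))) =
        (((m : ℝ) ^ 2 * ((Nat.card N : ℝ) / (Nat.card C : ℝ)) : ℝ) : ℂ) := by
      push_cast
      rfl
    rw [Complex.sub_re, this, Complex.ofReal_re]
  have he : (0 : ℝ) < (Nat.card N : ℝ) / (Nat.card C : ℝ) := div_pos hNpos hCpos
  obtain ⟨e, hedef⟩ : ∃ e : ℝ, e = (Nat.card N : ℝ) / (Nat.card C : ℝ) := ⟨_, rfl⟩
  rw [← hedef] at he hle h7
  have hm' : m = 1 := by
    by_contra hne
    have h2m : 2 ≤ m := by omega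
    have h2m' : (2 : ℝ) ≤ m := by exact_mod_cast h2m
    have h8' : (4 : ℝ) ≤ (m : ℝ) ^ 2 := by nlinarith
    have h8 : 4 * e ≤ (m : ℝ) ^ 2 * e := mul_le_mul_of_nonneg_right h8' he.le
    linarith
  refine ⟨hm', ?_⟩
  subst hm'
  have h8 : (classInner (FC - ((1 : ℕ) : ℂ) • orb h φ) (FC - ((1 : ℕ) : ℂ) • orb h φ)).re = 0 := by
    apply le_antisymm _ h6
    rw [h7]
    simp only [Nat.cast_one, one_pow, one_mul]
    linarith
  have h9 : classInner (FC - ((1 : ℕ) : ℂ) • orb h φ) (FC - ((1 : ℕ) : ℂ) • orb h φ) = 0 := by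
    rw [h5] at h8 ⊢
    rw [Complex.ofReal_re] at h8
    rw [h8]
    simp
  have h10 := GenChar.eq_zero_of_classInner_self_eq_zero h9
  intro c
  have := congrFun h10 c
  simp only [Pi.sub_apply, Nat.cast_one, one_smul, Pi.zero_apply] at this
  rw [hFC] at this
  exact sub_eq_zero.mp this

/-- **Step A**: the restriction to `C` of a character with small norm on `C`. -/
theorem stepA [Fintype C] [Finite Z] (h : Hyp C N Z reg) {χ : G → ℂ} (hχ : IsCharacter G χ)
    (hle : (classInner (fun c : C => χ c) (fun c : C => χ c)).re ≤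
      (Nat.card N : ℝ) / (Nat.card C : ℝ))
    (hker : ∃ z : Z, χ (z : G) ≠ χ 1) :
    ∃ (φ : C → ℂ) (ν : Z →* ℂˣ), IsIrrCharacter C φ ∧ HasCC h φ ν ∧ ν ≠ 1 ∧
      ∀ c : C, χ c = orb h φ c := by
  have hres : IsCharacter C (fun c : C => χ c) := Ops.isCharacter_restrict C hχ
  obtain ⟨φ, ν, m, hφ, hcc, hν, hm, hm1⟩ := exists_constituent h hres (by
    obtain ⟨z, hz⟩ := hker
    exact ⟨z, hz⟩)
  obtain ⟨-, hr⟩ := eq_orb_of_le h (char_isClassFunction hχ) hφ (stabC_of_cc h hφ hcc hν) m hm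
    hm1 hle
  exact ⟨φ, ν, hφ, hcc, hν, hr⟩

theorem irr_of_norm_one [Fintype G] {η : G → ℂ} (hη : IsGeneralizedCharacter G η)
    (h1 : classInner η η = 1) (n : ℕ) (hn : 0 < n) (hη1 : η 1 = n) : IsIrrCharacter G η := by
  obtain ⟨μ, hμ, hor⟩ := GenChar.eq_irr_or_neg_of_norm_one hη h1
  rcases hor with e | e
  · rw [e]
    exact hμ
  · exfalso
    obtain ⟨k, hk, hk1⟩ := irr_exists_apply_one_pos hμ
    have h2 : η 1 = -(k : ℂ) := by rw [e, Pi.neg_apply, hk1]
    rw [hη1] at h2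
    have h3 : ((n + k : ℕ) : ℂ) = 0 := by
      push_cast
      rw [h2]
      ring
    have h4 : n + k = 0 := by exact_mod_cast h3
    omega

/-- **Step B**: the partner of `χ` in its exceptional family attached to a twist. -/
theorem stepB [Fintype G] [Fintype C] [Finite Z] (h : Hyp C N Z reg) {χ : G → ℂ}
    (hχ : IsIrrCharacter G χ) {φ : C → ℂ} {ν : Z →* ℂˣ} (hφ : IsIrrCharacter C φ)
    (hcc : HasCC h φ ν) (hν : ν ≠ 1) (hres : ∀ c : C, χ c = orb h φ c) (μ : Z →* ℂˣ)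
    (hμ1 : μ ≠ 1) (hμ : ∀ y : N, act h y ν ≠ μ) (ω : C →* ℂˣ)
    (hω : ∀ z : Z, ω (incl h z) = (μ / ν) z) (hωreg : ∀ c : C, reg c → ω c = 1) :
    IsIrrCharacter G (χ - indFun C (fun c => φ c - φ c * ((ω c : ℂˣ) : ℂ))) := by
  obtain ⟨φ', hφ'def⟩ : ∃ φ' : C → ℂ, φ' = fun c => φ c * ((ω c : ℂˣ) : ℂ) := ⟨_, rfl⟩
  have hφ' : IsIrrCharacter C φ' := by
    rw [hφ'def]
    exact LinChar.isIrrCharacter_mul_linear hφ (LinChar.isCharacter_of_hom ω) (by simp)
  have hcc' : HasCC h φ' μ := by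
    have := hasCC_mul_hom h hcc ω hω
    have e : ν * (μ / ν) = μ := mul_div_cancel ν μ
    rw [e] at this
    rw [hφ'def]
    exact this
  have hα : (fun c => φ c - φ c * ((ω c : ℂˣ) : ℂ)) = φ - φ' := by
    rw [hφ'def]
    rfl
  have hvan : ∀ c, reg c → (φ - φ') c = 0 := by
    intro c hc
    rw [hφ'def]
    simp [hωreg c hc]
  rw [hα]
  have hst : StabC h φ := stabC_of_cc h hφ hcc hν
  have hst' : StabC h φ' := stabC_of_cc h hφ' hcc' hμ1
  have e1 : classInner φ (orb h φ') = 0 := by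
    apply inner_orb_eq_zero h hφ hφ'
    intro y e
    have := cc_of_cj_eq h hφ' hcc' hcc y e
    apply hμ y⁻¹
    rw [← this, act_inv_act]
  have e2 : classInner φ' (orb h φ) = 0 := by
    apply inner_orb_eq_zero h hφ' hφ
    intro y e
    exact hμ y (cc_of_cj_eq h hφ hcc hcc' y e)
  have hnorm : classInner (indFun C (φ - φ')) (indFun C (φ - φ')) = 2 := by
    rw [inner_ind_ind h _ _ hvan, orb_sub, Orth.classInner_sub_left,
      GenChar.classInner_sub_right, GenChar.classInner_sub_right,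
      inner_orb_self h hφ hst, inner_orb_self h hφ' hst', e1, e2]
    norm_num
  have hΞχ : classInner (indFun C (φ - φ')) χ = 1 := by
    rw [FrobRec.frobenius_reciprocity C _ χ (char_isClassFunction (isCharacter_of_irr hχ))]
    have : (fun c : C => χ c) = orb h φ := funext hres
    rw [this, Orth.classInner_sub_left, inner_orb_self h hφ hst, e2, sub_zero]
  have hχΞ : classInner χ (indFun C (φ - φ')) = 1 := by
    rw [Clifford.classInner_conj_symm, hΞχ, map_one]
  have hgen : IsGeneralizedCharacter G (χ - indFun C (φ - φ')) := by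
    apply GenChar.isGeneralizedCharacter_sub (GenChar.isGeneralizedCharacter_of_irr hχ)
    rw [FrobRec.indFun_sub]
    exact ⟨_, _, IndChar.isCharacter_indFun C φ (isCharacter_of_irr hφ),
      IndChar.isCharacter_indFun C φ' (isCharacter_of_irr hφ'), rfl⟩
  obtain ⟨n, hn, hn1⟩ := irr_exists_apply_one_pos hχ
  apply irr_of_norm_one hgen _ n hn
  · rw [Pi.sub_apply, FrobRec.indFun_one, hn1, Pi.sub_apply, hφ'def]
    simp
  · rw [Orth.classInner_sub_left, GenChar.classInner_sub_right, GenChar.classInner_sub_right,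
      Coherence.irr_inner_self hχ, hχΞ, hΞχ, hnorm]
    norm_num


theorem act_of_mem (h : Hyp C N Z reg) (y : N) (hy : (y : G) ∈ C) (ν : Z →* ℂˣ) :
    act h y ν = ν := by
  ext z
  simp only [act_apply]
  congr 3
  have := h.cent z z.2 y hy
  rw [mul_assoc, this, inv_mul_cancel_left]

theorem inner_orb_zero_of_cc [Fintype C] [Finite Z] (h : Hyp C N Z reg) {φ φ' : C → ℂ}
    {ν ν' : Z →* ℂˣ} (hφ : IsIrrCharacter C φ) (hφ' : IsIrrCharacter C φ') (hcc : HasCC h φ ν)
    (hcc' : HasCC h φ' ν') (hne : ∀ y : N, act h y ν' ≠ ν) : classInner φ (orb h φ') = 0 :=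
  inner_orb_eq_zero h hφ hφ' (fun y e => hne y (cc_of_cj_eq h hφ' hcc' hcc y e))

theorem inner_orb_same_cc [Fintype C] [Finite Z] (h : Hyp C N Z reg) {a a' : C → ℂ}
    {κ : Z →* ℂˣ} (ha : IsIrrCharacter C a) (ha' : IsIrrCharacter C a') (hcc : HasCC h a κ)
    (hcc' : HasCC h a' κ) (hκ : κ ≠ 1) (hne : a ≠ a') : classInner a (orb h a') = 0 := by
  apply inner_orb_eq_zero h ha ha'
  intro y e
  have e1 : act h y κ = κ := cc_of_cj_eq h ha' hcc' hcc y e
  have hy : (y : G) ∈ C := by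
    by_contra hyC
    exact hκ (h.free y y.2 hyC κ (fun z hz => DFunLike.congr_fun e1 ⟨z, hz⟩))
  rw [cj_of_mem h y hy (char_isClassFunction (isCharacter_of_irr ha'))] at e
  exact hne e.symm

/-- The partner of `ψ` obtained by twisting a constituent of its restriction to `C` by a linear
character outside the support. -/
theorem partner [Fintype G] [Fintype C] [Finite Z] (h : Hyp C N Z reg) {ψ : G → ℂ}
    (hψ : IsIrrCharacter G ψ) (S : Set (Z →* ℂˣ))
    (hSstab : ∀ (y : N) (ν : Z →* ℂˣ), ν ∈ S → act h y ν ∈ S)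
    (hS : ∀ (φ' : C → ℂ) (ν' : Z →* ℂˣ), IsIrrCharacter C φ' → HasCC h φ' ν' →
      classInner (fun c : C => ψ c) φ' ≠ 0 → ν' ∈ S)
    (κ : Z →* ℂˣ) (hκ : κ ∉ S) (hκ1 : κ ≠ 1) {φ₀ : C → ℂ} {ν₀ : Z →* ℂˣ}
    (hφ₀ : IsIrrCharacter C φ₀) (hcc₀ : HasCC h φ₀ ν₀) (hν₀ : ν₀ ≠ 1)
    (hc₀ : classInner (fun c : C => ψ c) φ₀ ≠ 0) :
    ∃ a : C → ℂ, IsIrrCharacter C a ∧ HasCC h a κ ∧ (∀ c, reg c → (φ₀ - a) c = 0) ∧
      classInner (indFun C (φ₀ - a)) (indFun C (φ₀ - a)) = 2 ∧
      IsIrrCharacter G (ψ - indFun C (φ₀ - a)) ∧ classInner (indFun C (φ₀ - a)) ψ = 1 := by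
  obtain ⟨ω, hω, hωreg⟩ := h.twist (κ / ν₀)
  obtain ⟨a, hadef⟩ : ∃ a : C → ℂ, a = fun c => φ₀ c * ((ω c : ℂˣ) : ℂ) := ⟨_, rfl⟩
  have ha : IsIrrCharacter C a := by
    rw [hadef]
    exact LinChar.isIrrCharacter_mul_linear hφ₀ (LinChar.isCharacter_of_hom ω) (by simp)
  have hacc : HasCC h a κ := by
    have := hasCC_mul_hom h hcc₀ ω hω
    have e : ν₀ * (κ / ν₀) = κ := mul_div_cancel ν₀ κ
    rw [e] at this
    rw [hadef]
    exact this
  have hvan : ∀ c, reg c → (φ₀ - a) c = 0 := by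
    intro c hc
    rw [hadef]
    simp [hωreg c hc]
  have hν₀S : ν₀ ∈ S := hS φ₀ ν₀ hφ₀ hcc₀ hc₀
  have hκS : ∀ y : N, act h y κ ∉ S := by
    intro y hy
    apply hκ
    have := hSstab y⁻¹ _ hy
    rwa [act_inv_act] at this
  have hst : StabC h φ₀ := stabC_of_cc h hφ₀ hcc₀ hν₀
  have hst' : StabC h a := stabC_of_cc h ha hacc hκ1
  have e1 : classInner φ₀ (orb h a) = 0 :=
    inner_orb_zero_of_cc h hφ₀ ha hcc₀ hacc (fun y e => hκS y (e ▸ hν₀S))
  have e2 : classInner a (orb h φ₀) = 0 :=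
    inner_orb_zero_of_cc h ha hφ₀ hacc hcc₀ (fun y e => hκ (e ▸ hSstab y _ hν₀S))
  have hnorm : classInner (indFun C (φ₀ - a)) (indFun C (φ₀ - a)) = 2 := by
    rw [inner_ind_ind h _ _ hvan, orb_sub, Orth.classInner_sub_left,
      GenChar.classInner_sub_right, GenChar.classInner_sub_right,
      inner_orb_self h hφ₀ hst, inner_orb_self h ha hst', e1, e2]
    norm_num
  have hψc : IsCharacter C (fun c : C => ψ c) := Ops.isCharacter_restrict C (isCharacter_of_irr hψ)
  obtain ⟨m₀, hm₀⟩ := Clifford.classInner_char_nat hψc (isCharacter_of_irr hφ₀)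
  have hm₀pos : 1 ≤ m₀ := by
    rcases Nat.eq_zero_or_pos m₀ with h0 | h0
    · exfalso
      apply hc₀
      rw [hm₀, h0]
      simp
    · exact h0
  have haψ : classInner a (fun c : C => ψ c) = 0 := by
    rw [Clifford.classInner_conj_symm]
    have : classInner (fun c : C => ψ c) a = 0 := by
      by_contra hne
      exact hκ (hS a κ ha hacc hne)
    rw [this, map_zero]
  have hΞψ : classInner (indFun C (φ₀ - a)) ψ = m₀ := by
    rw [FrobRec.frobenius_reciprocity C _ ψ (char_isClassFunction (isCharacter_of_irr hψ)),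
      Orth.classInner_sub_left, haψ, sub_zero, Clifford.classInner_conj_symm, hm₀,
      Complex.conj_natCast]
  have hψΞ : classInner ψ (indFun C (φ₀ - a)) = m₀ := by
    rw [Clifford.classInner_conj_symm, hΞψ, Complex.conj_natCast]
  have hnη : classInner (ψ - indFun C (φ₀ - a)) (ψ - indFun C (φ₀ - a)) = 3 - 2 * (m₀ : ℂ) := by
    rw [Orth.classInner_sub_left, GenChar.classInner_sub_right, GenChar.classInner_sub_right,
      Coherence.irr_inner_self hψ, hψΞ, hΞψ, hnorm]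
    ring
  have hm₀1 : m₀ = 1 := by
    have h5 := GenChar.classInner_self (ψ - indFun C (φ₀ - a))
    rw [hnη] at h5
    have h6 : (0 : ℝ) ≤ (Nat.card G : ℝ)⁻¹ * ∑ g : G, ‖(ψ - indFun C (φ₀ - a)) g‖ ^ 2 := by
      positivity
    have h7 : ((3 - 2 * (m₀ : ℝ) : ℝ) : ℂ) =
        (((Nat.card G : ℝ)⁻¹ * ∑ g : G, ‖(ψ - indFun C (φ₀ - a)) g‖ ^ 2 : ℝ) : ℂ) := by
      rw [← h5]
      push_cast
      rfl
    have h8 : (3 - 2 * (m₀ : ℝ) : ℝ) =
        (Nat.card G : ℝ)⁻¹ * ∑ g : G, ‖(ψ - indFun C (φ₀ - a)) g‖ ^ 2 := by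
      exact_mod_cast h7
    have h9 : (m₀ : ℝ) ≤ 3 / 2 := by linarith
    have h10 : m₀ < 2 := by
      by_contra hcon
      have : (2 : ℝ) ≤ m₀ := by exact_mod_cast (not_lt.mp hcon)
      linarith
    omega
  subst hm₀1
  have hgen : IsGeneralizedCharacter G (ψ - indFun C (φ₀ - a)) := by
    apply GenChar.isGeneralizedCharacter_sub (GenChar.isGeneralizedCharacter_of_irr hψ)
    rw [FrobRec.indFun_sub]
    exact ⟨_, _, IndChar.isCharacter_indFun C φ₀ (isCharacter_of_irr hφ₀),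
      IndChar.isCharacter_indFun C a (isCharacter_of_irr ha), rfl⟩
  obtain ⟨n, hn, hn1⟩ := irr_exists_apply_one_pos hψ
  refine ⟨a, ha, hacc, hvan, hnorm, ?_, by rw [hΞψ]; simp⟩
  apply irr_of_norm_one hgen _ n hn
  · rw [Pi.sub_apply, FrobRec.indFun_one, hn1, Pi.sub_apply, hadef]
    simp
  · rw [hnη]
    norm_num


/-- **Single orbit**: the constituents with nontrivial central character of the restriction to
`C` of an irreducible character with small support are all `N`-conjugate. -/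
theorem single_orbit [Fintype G] [Fintype C] [Finite Z] (h : Hyp C N Z reg) {ψ : G → ℂ}
    (hψ : IsIrrCharacter G ψ) (S : Set (Z →* ℂˣ))
    (hSstab : ∀ (y : N) (ν : Z →* ℂˣ), ν ∈ S → act h y ν ∈ S)
    (hS : ∀ (φ' : C → ℂ) (ν' : Z →* ℂˣ), IsIrrCharacter C φ' → HasCC h φ' ν' →
      classInner (fun c : C => ψ c) φ' ≠ 0 → ν' ∈ S)
    (μ μ₂ : Z →* ℂˣ) (hμ : μ ∉ S) (hμ₂ : μ₂ ∉ S) (hμ1 : μ ≠ 1) (hμ₂1 : μ₂ ≠ 1)
    (hμμ₂ : ∀ y : N, act h y μ ≠ μ₂)
    {φ₀ φ₀' : C → ℂ} {ν₀ ν₀' : Z →* ℂˣ} (hφ₀ : IsIrrCharacter C φ₀)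
    (hφ₀' : IsIrrCharacter C φ₀') (hcc₀ : HasCC h φ₀ ν₀) (hcc₀' : HasCC h φ₀' ν₀')
    (hν₀ : ν₀ ≠ 1) (hν₀' : ν₀' ≠ 1) (hc₀ : classInner (fun c : C => ψ c) φ₀ ≠ 0)
    (hc₀' : classInner (fun c : C => ψ c) φ₀' ≠ 0) : ∃ y : N, cj h y φ₀ = φ₀' := by
  by_contra hcon
  push Not at hcon
  have hcon' : ∀ y : N, cj h y φ₀' ≠ φ₀ := by
    intro y e
    apply hcon y⁻¹
    rw [← e, cj_inv_cj]
  have hν₀S : ν₀ ∈ S := hS φ₀ ν₀ hφ₀ hcc₀ hc₀
  have hν₀'S : ν₀' ∈ S := hS φ₀' ν₀' hφ₀' hcc₀' hc₀'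
  have hout : ∀ κ : Z →* ℂˣ, κ ∉ S → ∀ y : N, act h y κ ∉ S := by
    intro κ hκ y hy
    apply hκ
    have := hSstab y⁻¹ _ hy
    rwa [act_inv_act] at this
  have key : ∀ κ : Z →* ℂˣ, κ ∉ S → κ ≠ 1 → ∃ a : C → ℂ, IsIrrCharacter C a ∧ HasCC h a κ ∧
      (∀ c, reg c → (φ₀ - a) c = 0) ∧
      IsIrrCharacter G (ψ - indFun C (φ₀ - a)) ∧
      classInner (indFun C (φ₀ - a)) (indFun C (φ₀ - a)) = 2 ∧
      ∃ b' : G → ℂ, IsIrrCharacter G b' ∧ b' ≠ ψ - indFun C (φ₀ - a) ∧
        b' - (ψ - indFun C (φ₀ - a)) = indFun C (φ₀ - φ₀') := by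
    intro κ hκ hκ1
    obtain ⟨a, ha, hacc, hav, han, hb, haψ⟩ :=
      partner h hψ S hSstab hS κ hκ hκ1 hφ₀ hcc₀ hν₀ hc₀
    obtain ⟨a', ha', hacc', hav', han', hb', haψ'⟩ :=
      partner h hψ S hSstab hS κ hκ hκ1 hφ₀' hcc₀' hν₀' hc₀'
    have hΞΞ' : classInner (indFun C (φ₀ - a)) (indFun C (φ₀' - a')) =
        classInner a (orb h a') := by
      rw [inner_ind_ind h _ _ hav', orb_sub, Orth.classInner_sub_left,
        GenChar.classInner_sub_right, GenChar.classInner_sub_right]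
      have t1 : classInner φ₀ (orb h φ₀') = 0 := inner_orb_eq_zero h hφ₀ hφ₀' hcon'
      have t2 : classInner φ₀ (orb h a') = 0 :=
        inner_orb_zero_of_cc h hφ₀ ha' hcc₀ hacc' (fun y e => hout κ hκ y (e ▸ hν₀S))
      have t3 : classInner a (orb h φ₀') = 0 :=
        inner_orb_zero_of_cc h ha hφ₀' hacc hcc₀' (fun y e => hκ (e ▸ hSstab y _ hν₀'S))
      rw [t1, t2, t3]
      ring
    have hbψ : classInner (ψ - indFun C (φ₀ - a)) ψ = 0 := by
      rw [Orth.classInner_sub_left, Coherence.irr_inner_self hψ, haψ, sub_self]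
    have hψb' : classInner ψ (ψ - indFun C (φ₀' - a')) = 0 := by
      rw [GenChar.classInner_sub_right, Coherence.irr_inner_self hψ,
        Clifford.classInner_conj_symm, haψ', map_one, sub_self]
    have hΞ : indFun C (φ₀ - a) = ψ - (ψ - indFun C (φ₀ - a)) := (sub_sub_cancel _ _).symm
    have hΞ' : indFun C (φ₀' - a') = ψ - (ψ - indFun C (φ₀' - a')) := (sub_sub_cancel _ _).symm
    have hsum : classInner a (orb h a') =
        1 + classInner (ψ - indFun C (φ₀ - a)) (ψ - indFun C (φ₀' - a')) := by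
      rw [← hΞΞ']
      obtain ⟨b, hbdef⟩ : ∃ b, b = ψ - indFun C (φ₀ - a) := ⟨_, rfl⟩
      obtain ⟨b₁, hb₁def⟩ : ∃ b, b = ψ - indFun C (φ₀' - a') := ⟨_, rfl⟩
      have e1 : indFun C (φ₀ - a) = ψ - b := by rw [hbdef, sub_sub_cancel]
      have e2 : indFun C (φ₀' - a') = ψ - b₁ := by rw [hb₁def, sub_sub_cancel]
      rw [← hbdef] at hbψ
      rw [← hb₁def] at hψb'
      rw [← hbdef, ← hb₁def, e1, e2]
      rw [Orth.classInner_sub_left, GenChar.classInner_sub_right, GenChar.classInner_sub_right,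
        Coherence.irr_inner_self hψ, hψb', hbψ]
      ring
    have haa' : a = a' := by
      by_contra hne
      rw [inner_orb_same_cc h ha ha' hacc hacc' hκ1 hne, Coherence.irr_inner hb hb'] at hsum
      split_ifs at hsum <;> norm_num at hsum
    subst haa'
    refine ⟨a, ha, hacc, hav, hb, han, ψ - indFun C (φ₀' - a), hb', ?_, ?_⟩
    · intro e
      rw [inner_orb_self h ha (stabC_of_cc h ha hacc hκ1), e, Coherence.irr_inner_self hb] at hsum
      norm_num at hsum
    · rw [sub_sub_sub_cancel_left, ← FrobRec.indFun_sub, sub_sub_sub_cancel_right]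
  obtain ⟨a, ha, hacc, hav, hb, han, b', hb', hbb', hdiff⟩ := key μ hμ hμ1
  obtain ⟨a₂, ha₂, hacc₂, hav₂, hb₂, han₂, b₂', hb₂', hbb₂', hdiff₂⟩ := key μ₂ hμ₂ hμ₂1
  have aux : ∀ (b b₂ c c₂ : G → ℂ), IsIrrCharacter G b → IsIrrCharacter G b₂ →
      IsIrrCharacter G c → IsIrrCharacter G c₂ → c ≠ b → c - b = c₂ - b₂ → b₂ = b := by
    intro b b₂ c c₂ hb hb₂ hc hc₂ hcb hd
    by_contra hne
    have e : classInner (c - b) b = classInner (c₂ - b₂) b := by rw [hd]
    rw [Orth.classInner_sub_left, Orth.classInner_sub_left, Coherence.irr_inner_self hb,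
      Coherence.irr_inner_ne hc hb hcb, Coherence.irr_inner_ne hb₂ hb hne,
      Coherence.irr_inner hc₂ hb] at e
    split_ifs at e <;> norm_num at e
  have hbb : ψ - indFun C (φ₀ - a₂) = ψ - indFun C (φ₀ - a) :=
    aux _ _ _ _ hb hb₂ hb' hb₂' hbb' (hdiff.trans hdiff₂.symm)
  have hΞeq : indFun C (φ₀ - a₂) = indFun C (φ₀ - a) := by
    have := congrArg (fun f => ψ - f) hbb
    simpa using this
  have h2 : classInner (indFun C (φ₀ - a)) (indFun C (φ₀ - a₂)) = 2 := by
    rw [hΞeq, han]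
  rw [inner_ind_ind h _ _ hav₂, orb_sub, Orth.classInner_sub_left,
    GenChar.classInner_sub_right, GenChar.classInner_sub_right,
    inner_orb_self h hφ₀ (stabC_of_cc h hφ₀ hcc₀ hν₀)] at h2
  have t2 : classInner φ₀ (orb h a₂) = 0 :=
    inner_orb_zero_of_cc h hφ₀ ha₂ hcc₀ hacc₂ (fun y e => hout μ₂ hμ₂ y (e ▸ hν₀S))
  have t3 : classInner a (orb h φ₀) = 0 :=
    inner_orb_zero_of_cc h ha hφ₀ hacc hcc₀ (fun y e => hμ (e ▸ hSstab y _ hν₀S))
  have t4 : classInner a (orb h a₂) = 0 :=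
    inner_orb_zero_of_cc h ha ha₂ hacc hacc₂ (fun y e => hμμ₂ y⁻¹ (by rw [← e, act_inv_act]))
  rw [t2, t3, t4] at h2
  norm_num at h2

end Orb

end Cfsg.Agent.Lib.Helper74.BLCore
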