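import Cfsg.Agent.Lib.Helper25.BSWSpec
import Cfsg.Agent.Lib.CT.FrobRec

/-!
# S3282 piece IndK : values of the characters induced from the linear characters of `K`
-/

set_option autoImplicit false
open Cfsg
open scoped ComplexConjugate

namespace Cfsg.Agent.Lib.Helper74.BSWIndK

universe u

open Cfsg.Agent.Lib.Helper25.BSWSpec Cfsg.Agent.Lib.CT.FrobRec

variable {G : Type u} [Group G]

theorem s_inv {t : G} {K : Subgroup G} {s : G} {k : ℕ} (hB : Basic t K s k) : s⁻¹ = s := by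
  have h : s ^ 2 = 1 := by rw [← hB.hs]; exact pow_orderOf_eq_one s
  rw [inv_eq_iff_mul_eq_one, ← pow_two]; exact h

/-- `s⁻¹ x s = x⁻¹` for `x ∈ K` -/
theorem conj_s {t : G} {K : Subgroup G} {s : G} {k : ℕ} (hB : Basic t K s k) {x : G}
    (hx : x ∈ K) : s⁻¹ * x * s = x⁻¹ := by
  have h := hB.inv x hx
  have hs := s_inv hB
  rw [hs] at h ⊢
  exact h

theorem conj_s_mem_iff {t : G} {K : Subgroup G} {s : G} {k : ℕ} (hB : Basic t K s k) (y : G) :
    s⁻¹ * y * s ∈ K ↔ y ∈ K := by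
  constructor
  · intro h
    have h1 := hB.inv _ h
    have h2 : s * (s⁻¹ * y * s) * s⁻¹ = y := by group
    rw [h2] at h1
    rw [h1]
    exact K.inv_mem h
  · intro h
    rw [conj_s hB h]
    exact K.inv_mem h

theorem sum_ind [Fintype G] (K : Subgroup G) (a : ℂ) :
    ∑ g : G, (open Classical in if g ∈ K then a else 0) = (Nat.card K : ℂ) * a := by
  classical
  rw [Finset.sum_ite, Finset.sum_const_zero, add_zero, Finset.sum_const, nsmul_eq_mul]
  congr 2
  exact (Nat.subtype_card _ (by simp)).symm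

theorem sum_ind_coset [Fintype G] (K : Subgroup G) (s : G) (a : ℂ) :
    ∑ g : G, (open Classical in if g * s⁻¹ ∈ K then a else 0) = (Nat.card K : ℂ) * a := by
  classical
  rw [← sum_ind K a]
  exact Fintype.sum_equiv (Equiv.mulRight s⁻¹) _ _ (fun g => rfl)

theorem val_K [Fintype G] {t : G} {K : Subgroup G} {s : G} {k : ℕ} (hB : Basic t K s k)
    (φ : ↥K →* ℂˣ) (x : ↥K) (hx : x ≠ 1) :
    Pi K φ (x : G) = ((φ x : ℂˣ) : ℂ) + ((φ x⁻¹ : ℂˣ) : ℂ) := by
  classical
  have hs := s_inv hB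
  have hx1 : (x : G) ≠ 1 := fun h => hx (Subtype.ext h)
  have key : ∀ g : G, extendByZero K (fun y : ↥K => ((φ y : ℂˣ) : ℂ)) (g⁻¹ * (x : G) * g) =
      (if g ∈ K then ((φ x : ℂˣ) : ℂ) else 0) +
        (if g * s⁻¹ ∈ K then ((φ x⁻¹ : ℂˣ) : ℂ) else 0) := by
    intro g
    by_cases h1 : g ∈ K
    · have h2 : g * s⁻¹ ∉ K := fun h => hB.hsK (by
        have := K.mul_mem (K.inv_mem h) h1
        simpa [mul_assoc] using this)
      rw [if_pos h1, if_neg h2, add_zero]
      have : g⁻¹ * (x : G) * g = (x : G) := by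
        rw [mul_assoc, hB.comm _ x.2 _ h1, ← mul_assoc, inv_mul_cancel, one_mul]
      rw [this, extendByZero_apply_coe]
    · by_cases h2 : g * s⁻¹ ∈ K
      · rw [if_neg h1, if_pos h2, zero_add]
        have : g⁻¹ * (x : G) * g = ((x⁻¹ : ↥K) : G) := by
          have hyx : (g * s⁻¹)⁻¹ * (x : G) * (g * s⁻¹) = x := by
            rw [mul_assoc, hB.comm _ x.2 _ h2, ← mul_assoc, inv_mul_cancel, one_mul]
          have e := conj_s hB x.2
          calc g⁻¹ * (x : G) * g = s⁻¹ * ((g * s⁻¹)⁻¹ * (x : G) * (g * s⁻¹)) * s := by group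
            _ = s⁻¹ * (x : G) * s := by rw [hyx]
            _ = ((x⁻¹ : ↥K) : G) := by rw [e]; rfl
        rw [this, extendByZero_apply_coe]
      · rw [if_neg h1, if_neg h2, add_zero]
        apply extendByZero_apply_of_not_mem
        intro hmem
        have hc := hB.ti x x.2 hx1 g⁻¹ (by rwa [inv_inv])
        rcases (hB.cent_t g⁻¹).mp hc with h | ⟨y, hy, hgy⟩
        · exact h1 (by simpa using K.inv_mem h)
        · apply h2
          have hg : g = s⁻¹ * y⁻¹ := by
            rw [← inv_inv g, hgy]; group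
          have e := hB.inv _ (K.inv_mem hy)
          rw [inv_inv] at e
          have : g * s⁻¹ = y := by
            rw [hg, hs]
            rw [hs] at e
            exact e
          rw [this]; exact hy
  unfold Pi
  rw [indFun_apply]
  simp_rw [key]
  rw [Finset.sum_add_distrib]
  have e1 := sum_ind K ((φ x : ℂˣ) : ℂ)
  have e2 := sum_ind_coset K s ((φ x⁻¹ : ℂˣ) : ℂ)
  have hK0 : (Nat.card K : ℂ) ≠ 0 := Nat.cast_ne_zero.mpr Nat.card_pos.ne'
  have e1' : ∑ g : G, (if g ∈ K then ((φ x : ℂˣ) : ℂ) else 0) =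
      (Nat.card K : ℂ) * ((φ x : ℂˣ) : ℂ) := by
    rw [← e1]
  have e2' : ∑ g : G, (if g * s⁻¹ ∈ K then ((φ x⁻¹ : ℂˣ) : ℂ) else 0) =
      (Nat.card K : ℂ) * ((φ x⁻¹ : ℂˣ) : ℂ) := by
    rw [← e2]
  rw [e1', e2']
  field_simp

theorem val_one [Fintype G] {t : G} {K : Subgroup G} {s : G} {k : ℕ} (hB : Basic t K s k)
    (φ : ↥K →* ℂˣ) : (k : ℂ) * Pi K φ 1 = (Nat.card G : ℂ) := by
  unfold Pi
  rw [indFun_one, map_one, Units.val_one, mul_one, ← hB.card_K, ← Nat.cast_mul,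
    Subgroup.card_mul_index]

theorem val_off [Fintype G] {K : Subgroup G} (φ : ↥K →* ℂˣ) (z : G) (hz : NotConjK K z) :
    Pi K φ z = 0 := by
  unfold Pi
  apply indFun_eq_zero_of_forall_not_mem
  intro x
  have := hz x⁻¹
  rwa [inv_inv] at this

theorem pi_inv [Fintype G] {t : G} {K : Subgroup G} {s : G} {k : ℕ} (hB : Basic t K s k)
    (φ : ↥K →* ℂˣ) : Pi K φ⁻¹ = Pi K φ := by
  funext z
  unfold Pi
  rw [indFun_apply, indFun_apply]
  congr 1
  have key : ∀ y : G, extendByZero K (fun x : ↥K => ((φ⁻¹ x : ℂˣ) : ℂ)) (s⁻¹ * y * s) =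
      extendByZero K (fun x : ↥K => ((φ x : ℂˣ) : ℂ)) y := by
    intro y
    by_cases hy : y ∈ K
    · have e : s⁻¹ * y * s = (((⟨y, hy⟩ : ↥K)⁻¹ : ↥K) : G) := by
        rw [conj_s hB hy]; rfl
      rw [e, extendByZero_apply_coe, extendByZero_apply_of_mem K _ hy]
      simp
    · rw [extendByZero_apply_of_not_mem K _ hy,
        extendByZero_apply_of_not_mem K _ (fun h => hy ((conj_s_mem_iff hB y).mp h))]
  symm
  refine Fintype.sum_equiv (Equiv.mulRight s) _ _ (fun g => ?_)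
  rw [← key]
  congr 1
  simp only [Equiv.coe_mulRight]
  group

theorem main : Cfsg.Agent.Lib.Helper25.BSWSpec.IndK.{u} := by
  intro G _ _ t K s k hB φ
  exact ⟨fun x hx => val_K hB φ x hx, val_one hB φ, fun z hz => val_off φ z hz, pi_inv hB φ⟩

end Cfsg.Agent.Lib.Helper74.BSWIndK
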