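import Cfsg.Agent.Lib.Helper25.BSWSpec
import Cfsg.Agent.Lib.Helper25.CliffordCorr2
import Cfsg.Agent.Lib.Helper74.BSWIndK
import Cfsg.Agent.Lib.CT.FrobRec
import Cfsg.Agent.Lib.CT.IndChar
import Cfsg.Agent.Lib.CT.NormOne
import Cfsg.Agent.Lib.CT.LinChar
import Cfsg.Agent.Lib.CT.Orth
import Cfsg.Agent.Lib.CT.Clifford

/-!
# S3282 piece VDataOf : the integer vectors `v φ ψ = ⟨Pi φ - Pi 1, ψ⟩`
-/

set_option autoImplicit false
open Cfsg
open scoped ComplexConjugate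

namespace Cfsg.Agent.Lib.Helper74.BSWVDataOf

universe u

open Cfsg.Agent.Lib.Helper25.BSWSpec Cfsg.Agent.Lib.CT.FrobRec Cfsg.Agent.Lib.CT
open Cfsg.Agent.Lib.CT.Wedderburn

/-- row orthogonality for a homomorphism into `ℂˣ` -/
theorem sum_hom {H : Type u} [Group H] [Fintype H] (χ : H →* ℂˣ) :
    ∑ x : H, ((χ x : ℂˣ) : ℂ) = (open Classical in if χ = 1 then (Nat.card H : ℂ) else 0) := by
  classical
  split_ifs with h
  · subst h
    simp [Nat.card_eq_fintype_card]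
  · obtain ⟨y, hy⟩ : ∃ y, χ y ≠ 1 := by
      by_contra hall
      push Not at hall
      exact h (MonoidHom.ext hall)
    have h1 : ∑ x : H, ((χ x : ℂˣ) : ℂ) = ((χ y : ℂˣ) : ℂ) * ∑ x : H, ((χ x : ℂˣ) : ℂ) := by
      rw [Finset.mul_sum]
      exact (Fintype.sum_equiv (Equiv.mulLeft y) _ _ (fun x => by simp)).symm
    have h2 : ((χ y : ℂˣ) : ℂ) ≠ 1 := fun h' => hy (Units.ext h')
    have h3 : (1 - ((χ y : ℂˣ) : ℂ)) * ∑ x : H, ((χ x : ℂˣ) : ℂ) = 0 := by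
      linear_combination h1
    rcases mul_eq_zero.mp h3 with h4 | h4
    · exact absurd (by linear_combination -h4) h2
    · exact h4

theorem hom_conj {H : Type u} [Group H] [Finite H] (χ : H →* ℂˣ) (x : H) :
    conj ((χ x : ℂˣ) : ℂ) = ((χ x⁻¹ : ℂˣ) : ℂ) :=
  (LinChar.linear_apply_inv_eq_conj (μ := fun g => ((χ g : ℂˣ) : ℂ))
    (LinChar.isCharacter_of_hom χ) (by simp) x).symm

variable {G : Type u} [Group G]

/-- column orthogonality for the dual group of the abelian group `K` -/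
theorem dual_sum (K : Subgroup G) [Finite ↥K] [Fintype (↥K →* ℂˣ)]
    (hc : ∀ x ∈ K, ∀ y ∈ K, x * y = y * x) (a : ↥K) :
    ∑ f : ↥K →* ℂˣ, ((f a : ℂˣ) : ℂ) =
      (open Classical in if a = 1 then (Nat.card ↥K : ℂ) else 0) := by
  let _i : CommGroup ↥K :=
    { (inferInstance : Group ↥K) with
      mul_comm := fun x y => Subtype.ext (hc x x.2 y y.2) }
  have h := Cfsg.Agent.Lib.Helper25.CliffordCorr2.sum_hom_apply a
  rw [h]
  by_cases ha : a = 1
  · rw [if_pos ha, if_pos ha]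
  · rw [if_neg ha, if_neg ha]

section Main

variable [Fintype G] {t : G} {K : Subgroup G} {s : G} {k : ℕ}

theorem inner_expand [Fintype (IrrCharacter G)] {χ χ' : G → ℂ} (m m' : IrrCharacter G → ℕ)
    (hexp : χ = ∑ ψ : IrrCharacter G, (m ψ : ℂ) • (ψ : G → ℂ))
    (hm' : ∀ ψ : IrrCharacter G, classInner χ' (ψ : G → ℂ) = m' ψ) :
    classInner χ χ' = ∑ ψ : IrrCharacter G, (m ψ : ℂ) * (m' ψ : ℂ) := by
  rw [hexp, Orth.classInner_sum_left]
  apply Finset.sum_congr rfl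
  intro η _
  rw [Orth.classInner_smul_left, Clifford.classInner_conj_symm, hm' η, Complex.conj_natCast]

theorem inner_pi (hB : Basic t K s k) (φ φ' : ↥K →* ℂˣ) :
    classInner (Pi K φ) (Pi K φ') =
      (((Nat.card G : ℂ) / k - 2) / k) + (open Classical in if φ = φ' then 1 else 0) +
        (open Classical in if φ = φ'⁻¹ then 1 else 0) := by
  classical
  have hk : (Nat.card K : ℂ) = k := by rw [hB.card_K]
  have hk0 : (k : ℂ) ≠ 0 := by
    rw [← hk]; exact Nat.cast_ne_zero.mpr Nat.card_pos.ne'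
  have hfr : classInner (Pi K φ) (Pi K φ') =
      classInner (fun x : ↥K => ((φ x : ℂˣ) : ℂ)) (fun h : ↥K => Pi K φ' (h : G)) :=
    frobenius_reciprocity K _ _ (indFun_isClassFunction K _)
  rw [hfr]
  unfold classInner
  have hterm : ∀ x : ↥K, ((φ x : ℂˣ) : ℂ) * conj (Pi K φ' (x : G)) =
      (if x = 1 then ((Nat.card G : ℂ) / k - 2) else 0) + (((φ * φ'⁻¹) x : ℂˣ) : ℂ) +
        (((φ * φ') x : ℂˣ) : ℂ) := by
    intro x
    by_cases hx : x = 1
    · subst hx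
      have h1 := BSWIndK.val_one hB φ'
      have h2 : Pi K φ' ((1 : ↥K) : G) = (Nat.card G : ℂ) / k := by
        rw [Subgroup.coe_one, eq_div_iff hk0, mul_comm]; exact h1
      rw [h2, if_pos rfl]
      simp only [map_one, Units.val_one, one_mul, map_div₀, Complex.conj_natCast]
      ring
    · rw [if_neg hx, zero_add, BSWIndK.val_K hB φ' x hx, map_add, hom_conj, hom_conj, inv_inv]
      simp only [MonoidHom.mul_apply, MonoidHom.inv_apply, Units.val_mul, map_inv]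
      ring
  simp_rw [hterm]
  rw [Finset.sum_add_distrib, Finset.sum_add_distrib, sum_hom, sum_hom, hk]
  have c1 : (if φ * φ'⁻¹ = 1 then (k : ℂ) else 0) = k * (if φ = φ' then 1 else 0) := by
    by_cases h : φ = φ'
    · rw [if_pos h, if_pos (mul_inv_eq_one.mpr h), mul_one]
    · rw [if_neg h, if_neg (fun h' => h (mul_inv_eq_one.mp h')), mul_zero]
  have c2 : (if φ * φ' = 1 then (k : ℂ) else 0) = k * (if φ = φ'⁻¹ then 1 else 0) := by
    by_cases h : φ = φ'⁻¹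
    · have hp : φ * φ' = 1 := by rw [h]; exact inv_mul_cancel φ'
      rw [if_pos h, if_pos hp, mul_one]
    · have hp : ¬ (φ * φ' = 1) := fun h' =>
        h (@eq_inv_of_mul_eq_one_left (↥K →* ℂˣ) _ _ _ h')
      rw [if_neg h, if_neg hp, mul_zero]
  rw [c1, c2]
  simp only [Finset.sum_ite_eq', Finset.mem_univ, if_true]
  field_simp

theorem sum_mult_apply [Fintype (↥K →* ℂˣ)] (hc : ∀ x ∈ K, ∀ y ∈ K, x * y = y * x)
    (ψ : IrrCharacter G) (m : (↥K →* ℂˣ) → ℕ)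
    (hm : ∀ φ : ↥K →* ℂˣ, classInner (Pi K φ) (ψ : G → ℂ) = m φ) (x : ↥K) :
    ∑ φ : ↥K →* ℂˣ, (m φ : ℂ) * ((φ x : ℂˣ) : ℂ) = ψ.1 (x : G) := by
  classical
  have hK0 : (Nat.card K : ℂ) ≠ 0 := Nat.cast_ne_zero.mpr Nat.card_pos.ne'
  have hψ : IsCharacter G ψ.1 := isCharacter_of_irr ψ.2
  have h1 : ∀ φ : ↥K →* ℂˣ, (m φ : ℂ) =
      (Nat.card K : ℂ)⁻¹ * ∑ y : ↥K, ((φ y : ℂˣ) : ℂ) * conj (ψ.1 (y : G)) := by
    intro φ
    rw [← hm φ]
    exact frobenius_reciprocity K _ _ (char_isClassFunction hψ)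
  simp_rw [h1]
  have h2 : ∑ φ : ↥K →* ℂˣ,
      ((Nat.card K : ℂ)⁻¹ * ∑ y : ↥K, ((φ y : ℂˣ) : ℂ) * conj (ψ.1 (y : G))) * ((φ x : ℂˣ) : ℂ) =
      (Nat.card K : ℂ)⁻¹ *
        ∑ y : ↥K, conj (ψ.1 (y : G)) * ∑ φ : ↥K →* ℂˣ, ((φ (y * x) : ℂˣ) : ℂ) := by
    calc _ = ∑ φ : ↥K →* ℂˣ, ∑ y : ↥K,
          (Nat.card K : ℂ)⁻¹ * (conj (ψ.1 (y : G)) * ((φ (y * x) : ℂˣ) : ℂ)) := by
          apply Finset.sum_congr rfl
          intro φ _
          rw [Finset.mul_sum, Finset.sum_mul]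
          apply Finset.sum_congr rfl
          intro y _
          rw [map_mul, Units.val_mul]; ring
      _ = ∑ y : ↥K, ∑ φ : ↥K →* ℂˣ,
          (Nat.card K : ℂ)⁻¹ * (conj (ψ.1 (y : G)) * ((φ (y * x) : ℂˣ) : ℂ)) := Finset.sum_comm
      _ = _ := by
          rw [Finset.mul_sum]
          apply Finset.sum_congr rfl
          intro y _
          rw [Finset.mul_sum, Finset.mul_sum]
  rw [h2]
  simp_rw [dual_sum K hc]
  rw [Finset.sum_eq_single x⁻¹]
  · rw [if_pos (inv_mul_cancel x)]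
    have := char_apply_inv hψ (x : G)
    rw [Subgroup.coe_inv, this, Complex.conj_conj]
    field_simp
  · intro y _ hy
    rw [if_neg (fun h => hy (eq_inv_of_mul_eq_one_left h)), mul_zero]
  · intro h; exact absurd (Finset.mem_univ _) h

theorem mult_triv (ψ : IrrCharacter G) (hψ : ∀ g : G, ψ.1 g = 1) (φ : ↥K →* ℂˣ) (mφ : ℕ)
    (hm : classInner (Pi K φ) (ψ : G → ℂ) = mφ) :
    (mφ : ℂ) = (open Classical in if φ = 1 then 1 else 0) := by
  classical
  have hK0 : (Nat.card K : ℂ) ≠ 0 := Nat.cast_ne_zero.mpr Nat.card_pos.ne'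
  rw [← hm]
  have hfr : classInner (Pi K φ) (ψ : G → ℂ) =
      classInner (fun x : ↥K => ((φ x : ℂˣ) : ℂ)) (fun h : ↥K => ψ.1 (h : G)) :=
    frobenius_reciprocity K _ _ (char_isClassFunction (isCharacter_of_irr ψ.2))
  rw [hfr]
  unfold classInner
  simp only [hψ, map_one, mul_one]
  rw [sum_hom]
  split_ifs with h
  · field_simp
  · simp

theorem main : Cfsg.Agent.Lib.Helper25.BSWSpec.VDataOf.{u} := by
  intro _ G _ _ t K s k _ _ hB
  classical
  have hk : (Nat.card K : ℂ) = k := by rw [hB.card_K]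
  have hk0 : (k : ℂ) ≠ 0 := by
    rw [← hk]; exact Nat.cast_ne_zero.mpr Nat.card_pos.ne'
  have hchar : ∀ φ : ↥K →* ℂˣ, IsCharacter G (Pi K φ) := fun φ =>
    IndChar.isCharacter_indFun K _ (LinChar.isCharacter_of_hom φ)
  choose m hm hexp using fun φ => NormOne.exists_mult_sum (hchar φ)
  refine ⟨fun φ ψ => (m φ ψ : ℤ) - (m 1 ψ : ℤ), ?_⟩
  have hcard : (Fintype.card (↥K →* ℂˣ) : ℂ) = k := by
    have := dual_sum K hB.comm (1 : ↥K)
    rw [if_pos rfl, hk] at this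
    simpa using this
  have hsum : ∀ (ψ : IrrCharacter G) (x : ↥K),
      ∑ φ : ↥K →* ℂˣ, (m φ ψ : ℂ) * ((φ x : ℂˣ) : ℂ) = ψ.1 (x : G) := fun ψ x =>
    sum_mult_apply hB.comm ψ (fun φ => m φ ψ) (fun φ => hm φ ψ) x
  have hval : ∀ (φ : ↥K →* ℂˣ) (z : G),
      Pi K φ z = ∑ ψ : IrrCharacter G, (m φ ψ : ℂ) * ψ.1 z := by
    intro φ z
    have := congrFun (hexp φ) z
    rw [Finset.sum_apply] at this
    simpa using this
  have hone : ∀ φ : ↥K →* ℂˣ, Pi K φ 1 = (Nat.card G : ℂ) / k := by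
    intro φ
    rw [eq_div_iff hk0, mul_comm]; exact BSWIndK.val_one hB φ
  refine ⟨?_, ?_, ?_, ?_, ?_, ?_, ?_, ?_⟩
  · -- gram
    intro φ φ' h1 h1'
    have e : ∀ a b : ↥K →* ℂˣ, ∑ ψ : IrrCharacter G, (m a ψ : ℂ) * (m b ψ : ℂ) =
        (((Nat.card G : ℂ) / k - 2) / k) + (if a = b then 1 else 0) +
          (if a = b⁻¹ then 1 else 0) := fun a b => by
      rw [← inner_expand (m a) (m b) (hexp a) (hm b), inner_pi hB]
    have key : ((∑ ψ : IrrCharacter G, ((m φ ψ : ℤ) - (m 1 ψ : ℤ)) * ((m φ' ψ : ℤ) - (m 1 ψ : ℤ))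
        : ℤ) : ℂ) = (((if φ = φ' then 1 else 0) + (if φ = φ'⁻¹ then 1 else 0) + 2 : ℤ) : ℂ) := by
      push_cast
      have hr : ∀ ψ : IrrCharacter G, ((m φ ψ : ℂ) - m 1 ψ) * ((m φ' ψ : ℂ) - m 1 ψ) =
          (m φ ψ : ℂ) * m φ' ψ - (m φ ψ : ℂ) * m 1 ψ - (m 1 ψ : ℂ) * m φ' ψ +
            (m 1 ψ : ℂ) * m 1 ψ := fun ψ => by ring
      simp_rw [hr]
      rw [Finset.sum_add_distrib, Finset.sum_sub_distrib, Finset.sum_sub_distrib, e, e, e, e]
      have a1 : ¬ (φ = 1) := h1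
      have i1 : (1 : ↥K →* ℂˣ)⁻¹ = 1 := @inv_one (↥K →* ℂˣ) _
      have a2 : ¬ (φ = 1⁻¹) := by rw [i1]; exact h1
      have a3 : ¬ (1 = φ') := fun h => h1' h.symm
      have a4 : ¬ (1 = φ'⁻¹) := fun h => h1' (by
        have h2 := congrArg (fun f : ↥K →* ℂˣ => f⁻¹) h
        have h3 : (φ'⁻¹)⁻¹ = φ' := @inv_inv (↥K →* ℂˣ) _ φ'
        rw [← h3, ← h2]; exact i1)
      rw [if_neg a1, if_neg a2, if_neg a3, if_neg a4, if_pos rfl, if_pos i1.symm]
      ring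
    exact_mod_cast key
  · -- inv
    intro φ
    funext ψ
    have : m φ⁻¹ ψ = m φ ψ := by
      have h1 := hm φ⁻¹ ψ
      rw [BSWIndK.pi_inv hB φ, hm φ ψ] at h1
      exact_mod_cast h1.symm
    simp only [this]
  · -- one
    intro ψ
    simp
  · -- triv
    intro ψ hψ φ hφ
    have h0 := mult_triv ψ hψ φ (m φ ψ) (hm φ ψ)
    have h1 := mult_triv ψ hψ 1 (m 1 ψ) (hm 1 ψ)
    rw [if_neg hφ] at h0
    rw [if_pos rfl] at h1
    have h0' : m φ ψ = 0 := by exact_mod_cast h0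
    have h1' : m 1 ψ = 1 := by exact_mod_cast h1
    simp [h0', h1']
  · -- deg
    intro φ
    push_cast
    simp_rw [sub_mul]
    rw [Finset.sum_sub_distrib, ← hval, ← hval, hone, hone, sub_self]
  · -- val
    intro ψ x hx
    push_cast
    simp_rw [sub_mul]
    rw [Finset.sum_sub_distrib, hsum, ← Finset.mul_sum, dual_sum K hB.comm, if_neg hx, mul_zero,
      sub_zero]
  · -- cong
    intro ψ
    refine ⟨m 1 ψ, ?_⟩
    push_cast
    rw [Finset.sum_sub_distrib]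
    have h1 := hsum ψ 1
    simp only [map_one, Units.val_one, mul_one, Subgroup.coe_one] at h1
    rw [h1]
    simp only [Finset.sum_const, Finset.card_univ, nsmul_eq_mul, hcard]
    ring
  · -- off
    intro φ z hz
    push_cast
    simp_rw [sub_mul]
    rw [Finset.sum_sub_distrib, ← hval, ← hval, BSWIndK.val_off φ z hz, BSWIndK.val_off 1 z hz,
      sub_self]

end Main

end Cfsg.Agent.Lib.Helper74.BSWVDataOf
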