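import Mathlib
import Cfsg.Prelude.Def_DegreeGraph
import Cfsg.Agent.Lib.Helper14.TC3Stmt
import Cfsg.Agent.Lib.Helper14.TC3Asm
import Cfsg.Agent.Lib.Helper53.TC3GALP
import Cfsg.Agent.Lib.Helper53.TC3W1
import Cfsg.Agent.Lib.Helper69.TC3W2
import Cfsg.Agent.Lib.Helper3.TDUniq
import Cfsg.Agent.Lib.Helper3.TDBasic
import Cfsg.Agent.Lib.Helper3.MGroup

/-!
# The character degree graph of a solvable group has at most two connected components

Manz's theorem, from the two-case section lemma (Isaacs 12.3), Gallagher (`GalP`) and Isaacs 12.4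
(`W124`).
-/

set_option autoImplicit false

namespace Cfsg.Agent.Lib.Helper74.DegGraph2

open Cfsg Cfsg.Agent.Lib.Helper14.TC3Stmt
open Cfsg.Agent.Lib.Helper80.Integrality Cfsg.Agent.Lib.CT.Wedderburn
open scoped commutatorElement

universe u

/-- If every vertex is reachable from `a` or from `b`, there are at most two components. -/
theorem card_cc_le_two {V : Type*} (Γ : SimpleGraph V) (a b : V)
    (h : ∀ v, Γ.Reachable a v ∨ Γ.Reachable b v) : Nat.card Γ.ConnectedComponent ≤ 2 := by
  have hsurj : Function.Surjective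
      (fun i : Fin 2 => if i = 0 then Γ.connectedComponentMk a else Γ.connectedComponentMk b) := by
    intro c
    induction c using SimpleGraph.ConnectedComponent.ind with
    | h v =>
      rcases h v with h1 | h1
      · exact ⟨0, by simpa using SimpleGraph.ConnectedComponent.sound h1⟩
      · exact ⟨1, by simpa using SimpleGraph.ConnectedComponent.sound h1⟩
  have h2 := Nat.card_le_card_of_surjective _ hsurj
  simpa using h2

theorem mul_dvd_of_primes {p r d : ℕ} (hp : p.Prime) (hr : r.Prime) (hne : p ≠ r) (h1 : p ∣ d)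
    (h2 : r ∣ d) : p * r ∣ d :=
  Nat.Coprime.mul_dvd_of_dvd_of_dvd ((Nat.coprime_primes hp hr).2 hne) h1 h2

theorem reach_of_adj {G : Type u} [Group G] {a b : ↥(degreePrimes G)}
    (h : (degreeGraph G).Adj (a : ℕ) (b : ℕ)) :
    ((degreeGraph G).induce (degreePrimes G)).Reachable a b :=
  SimpleGraph.Adj.reachable (by exact h)

theorem main (G : Type u) [Group G] [Finite G] [Group.IsSolvable G] :
    Nat.card ((degreeGraph G).induce (degreePrimes G)).ConnectedComponent ≤ 2 := by
  classical
  by_cases hempty : IsEmpty ↥(degreePrimes G)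
  · have hE : IsEmpty ((degreeGraph G).induce (degreePrimes G)).ConnectedComponent :=
      ⟨fun c => by
        induction c using SimpleGraph.ConnectedComponent.ind with
        | h v => exact hempty.false v⟩
    rw [Nat.card_of_isEmpty]
    omega
  · rw [not_isEmpty_iff] at hempty
    obtain ⟨⟨r₀, hr₀⟩⟩ := hempty
    -- `G` is not abelian
    have hne : commutator G ≠ ⊥ := by
      intro hbot
      obtain ⟨hr₀p, d, ⟨χ, hχ⟩, hr₀d⟩ := hr₀
      have hcomm : ∀ a b : G, (χ : G → ℂ) ⁅a, b⁆ = (χ : G → ℂ) 1 := by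
        intro a b
        have h1 : ⁅a, b⁆ ∈ commutator G := by
          rw [commutator_def]
          exact Subgroup.commutator_mem_commutator (Subgroup.mem_top a) (Subgroup.mem_top b)
        rw [hbot, Subgroup.mem_bot] at h1
        rw [h1]
      have h1 := Cfsg.Agent.Lib.Helper3.MGroup.apply_one_eq_one_of_comm χ.2 hcomm
      have h2 := apply_one_eq_charDegree (isCharacter_of_irr χ.2)
      rw [h1] at h2
      have h3 : charDegree (χ : G → ℂ) = 1 := by exact_mod_cast h2.symm
      rw [h3] at hχ
      rw [← hχ] at hr₀d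
      exact hr₀p.one_lt.ne' (Nat.dvd_one.1 hr₀d)
    obtain ⟨K, p, hK, hKc, hp, hcase⟩ :=
      Cfsg.Agent.Lib.Helper3.TDUniq.exists_section (G := G) inferInstance hne
    rcases hcase with ⟨j, hj⟩ | ⟨N, hN, hKN, hcN, hNtop, hpN, hrel, hlt, hab, hfpf⟩
    · -- `G ⧸ K` is a nonabelian `p`-group: `p` is adjacent to every other vertex
      obtain ⟨c, hc, hdeg, hgal⟩ :=
        Cfsg.Agent.Lib.Helper53.TC3GALP.main G K p hK hp ⟨j, hj⟩ hKc
      have hpV : p ∈ degreePrimes G := ⟨hp, p ^ c, hdeg, dvd_pow_self p hc.ne'⟩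
      apply card_cc_le_two _ ⟨p, hpV⟩ ⟨p, hpV⟩
      rintro ⟨r, hr⟩
      left
      by_cases hrp : r = p
      · subst hrp
        exact SimpleGraph.Reachable.refl _
      · apply reach_of_adj
        obtain ⟨hrprime, d, ⟨χ, hχ⟩, hrd⟩ := hr
        refine ⟨Ne.symm hrp, hp, hrprime, ?_⟩
        by_cases hpχ : p ∣ charDegree (χ : G → ℂ)
        · exact ⟨d, ⟨χ, hχ⟩, mul_dvd_of_primes hp hrprime (Ne.symm hrp) (hχ ▸ hpχ) hrd⟩
        · obtain ⟨χ', hχ'⟩ := hgal χ hpχ
          refine ⟨p ^ c * d, ⟨χ', by rw [hχ', hχ]⟩, ?_⟩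
          exact Nat.mul_dvd_mul (dvd_pow_self p hc.ne') hrd
    · -- a section of Frobenius type
      have := hN
      have : Fintype ↥N := Fintype.ofFinite _
      have hW := Cfsg.Agent.Lib.Helper14.TC3Asm.w124 Cfsg.Agent.Lib.Helper53.TC3W1.main
        Cfsg.Agent.Lib.Helper69.TC3W2.main G K N p
        ⟨hK, hp, hN, hKN, hcN, hNtop, hpN, hrel, hlt, hab, hfpf⟩
      have hidx0 : N.index ≠ 0 := Subgroup.index_ne_zero_of_finite
      have hidx1 : N.index ≠ 1 := fun h => hNtop (Subgroup.index_eq_one.1 h)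
      have hHf : HasDeg G N.index := by
        have hd1 : charDegree (fun _ : ↥N => (1 : ℂ)) = 1 := by simp [charDegree]
        rcases hW ⟨fun _ => 1, Cfsg.Agent.Lib.CT.Ops.isIrrCharacter_one⟩ with h1 | h1
        · have h2 : HasDeg G (N.index * charDegree (fun _ : ↥N => (1 : ℂ))) := h1
          rw [hd1, mul_one] at h2
          exact h2
        · have h2 : p ∣ charDegree (fun _ : ↥N => (1 : ℂ)) := h1
          rw [hd1] at h2
          exact absurd (Nat.dvd_one.1 h2) hp.one_lt.ne'
      obtain ⟨s₀, hs₀, hs₀f⟩ := Nat.exists_prime_and_dvd hidx1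
      have hs₀V : s₀ ∈ degreePrimes G := ⟨hs₀, N.index, hHf, hs₀f⟩
      -- the analysis of a vertex
      have key : ∀ r : ℕ, r ∈ degreePrimes G → r = s₀ ∨ (degreeGraph G).Adj s₀ r ∨
          (p ∈ degreePrimes G ∧ (r = p ∨ (degreeGraph G).Adj p r)) := by
        intro r hr
        obtain ⟨hrprime, d, ⟨χ, hχ⟩, hrd⟩ := hr
        by_cases hrs : r = s₀
        · exact Or.inl hrs
        by_cases hrf : r ∣ N.index
        · right; left
          exact ⟨Ne.symm hrs, hs₀, hrprime, N.index, hHf,
            mul_dvd_of_primes hs₀ hrprime (Ne.symm hrs) hs₀f hrf⟩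
        · -- a constituent of the restriction to `N`
          have := Fintype.ofFinite G
          have := Cfsg.Agent.Lib.Helper3.Irr.finite_irrCharacter (G := ↥N)
          have := Fintype.ofFinite (IrrCharacter ↥N)
          have hΦ : IsCharacter ↥N (fun h : ↥N => (χ : G → ℂ) h) :=
            Cfsg.Agent.Lib.CT.Ops.isCharacter_restrict N (isCharacter_of_irr χ.2)
          obtain ⟨m, hm, -, hdeg, -⟩ := Cfsg.Agent.Lib.Helper80.Restrict.exists_mult hΦ
          have hdegX : charDegree (fun h : ↥N => (χ : G → ℂ) h) = charDegree (χ : G → ℂ) := rfl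
          have hpos : 0 < charDegree (χ : G → ℂ) := charDegree_pos χ
          obtain ⟨ψ, hψ⟩ : ∃ ψ : IrrCharacter ↥N, m ψ ≠ 0 := by
            by_contra hcon
            push Not at hcon
            rw [hdegX] at hdeg
            rw [hdeg] at hpos
            simp [hcon] at hpos
          have hcon : classInner (fun h : ↥N => (χ : G → ℂ) h) (ψ : ↥N → ℂ) ≠ 0 := by
            rw [hm ψ]
            exact_mod_cast hψ
          obtain ⟨h1, h2⟩ := Cfsg.Agent.Lib.Helper3.TDBasic.deg_of_constituent N ψ χ hcon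
          have hrψ : r ∣ charDegree (ψ : ↥N → ℂ) := by
            have h3 : r ∣ charDegree (ψ : ↥N → ℂ) *
                (charDegree (χ : G → ℂ) / charDegree (ψ : ↥N → ℂ)) := by
              rw [Nat.mul_div_cancel' h1, hχ]
              exact hrd
            rcases (Nat.Prime.dvd_mul hrprime).1 h3 with h4 | h4
            · exact h4
            · exact absurd (h4.trans h2) hrf
          rcases hW ψ with ⟨χ', hχ'⟩ | hpψ
          · right; left
            refine ⟨Ne.symm hrs, hs₀, hrprime, N.index * charDegree (ψ : ↥N → ℂ), ⟨χ', hχ'⟩, ?_⟩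
            exact Nat.mul_dvd_mul hs₀f hrψ
          · right; right
            have hpχ : p ∣ d := hχ ▸ (hpψ.trans h1)
            refine ⟨⟨hp, d, ⟨χ, hχ⟩, hpχ⟩, ?_⟩
            by_cases hrp : r = p
            · exact Or.inl hrp
            · right
              exact ⟨Ne.symm hrp, hp, hrprime, d, ⟨χ, hχ⟩,
                mul_dvd_of_primes hp hrprime (Ne.symm hrp) hpχ hrd⟩
      by_cases hpV : p ∈ degreePrimes G
      · apply card_cc_le_two _ ⟨s₀, hs₀V⟩ ⟨p, hpV⟩
        rintro ⟨r, hr⟩
        rcases key r hr with h | h | ⟨-, h | h⟩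
        · left; subst h; exact SimpleGraph.Reachable.refl _
        · left; exact reach_of_adj h
        · right; subst h; exact SimpleGraph.Reachable.refl _
        · right; exact reach_of_adj h
      · apply card_cc_le_two _ ⟨s₀, hs₀V⟩ ⟨s₀, hs₀V⟩
        rintro ⟨r, hr⟩
        rcases key r hr with h | h | ⟨h', -⟩
        · left; subst h; exact SimpleGraph.Reachable.refl _
        · left; exact reach_of_adj h
        · exact absurd h' hpV

end Cfsg.Agent.Lib.Helper74.DegGraph2
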