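import Mathlib
import Cfsg.Agent.Lib.Helper74.DixStmt
import Cfsg.Agent.Lib.CT.Kernel
import Cfsg.Agent.Lib.CT.Ops
import Cfsg.Agent.S4488

/-!
S4472: assembly of the bound for `p`-solvable linear groups from the Props of `DixStmt`.
-/

set_option autoImplicit false

namespace Cfsg.Agent.Lib.Helper74.DixFin

open Cfsg Cfsg.Agent.Lib.Helper74.DixStmt

universe u

/-- Monotonicity of the Schur sum in the degree. -/
theorem schur_sum_mono (p : ℕ) {n' n : ℕ} (h : n' ≤ n) :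
    ∑ i ∈ Finset.range (n' + 1), n' / ((p - 1) * p ^ i) ≤
      ∑ i ∈ Finset.range (n + 1), n / ((p - 1) * p ^ i) := by
  calc ∑ i ∈ Finset.range (n' + 1), n' / ((p - 1) * p ^ i)
      ≤ ∑ i ∈ Finset.range (n' + 1), n / ((p - 1) * p ^ i) :=
        Finset.sum_le_sum fun i _ => Nat.div_le_div_right h
    _ ≤ ∑ i ∈ Finset.range (n + 1), n / ((p - 1) * p ^ i) :=
        Finset.sum_le_sum_of_subset (Finset.range_mono (by omega))

/-- The assembly. -/
theorem fin (hA1 : GrpA1.{u}) (hA2 : GrpA2.{u}) (hB : GrpB.{u}) (hC : CharProp.{u})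
    {G : Type u} [Group G] [Finite G] (χ : G → ℂ) (hχ : IsCharacter G χ)
    (hfaith : ∀ g : G, χ g = χ 1 → g = 1) (n : ℕ) (hn : charDegree χ = n) (p : ℕ)
    (hp : p.Prime) (hsolv : IsPSolvable p G) :
    ((pCore p G).index).factorization p ≤
      ∑ i ∈ Finset.range (n + 1), n / ((p - 1) * p ^ i) := by
  classical
  haveI : Fact p.Prime := ⟨hp⟩
  obtain ⟨M, K, hMn, hUM, hKM, hKcop, hcard, hcent⟩ := hA1 p hsolv
  obtain ⟨P₀, hP₀, hP₀N, hle1⟩ := hA2 p M K hMn hUM hKM hKcop hcard hcent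
  obtain ⟨L, hKL, hKLn, hidx, hN⟩ := hB p K P₀ hKcop hP₀ hP₀N
  have hχL : IsCharacter L (fun l : L => χ l) :=
    Cfsg.Agent.Lib.CT.Ops.isCharacter_restrict L hχ
  have hcardK : Nat.card (K.subgroupOf L) = Nat.card K :=
    Nat.card_congr (Subgroup.subgroupOfEquivOfLe hKL).toEquiv
  haveI := hKLn
  obtain ⟨χ', hχ', hdeg, hfaith', hrat⟩ := hC p (K.subgroupOf L)
    (by rw [hcardK]; exact hKcop) hidx (fun l : L => χ l) hχL
    (fun k _ hk => Subtype.ext (hfaith (k : G) hk))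
  obtain ⟨N, hNn, hNmem⟩ := Cfsg.Agent.Lib.CT.Kernel.exists_normal_ker hχ'
  haveI := hNn
  obtain ⟨ψ, hψ, hψv⟩ := Cfsg.Agent.Lib.CT.Kernel.exists_quotient_char (N := N) hχ'
    (fun x hx => (hNmem x).1 hx)
  have hNK : N ⊓ K.subgroupOf L = ⊥ := by
    rw [eq_bot_iff]
    intro x hx
    exact Subgroup.mem_bot.2 (hfaith' x hx.2 ((hNmem x).1 hx.1))
  have hle2 := hN N hNn hNK
  have hψ1 : ψ 1 = χ' 1 := hψv 1
  have hψf : ∀ x : L ⧸ N, ψ x = ψ 1 → x = 1 := by
    intro x hx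
    obtain ⟨g, rfl⟩ := QuotientGroup.mk_surjective x
    rw [hψv g, hψ1] at hx
    exact (QuotientGroup.eq_one_iff g).2 ((hNmem g).2 hx)
  have hψrat : ∃ r : ℕ, 0 < r ∧ ¬ p ∣ r ∧ ∀ x : L ⧸ N, ψ x ∈
      IntermediateField.adjoin ℚ ({Complex.exp (2 * Real.pi * Complex.I / r)} : Set ℂ) := by
    refine ⟨Nat.card (K.subgroupOf L), Nat.card_pos, ?_, ?_⟩
    · rw [hcardK]
      intro hdvd
      have h1 : p ∣ Nat.gcd (Nat.card K) p := Nat.dvd_gcd hdvd dvd_rfl
      rw [hKcop] at h1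
      exact hp.one_lt.ne' (Nat.dvd_one.mp h1)
    · intro x
      obtain ⟨g, rfl⟩ := QuotientGroup.mk_surjective x
      rw [hψv g]
      exact hrat g
  have hdegψ : charDegree ψ = charDegree χ' := by
    unfold charDegree
    rw [hψ1]
  have hS := Cfsg.Agent.S4488.result p hp ψ hψ hψf hψrat (charDegree ψ) rfl
  have hidxN : N.index = Nat.card (L ⧸ N) := Subgroup.index_eq_card N
  have hdegχ : charDegree (fun l : L => χ l) = n := by
    rw [← hn]
    rfl
  calc ((pCore p G).index).factorization p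
      ≤ ((P₀ ⊓ Subgroup.centralizer (K : Set G)).relIndex P₀).factorization p := hle1
    _ ≤ N.index.factorization p := hle2
    _ = (Nat.card (L ⧸ N)).factorization p := by rw [hidxN]
    _ ≤ ∑ i ∈ Finset.range (charDegree ψ + 1), charDegree ψ / ((p - 1) * p ^ i) := hS
    _ ≤ ∑ i ∈ Finset.range (n + 1), n / ((p - 1) * p ^ i) :=
        schur_sum_mono p (by rw [hdegψ, ← hdegχ]; exact hdeg)

end Cfsg.Agent.Lib.Helper74.DixFin
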