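import Mathlib
import Cfsg.Prelude.Def_Local
import Cfsg.Agent.Lib.Helper70.HallHigman
import Cfsg.Agent.Lib.Helper11.PConstr
import Cfsg.Agent.Lib.Helper76.PSolv

/-!
# The dual Hall–Higman lemma

In a finite `p`-solvable group with `O_p(G) = 1`, the centralizer of `O_{p'}(G)` lies in
`O_{p'}(G)` (`centralizer_pPrimeCore_le`).
-/

set_option autoImplicit false

namespace Cfsg.Agent.Lib.Helper74.DualHH

open Cfsg

/-- A finite group with trivial `p`-core which is, modulo a central `p'`-subgroup, of exponent a
power of `p` or prime to `p`, is a `p'`-group. -/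
theorem coprime_of_central {E : Type*} [Group E] [Finite E] (p : ℕ) [Fact p.Prime]
    (A : Subgroup E) (hcent : ∀ a ∈ A, ∀ x : E, a * x = x * a) (hA : (Nat.card A).Coprime p)
    (r : ℕ) (hr : (∃ m, r = p ^ m) ∨ r.Coprime p) (hpow : ∀ x : E, x ^ r ∈ A)
    (hcore : pCore p E = ⊥) : (Nat.card E).Coprime p := by
  have hp : p.Prime := Fact.out
  rcases hr with ⟨m, rfl⟩ | hr
  · have hAn : A.Normal := by
      constructor
      intro a ha g
      have h1 := hcent a ha g⁻¹
      have h2 : g * a * g⁻¹ = a := by
        rw [mul_assoc, h1, ← mul_assoc, mul_inv_cancel, one_mul]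
      rw [h2]
      exact ha
    have hquot : IsPGroup p (E ⧸ A) := by
      intro x
      obtain ⟨x, rfl⟩ := QuotientGroup.mk_surjective x
      refine ⟨m, ?_⟩
      rw [← QuotientGroup.mk_pow]
      exact (QuotientGroup.eq_one_iff _).mpr (hpow x)
    obtain ⟨j, hj⟩ := IsPGroup.iff_card.mp hquot
    have hidx : A.index = p ^ j := by
      rw [Subgroup.index_eq_card]
      exact hj
    have hcop : Nat.Coprime (Nat.card A) A.index := by
      rw [hidx]
      exact Nat.Coprime.pow_right j hA
    obtain ⟨Q, hQ⟩ := Subgroup.exists_right_complement'_of_coprime hcop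
    have hQcard : Nat.card Q = p ^ j := by
      rw [← hidx]
      exact hQ.symm.index_eq_card.symm
    have hQp : IsPGroup p Q := IsPGroup.of_card hQcard
    have hQn : Q.Normal := by
      constructor
      intro q hq g
      obtain ⟨⟨⟨a, ha⟩, ⟨q', hq'⟩⟩, hg, -⟩ := Subgroup.IsComplement.existsUnique hQ g
      simp only at hg
      have h1 : g * q * g⁻¹ = q' * q * q'⁻¹ := by
        rw [← hg]
        have h2 := hcent a ha (q' * q * q'⁻¹)
        calc a * q' * q * (a * q')⁻¹ = a * (q' * q * q'⁻¹) * a⁻¹ := by group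
          _ = (q' * q * q'⁻¹) * a * a⁻¹ := by rw [h2]
          _ = q' * q * q'⁻¹ := by group
      rw [h1]
      exact Q.mul_mem (Q.mul_mem hq' hq) (Q.inv_mem hq')
    have hQle : Q ≤ pCore p E := Cfsg.Agent.Lib.Helper76.PSolv.le_pCore hQn hQp
    rw [hcore] at hQle
    have hQbot : Q = ⊥ := le_bot_iff.mp hQle
    have hidx1 : A.index = 1 := by
      rw [hidx, ← hQcard, hQbot]
      simp
    have hAtop : A = ⊤ := Subgroup.index_eq_one.mp hidx1
    have hcardE : Nat.card E = Nat.card A := by
      rw [hAtop]
      exact (Subgroup.card_top).symm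
    rw [hcardE]
    exact hA
  · by_contra hnc
    have hdvd : p ∣ Nat.card E := by
      by_contra h
      exact hnc ((Nat.Prime.coprime_iff_not_dvd hp).mpr h).symm
    obtain ⟨x, hx⟩ := exists_prime_orderOf_dvd_card' p hdvd
    have h1 : orderOf (x ^ r) = p := by
      have h0 : (orderOf x).Coprime r := by
        rw [hx]
        exact hr.symm
      rw [h0.orderOf_pow]
      exact hx
    have h2 : orderOf (x ^ r) ∣ Nat.card A := Subgroup.orderOf_dvd_natCard A (hpow x)
    rw [h1] at h2
    exact (Nat.Prime.coprime_iff_not_dvd hp).mp hA.symm h2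

variable {G : Type*} [Group G]

/-- **Dual Hall–Higman lemma**: in a finite `p`-solvable group with trivial `p`-core, the
centralizer of the `p'`-core is contained in the `p'`-core. -/
theorem centralizer_pPrimeCore_le [Finite G] (p : ℕ) [Fact p.Prime]
    (hsolv : IsPSolvable p G) (hcore : pCore p G = ⊥) :
    Subgroup.centralizer (pPrimeCore p G : Set G) ≤ pPrimeCore p G := by
  obtain ⟨n, K, h0, hn, hnorm, hstep⟩ :=
    Cfsg.Agent.Lib.Helper70.HallHigman.pChain_of_isPSolvable hsolv
  have hOn : (pPrimeCore p G).Normal := (Cfsg.Agent.Lib.Helper76.PSolv.pPrimeCore_mem p).1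
  have hOc : (Nat.card (pPrimeCore p G)).Coprime p :=
    Cfsg.Agent.Lib.Helper76.PSolv.pPrimeCore_coprime p
  have hCn : (Subgroup.centralizer (pPrimeCore p G : Set G)).Normal := Subgroup.normal_centralizer
  have key : ∀ i, K i ⊓ Subgroup.centralizer (pPrimeCore p G : Set G) ≤ pPrimeCore p G := by
    intro i
    induction i with
    | zero =>
      rw [h0]
      simp
    | succ i ih =>
      obtain ⟨r, hr, hpow⟩ := hstep i
      have hKn := hnorm (i + 1)
      obtain ⟨D, hD⟩ : ∃ D : Subgroup G,
          D = K (i + 1) ⊓ Subgroup.centralizer (pPrimeCore p G : Set G) := ⟨_, rfl⟩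
      rw [← hD]
      have hDn : D.Normal := by
        rw [hD]
        exact Subgroup.normal_inf_normal _ _
      apply Cfsg.Agent.Lib.Helper76.PSolv.le_pPrimeCore hDn
      obtain ⟨A, hAdef⟩ : ∃ A : Subgroup D,
          A = (K i ⊓ Subgroup.centralizer (pPrimeCore p G : Set G)).subgroupOf D := ⟨_, rfl⟩
      have hAmem : ∀ a : D, a ∈ A → (a : G) ∈ pPrimeCore p G := by
        intro a ha
        rw [hAdef, Subgroup.mem_subgroupOf] at ha
        exact ih ha
      have hDcent : ∀ x : D, (x : G) ∈ Subgroup.centralizer (pPrimeCore p G : Set G) := by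
        intro x
        have hle : D ≤ K (i + 1) ⊓ Subgroup.centralizer (pPrimeCore p G : Set G) := le_of_eq hD
        exact (hle x.2).2
      have hDK : ∀ x : D, (x : G) ∈ K (i + 1) := by
        intro x
        have hle : D ≤ K (i + 1) ⊓ Subgroup.centralizer (pPrimeCore p G : Set G) := le_of_eq hD
        exact (hle x.2).1
      refine coprime_of_central p A ?_ ?_ r hr ?_ ?_
      · intro a ha x
        apply Subtype.ext
        rw [Subgroup.coe_mul, Subgroup.coe_mul]
        exact (Subgroup.mem_centralizer_iff.mp (hDcent x) (a : G) (hAmem a ha))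
      · have h1 : Nat.card A = Nat.card (A.map D.subtype) :=
          (Subgroup.card_map_of_injective D.subtype_injective).symm
        have h2 : A.map D.subtype ≤ pPrimeCore p G := by
          rintro _ ⟨a, ha, rfl⟩
          exact hAmem a ha
        rw [h1]
        exact Nat.Coprime.coprime_dvd_left (Subgroup.card_dvd_of_le h2) hOc
      · intro x
        rw [hAdef, Subgroup.mem_subgroupOf, Subgroup.coe_pow]
        exact ⟨hpow _ (hDK x), Subgroup.pow_mem _ (hDcent x) r⟩
      · have h1 := Cfsg.Agent.Lib.Helper11.PConstr.pCore_subgroup_le p D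
        rw [hcore] at h1
        rw [eq_bot_iff]
        intro x hx
        have h2 : (x : G) ∈ (⊥ : Subgroup G) := h1 ⟨x, hx, rfl⟩
        rw [Subgroup.mem_bot] at h2 ⊢
        exact Subtype.ext h2
  have h := key n
  rw [hn, top_inf_eq] at h
  exact h

end Cfsg.Agent.Lib.Helper74.DualHH
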