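import Mathlib
import Cfsg.Agent.Lib.Helper87.FUSHStmt

set_option autoImplicit false

/-! # S1438 piece FUSHB (helper74, third seat): step B of FUSH -/

namespace Cfsg.Agent.Lib.Helper74.FUSHB

universe u

open Cfsg.Agent.Lib.Helper23.HNStmt Cfsg.Agent.Lib.Helper87.FUSHStmt

theorem nilp_of_inj' {A B : Type*} [Group A] [Group B] (f : A →* B) (hf : Function.Injective f)
    [Group.IsNilpotent B] : Group.IsNilpotent A :=
  Group.nilpotent_of_mulEquiv (MonoidHom.ofInjective hf).symm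

theorem mem_conj {X : Type*} [Group X] (H : Subgroup X) (s y : X) :
    y ∈ H.map (MulAut.conj s).toMonoidHom ↔ ∃ w ∈ H, s * w * s⁻¹ = y := Iff.rfl

theorem main (hU : HallNilUniq.{u}) (hC : HallConj.{u}) : StepB.{u} := by
  intro X _ _ hsolv S F D H _ hFS hSD hDnil hHS hHall x hx s hs hsx
  classical
  set π := QuotientGroup.mk' F with hπ
  set H' : Subgroup X := H.map (MulAut.conj s).toMonoidHom with hH'
  have hH'S : H' ≤ S := by
    intro y hy
    obtain ⟨w, hw, rfl⟩ := (mem_conj H s y).1 hy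
    exact S.mul_mem (S.mul_mem hs (hHS hw)) (S.inv_mem hs)
  have hcardH' : Nat.card H' = Nat.card H :=
    Subgroup.card_map_of_injective (MulAut.conj s).injective
  have hSnil : Group.IsNilpotent ↥(S.map π) := by
    have := hDnil
    have hle : S.map π ≤ D.map π := Subgroup.map_mono hSD
    exact nilp_of_inj' (Subgroup.inclusion hle) (Subgroup.inclusion_injective hle)
  have hconj : H'.map π = (H.map π).map (MulAut.conj (π s)).toMonoidHom := by
    rw [hH', Subgroup.map_map, Subgroup.map_map]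
    congr 1
  have hcard : Nat.card (H.map π) = Nat.card (H'.map π) := by
    rw [hconj]
    exact (Subgroup.card_map_of_injective (MulAut.conj (π s)).injective).symm
  have hker : π.ker = F := QuotientGroup.ker_mk' F
  have hcop : (Nat.card (H.map π)).Coprime ((H.map π).relIndex (S.map π)) := by
    have h1 : Nat.card (H.map π) ∣ Nat.card H := Subgroup.card_map_dvd H π
    have h2 : (H.map π).relIndex (S.map π) ∣ H.relIndex S := by
      rw [Subgroup.relIndex_map_map, hker, sup_eq_left.2 hFS]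
      exact Subgroup.relIndex_dvd_of_le_left S le_sup_left
    exact Nat.Coprime.coprime_dvd_left h1 (Nat.Coprime.coprime_dvd_right h2 hHall)
  have heq : H.map π = H'.map π :=
    hU (S.map π) (H.map π) (H'.map π) hSnil (Subgroup.map_mono hHS) (Subgroup.map_mono hH'S)
      hcard hcop
  have hH'T : H' ≤ H ⊔ F := by
    intro y hy
    have h1 : π y ∈ H.map π := by rw [heq]; exact Subgroup.mem_map_of_mem π hy
    obtain ⟨h, hh, hhy⟩ := Subgroup.mem_map.1 h1
    have h2 : h⁻¹ * y ∈ F := QuotientGroup.eq.1 hhy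
    have h3 : y = h * (h⁻¹ * y) := by group
    rw [h3]
    exact Subgroup.mul_mem _ (Subgroup.mem_sup_left hh) (Subgroup.mem_sup_right h2)
  have hTS : H ⊔ F ≤ S := sup_le hHS hFS
  have hTsolv : Group.IsSolvable ↥(H ⊔ F) := by
    have := hsolv
    infer_instance
  have hHallT : (Nat.card H).Coprime (H.relIndex (H ⊔ F)) := by
    have h2 : H.relIndex (H ⊔ F) ∣ H.relIndex S :=
      Dvd.intro _ (Subgroup.relIndex_mul_relIndex H (H ⊔ F) S le_sup_left hTS)
    exact Nat.Coprime.coprime_dvd_right h2 hHall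
  obtain ⟨g, hg, hgH⟩ := hC (H ⊔ F) H H' hTsolv le_sup_left hH'T hcardH'.symm hHallT
  have hg' : g ∈ ((F ⊔ H : Subgroup X) : Set X) := by rw [sup_comm]; exact hg
  rw [Subgroup.normal_mul] at hg'
  obtain ⟨f, hf, h, hh, rfl⟩ := Set.mem_mul.1 hg'
  have key1 : ∀ y ∈ H, f⁻¹ * s * y * (f⁻¹ * s)⁻¹ ∈ H := by
    intro y hy
    have h1 : s * y * s⁻¹ ∈ H' := (mem_conj H s _).2 ⟨y, hy, rfl⟩
    rw [hgH] at h1
    obtain ⟨w, hw, hwe⟩ := (mem_conj H (f * h) _).1 h1
    have h2 : f⁻¹ * s * y * (f⁻¹ * s)⁻¹ = h * w * h⁻¹ := by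
      have h3 : f⁻¹ * s * y * (f⁻¹ * s)⁻¹ = f⁻¹ * (s * y * s⁻¹) * f := by group
      rw [h3, ← hwe]; group
    rw [h2]
    exact H.mul_mem (H.mul_mem hh hw) (H.inv_mem hh)
  have key2 : ∀ y, f⁻¹ * s * y * (f⁻¹ * s)⁻¹ ∈ H → y ∈ H := by
    intro y hy
    have h1 : f * (f⁻¹ * s * y * (f⁻¹ * s)⁻¹) * f⁻¹ ∈ H' := by
      rw [hgH]
      refine (mem_conj H (f * h) _).2 ⟨h⁻¹ * (f⁻¹ * s * y * (f⁻¹ * s)⁻¹) * h,
        H.mul_mem (H.mul_mem (H.inv_mem hh) hy) hh, by group⟩
    obtain ⟨w, hw, hwe⟩ := (mem_conj H s _).1 h1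
    have h2 : y = w := by
      have h3 : y = s⁻¹ * (f * (f⁻¹ * s * y * (f⁻¹ * s)⁻¹) * f⁻¹) * s := by group
      rw [h3, ← hwe]; group
    rw [h2]; exact hw
  refine ⟨f⁻¹ * s, ?_, f, hf, key1 x hx, by group⟩
  rw [Subgroup.mem_normalizer_iff]
  intro y
  exact ⟨fun hy => key1 y hy, fun hy => key2 y hy⟩

end Cfsg.Agent.Lib.Helper74.FUSHB
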