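import Mathlib
import Cfsg.Agent.Lib.Helper59.FxStmt

set_option autoImplicit false

namespace Cfsg.Agent.Lib.Helper74.FxFROB

universe u v

open Cfsg.Agent.Lib.Helper59.FxStmt
open scoped Pointwise

/-- The setwise stabilizer of the pair `{α, β}`. -/
def Y (G : Type u) [Group G] {Ω : Type v} [MulAction G Ω] (α β : Ω) : Subgroup G where
  carrier := {y | (y • α = α ∧ y • β = β) ∨ (y • α = β ∧ y • β = α)}
  mul_mem' := by
    intro a b ha hb
    simp only [Set.mem_ofPred_eq] at ha hb ⊢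
    rcases ha with ⟨h1, h2⟩ | ⟨h1, h2⟩ <;> rcases hb with ⟨h3, h4⟩ | ⟨h3, h4⟩
    · left; rw [mul_smul, mul_smul, h3, h4]; exact ⟨h1, h2⟩
    · right; rw [mul_smul, mul_smul, h3, h4]; exact ⟨h2, h1⟩
    · right; rw [mul_smul, mul_smul, h3, h4]; exact ⟨h1, h2⟩
    · left; rw [mul_smul, mul_smul, h3, h4]; exact ⟨h2, h1⟩
  one_mem' := Or.inl ⟨one_smul _ _, one_smul _ _⟩
  inv_mem' := by
    intro a ha
    simp only [Set.mem_ofPred_eq] at ha ⊢
    rcases ha with ⟨h1, h2⟩ | ⟨h1, h2⟩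
    · left; exact ⟨by rw [inv_smul_eq_iff, h1], by rw [inv_smul_eq_iff, h2]⟩
    · right; exact ⟨by rw [inv_smul_eq_iff, h2], by rw [inv_smul_eq_iff, h1]⟩

theorem mem_Y {G : Type u} [Group G] {Ω : Type v} [MulAction G Ω] {α β : Ω} {y : G} :
    y ∈ Y G α β ↔ (y • α = α ∧ y • β = β) ∨ (y • α = β ∧ y • β = α) := Iff.rfl

theorem swap_pow {G : Type u} [Group G] {Ω : Type v} [MulAction G Ω] {α β : Ω} {g : G}
    (h1 : g • α = β) (h2 : g • β = α) (j : ℕ) :
    g ^ (2 * j + 1) • α = β ∧ g ^ (2 * j + 1) • β = α := by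
  induction j with
  | zero => simpa using ⟨h1, h2⟩
  | succ j ih =>
    have e : 2 * (j + 1) + 1 = (2 * j + 1) + 1 + 1 := by ring
    rw [e, pow_succ, pow_succ, mul_smul, mul_smul, mul_smul, mul_smul, h1, h2, h1]
    exact ih

theorem main : Frob.{u, v} := by
  intro G _ _ Ω _ _ htrans P α β s hC hidx N hN hTN hPN
  classical
  have hfact : Fact (Nat.Prime 2) := ⟨Nat.prime_two⟩
  set K : Subgroup G := MulAction.stabilizer G α ⊓ MulAction.stabilizer G β with hK
  set T : Subgroup G := (P : Subgroup G) ⊓ MulAction.stabilizer G α with hT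
  have hTK : T ≤ K := by
    intro t ht
    refine ⟨ht.2, ?_⟩
    have h1 : t ∈ (P : Subgroup G) ⊓ MulAction.stabilizer G β := by rw [hC.Tβ]; exact ht
    exact h1.2
  obtain ⟨t, ht, ht1⟩ : ∃ t ∈ T, t ≠ 1 := by
    by_contra hcon
    push Not at hcon
    exact hC.Tne ((Subgroup.eq_bot_iff_forall _).2 hcon)
  refine ⟨K.subgroupOf N, ?_, ?_, ?_⟩
  · intro hbot
    have h1 : (⟨t, hTN ht⟩ : ↥N) ∈ K.subgroupOf N := Subgroup.mem_subgroupOf.2 (hTK ht)
    rw [hbot, Subgroup.mem_bot] at h1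
    exact ht1 (congrArg Subtype.val h1)
  · intro htop
    have hNα : N ≤ MulAction.stabilizer G α := by
      intro n hn
      have h1 : (⟨n, hn⟩ : ↥N) ∈ K.subgroupOf N := by rw [htop]; exact Subgroup.mem_top _
      exact (Subgroup.mem_subgroupOf.1 h1).1
    have hfix : ∀ n ∈ N, ∀ ω : Ω, n • ω = ω := by
      intro n hn ω
      obtain ⟨g, rfl⟩ := MulAction.exists_smul_eq G α ω
      have h1 : g⁻¹ * n * g ∈ N := by
        have h0 := hN.conj_mem n hn g⁻¹
        simpa using h0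
      have h2 : (g⁻¹ * n * g) • α = α := hNα h1
      rw [mul_smul, mul_smul, inv_smul_eq_iff] at h2
      exact h2
    have ht1' : t = 1 := by
      apply FaithfulSMul.eq_of_smul_eq_smul (α := Ω)
      intro ω
      rw [hfix t (hTN ht) ω, one_smul]
    exact ht1 ht1'
  · intro gN hg
    rw [eq_bot_iff]
    intro x hx
    rw [Subgroup.mem_bot]
    by_contra hx1
    obtain ⟨hxH, hxg⟩ := hx
    set g : G := (gN : G) with hgdef
    have hgK : g ∉ K := fun h => hg (Subgroup.mem_subgroupOf.2 h)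
    have hx0K : (x : G) ∈ K := Subgroup.mem_subgroupOf.1 hxH
    have hx01 : (x : G) ≠ 1 := fun h => hx1 (Subtype.ext h)
    have hxc : g⁻¹ * (x : G) * g ∈ K := by
      have hxg' : x ∈ MulAut.conj gN • K.subgroupOf N := hxg
      rw [Subgroup.mem_pointwise_smul_iff_inv_smul_mem] at hxg'
      have h1 := Subgroup.mem_subgroupOf.1 hxg'
      simpa [MulAut.smul_def, MulAut.conj_inv_apply] using h1
    have hxα : (x : G) • α = α := hx0K.1
    have hxβ : (x : G) • β = β := hx0K.2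
    have hxgα : (x : G) • (g • α) = g • α := by
      have h1 : (g⁻¹ * (x : G) * g) • α = α := hxc.1
      rw [mul_smul, mul_smul, inv_smul_eq_iff] at h1
      exact h1
    have hxgβ : (x : G) • (g • β) = g • β := by
      have h1 : (g⁻¹ * (x : G) * g) • β = β := hxc.2
      rw [mul_smul, mul_smul, inv_smul_eq_iff] at h1
      exact h1
    have hne : α ≠ β := hC.ne
    have hgne : g • α ≠ g • β := fun h => hne (smul_left_cancel g h)
    have hswap : g • α = β ∧ g • β = α := by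
      rcases hC.f3 (x : G) hx01 α β (g • α) hxα hxβ hxgα with h | h | h
      · exact absurd h hne
      · rcases hC.f3 (x : G) hx01 α β (g • β) hxα hxβ hxgβ with h' | h' | h'
        · exact absurd h' hne
        · exact absurd (h.symm.trans h') hgne
        · exact absurd ⟨h.symm, h'.symm⟩ hgK
      · rcases hC.f3 (x : G) hx01 α β (g • β) hxα hxβ hxgβ with h' | h' | h'
        · exact absurd h' hne
        · exact ⟨h.symm, h'.symm⟩
        · exact absurd (h.symm.trans h') hgne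
    obtain ⟨k, m, hmodd, hkm⟩ := Nat.exists_eq_two_pow_mul_odd (orderOf_pos g).ne'
    set g2 : G := g ^ m with hg2
    have hmpos : 0 < m := hmodd.pos
    have hg2ord : orderOf g2 = 2 ^ k := by
      rw [hg2, orderOf_pow_of_dvd hmpos.ne' (Dvd.intro_left _ hkm.symm), hkm]
      exact Nat.mul_div_cancel _ hmpos
    obtain ⟨j, rfl⟩ := hmodd
    obtain ⟨hg2α, hg2β⟩ := swap_pow hswap.1 hswap.2 j
    have hg2N : g2 ∈ N := N.pow_mem gN.2 _
    -- `P ≤ Y`
    have hPY : (P : Subgroup G) ≤ Y G α β := by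
      intro p hp
      by_cases hpT : p ∈ T
      · exact Or.inl ⟨hpT.2, (hTK hpT).2⟩
      · have hsT : s⁻¹ ∉ T := by
          intro h
          have h1 : s ∈ T := by simpa using T.inv_mem h
          exact hne (h1.2.symm.trans hC.sα)
        have hidx' : (T.subgroupOf (P : Subgroup G)).index = 2 := hidx
        have h1 : (⟨s⁻¹, (P : Subgroup G).inv_mem hC.hs⟩ : ↥(P : Subgroup G)) * ⟨p, hp⟩ ∈
            T.subgroupOf (P : Subgroup G) := by
          rw [Subgroup.mul_mem_iff_of_index_two hidx']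
          constructor
          · intro h; exact absurd (Subgroup.mem_subgroupOf.1 h) hsT
          · intro h; exact absurd (Subgroup.mem_subgroupOf.1 h) hpT
        have h2 : s⁻¹ * p ∈ T := Subgroup.mem_subgroupOf.1 h1
        have h3 : (s⁻¹ * p) • α = α := h2.2
        have h4 : (s⁻¹ * p) • β = β := (hTK h2).2
        rw [mul_smul, inv_smul_eq_iff] at h3 h4
        exact Or.inr ⟨by rw [h3, hC.sα], by rw [h4, hC.sβ]⟩
    have hg2Y : g2 ∈ Y G α β := Or.inr ⟨hg2α, hg2β⟩
    set g2' : ↥(Y G α β) := ⟨g2, hg2Y⟩ with hg2'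
    have hQ : IsPGroup 2 ↥(Subgroup.zpowers g2') := by
      apply IsPGroup.of_card (n := k)
      rw [Nat.card_zpowers, ← Subgroup.orderOf_coe]
      exact hg2ord
    obtain ⟨R, hR⟩ := hQ.exists_le_sylow
    obtain ⟨y, hy⟩ := MulAction.exists_smul_eq ↥(Y G α β) R (P.subtype hPY)
    have hz : y * g2' * y⁻¹ ∈ ((P.subtype hPY : Sylow 2 ↥(Y G α β)) : Subgroup ↥(Y G α β)) := by
      rw [← hy, Sylow.coe_subgroup_smul]
      have h1 : g2' ∈ (R : Subgroup ↥(Y G α β)) := hR (Subgroup.mem_zpowers g2')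
      have h2 := Subgroup.smul_mem_pointwise_smul g2' (MulAut.conj y) (R : Subgroup _) h1
      simpa [MulAut.smul_def] using h2
    have hzP : (y : G) * g2 * (y : G)⁻¹ ∈ (P : Subgroup G) := by
      rw [Sylow.coe_subtype] at hz
      exact Subgroup.mem_subgroupOf.1 hz
    have hzN : (y : G) * g2 * (y : G)⁻¹ ∈ N := hN.conj_mem g2 hg2N y
    have hzα : ((y : G) * g2 * (y : G)⁻¹) • α = α := hPN _ hzP hzN
    have hzβ : ((y : G) * g2 * (y : G)⁻¹) • α = β := by
      rcases mem_Y.1 y.2 with ⟨h1, h2⟩ | ⟨h1, h2⟩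
      · rw [mul_smul, mul_smul, inv_smul_eq_iff.2 h1.symm, hg2α, h2]
      · rw [mul_smul, mul_smul, inv_smul_eq_iff.2 h2.symm, hg2β, h1]
    exact hne (hzα.symm.trans hzβ)

end Cfsg.Agent.Lib.Helper74.FxFROB
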