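import Mathlib
import Cfsg.Prelude.Def_Blocks
import Cfsg.Agent.Lib.Helper74.McKayDefs
import Cfsg.Agent.Lib.Helper74.McKayAB
import Cfsg.Agent.Lib.Helper16.RootConj
import Cfsg.Agent.Lib.Helper16.SylowBlocks
import Cfsg.Agent.Lib.Helper3.Card
import Cfsg.Agent.Lib.CT.Knorr
import Cfsg.Agent.S4607
import Cfsg.Agent.S4442
import Cfsg.Agent.Lib.Helper79.McKayCD
import Cfsg.Agent.Lib.Helper47.McKayF
import Cfsg.Agent.Lib.Helper47.McKayG
import Cfsg.Agent.Lib.Helper23.McKayE
import Cfsg.Agent.Lib.Helper23.McKayH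

/-!
# Characters of degree prime to `p` when `p` divides the group order exactly once

For a Sylow `p`-subgroup `P` of order `p` of `G`, the number of irreducible characters of `G`
of degree prime to `p` equals the class number of the normalizer of `P`. The proof counts the
pairs (root, character) in two ways, for `G` and for the normalizer, using the number of
characters in a block with defect group `P`.
-/

set_option autoImplicit false

namespace Cfsg.Agent.Lib.Helper74.McKayMain

open Cfsg Cfsg.Agent.Lib.Helper74.McKayDefs Cfsg.Agent.Lib.Helper74.McKayAB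

universe u
variable {G : Type u} [Group G]

open Classical in
/-- The double count: `|N_G(P)|` times the number of irreducible characters of degree prime to
`p` is the local sum, given the number of characters in each block with defect group `P`. -/
theorem card_mul_eq_locSum [Finite G] (p : ℕ) [Fact p.Prime] (M : Ideal AlgInt)
    (hM : IsPModular p M) (P : Sylow p G) (hP : Nat.card P = p)
    (hcount : ∀ (θ : IrrCharacter ↥(Subgroup.centralizer ((P : Subgroup G) : Set G)))
      (B : Set (IrrCharacter G)),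
      TrivOn (P : Subgroup G) (θ : ↥(Subgroup.centralizer ((P : Subgroup G) : Set G)) → ℂ) →
      IsPBlock M B → IsDefectGroup p M B (P : Subgroup G) →
      IsInducedBlock M (Subgroup.centralizer ((P : Subgroup G) : Set G))
        (blockOf M (θ : ↥(Subgroup.centralizer ((P : Subgroup G) : Set G)) → ℂ)) B →
      Nat.card B = (Subgroup.centralizer ((P : Subgroup G) : Set G)).relIndex
          (stab (P : Subgroup G) (θ : ↥(Subgroup.centralizer ((P : Subgroup G) : Set G)) → ℂ)) +
        (p - 1) / (Subgroup.centralizer ((P : Subgroup G) : Set G)).relIndex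
          (stab (P : Subgroup G)
            (θ : ↥(Subgroup.centralizer ((P : Subgroup G) : Set G)) → ℂ))) :
    Nat.card ↥(Subgroup.normalizer ((P : Subgroup G) : Set G)) *
      Nat.card {χ : IrrCharacter G // ¬ p ∣ charDegree (χ : G → ℂ)} =
      locSum p (P : Subgroup G) := by
  have hp : p.Prime := Fact.out
  have hMp : M.IsPrime := Cfsg.Agent.Lib.Helper77.LocalRing.isPrime_of_isPModular hM
  have : Finite (IrrCharacter G) := Cfsg.Agent.Lib.Helper3.Irr.finite_irrCharacter
  have : Finite (IrrCharacter ↥(Subgroup.centralizer ((P : Subgroup G) : Set G))) :=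
    Cfsg.Agent.Lib.Helper3.Irr.finite_irrCharacter
  let _ : Fintype (IrrCharacter G) := Fintype.ofFinite _
  let _ : Fintype (IrrCharacter ↥(Subgroup.centralizer ((P : Subgroup G) : Set G))) :=
    Fintype.ofFinite _
  obtain ⟨R, hRdef⟩ : ∃ R : IrrCharacter ↥(Subgroup.centralizer ((P : Subgroup G) : Set G)) →
      IrrCharacter G → Prop, R = fun (θ : IrrCharacter
        ↥(Subgroup.centralizer ((P : Subgroup G) : Set G))) (χ : IrrCharacter G) =>
        (TrivOn (P : Subgroup G) (θ : ↥(Subgroup.centralizer ((P : Subgroup G) : Set G)) → ℂ) ∧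
        IsInducedBlock M (Subgroup.centralizer ((P : Subgroup G) : Set G))
          (blockOf M (θ : ↥(Subgroup.centralizer ((P : Subgroup G) : Set G)) → ℂ))
          (blockOf M (χ : G → ℂ))) := ⟨_, rfl⟩
  have hR : ∀ θ χ, R θ χ ↔
      (TrivOn (P : Subgroup G) (θ : ↥(Subgroup.centralizer ((P : Subgroup G) : Set G)) → ℂ) ∧
        IsInducedBlock M (Subgroup.centralizer ((P : Subgroup G) : Set G))
          (blockOf M (θ : ↥(Subgroup.centralizer ((P : Subgroup G) : Set G)) → ℂ))
          (blockOf M (χ : G → ℂ))) := by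
    intro θ χ; rw [hRdef]
  -- Step 1: characters of degree prime to `p`
  have h1 : ∀ χ : IrrCharacter G, ¬ p ∣ charDegree (χ : G → ℂ) →
      ∑ θ : IrrCharacter ↥(Subgroup.centralizer ((P : Subgroup G) : Set G)),
        (if R θ χ then Nat.card ↥(stab (P : Subgroup G)
          (θ : ↥(Subgroup.centralizer ((P : Subgroup G) : Set G)) → ℂ)) else 0) =
      Nat.card ↥(Subgroup.normalizer ((P : Subgroup G) : Set G)) := by
    intro χ hχ
    have hdef := isDefectGroup_of_not_dvd p M hM P hP χ hχ
    obtain ⟨θ₀, hθ₀P, hθ₀⟩ := Cfsg.Agent.Lib.Helper79.McKayCD.exists_root p M hM P hP _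
      (Cfsg.Agent.Lib.CT.DefectZeroBlock.isPBlock_blockOf χ) hdef
    rw [Cfsg.Agent.Lib.Helper47.McKayF.card_normalizer_eq_sum (P : Subgroup G) θ₀]
    refine Finset.sum_congr rfl (fun θ _ => ?_)
    have hiff : R θ χ ↔ ∃ n ∈ Subgroup.normalizer ((P : Subgroup G) : Set G),
        ∀ c c' : ↥(Subgroup.centralizer ((P : Subgroup G) : Set G)), (c' : G) = n * c * n⁻¹ →
          (θ : ↥(Subgroup.centralizer ((P : Subgroup G) : Set G)) → ℂ) c =
            (θ₀ : ↥(Subgroup.centralizer ((P : Subgroup G) : Set G)) → ℂ) c' := by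
      rw [hR]
      constructor
      · rintro ⟨hθP, hθ⟩
        exact Cfsg.Agent.Lib.Helper16.RootConj.root_conj p M hM P hP _ hdef θ₀ θ hθ₀P hθP hθ₀ hθ
      · rintro ⟨n, hn, hconj⟩
        refine ⟨?_, Cfsg.Agent.Lib.Helper23.McKayE.induced_conj p M hM (P : Subgroup G) θ₀ θ n hn hconj _ hθ₀⟩
        intro x hx
        have hx' : n * (x : G) * n⁻¹ ∈ (P : Subgroup G) :=
          ((Subgroup.mem_normalizer_iff.1 hn) (x : G)).1 hx
        have e1 := hconj x ⟨n * (x : G) * n⁻¹, conj_mem_centralizer (P : Subgroup G) hn x.2⟩ rfl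
        have e2 := hconj 1 1 (by simp)
        rw [e1, e2]
        exact hθ₀P _ hx'
    by_cases hRθ : R θ χ
    · rw [if_pos hRθ, if_pos (hiff.mp hRθ)]
    · rw [if_neg hRθ, if_neg (fun h => hRθ (hiff.mpr h))]
  -- Step 2: characters of degree divisible by `p`
  have h2 : ∀ χ : IrrCharacter G, p ∣ charDegree (χ : G → ℂ) →
      ∀ θ : IrrCharacter ↥(Subgroup.centralizer ((P : Subgroup G) : Set G)), ¬ R θ χ := by
    intro χ hχ θ hRθ
    rw [hR] at hRθ
    obtain ⟨hθP, hθ⟩ := hRθ
    obtain ⟨B', hB', hdef'⟩ := Cfsg.Agent.Lib.Helper79.McKayCD.exists_induced p M hM P hP θ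
    have hBeq := Cfsg.Agent.Lib.Helper16.SylowBlocks.induced_unique hMp _ _ B' _ hB' hθ
    rw [hBeq] at hdef'
    exact not_dvd_of_isDefectGroup p M hM P hP _
      (Cfsg.Agent.Lib.CT.DefectZeroBlock.isPBlock_blockOf χ) hdef' χ
      (Cfsg.Agent.Lib.Helper77.DefectClass.self_mem_blockOf hMp χ) hχ
  -- Step 3: the left side as a double sum
  have h3 : Nat.card ↥(Subgroup.normalizer ((P : Subgroup G) : Set G)) *
      Nat.card {χ : IrrCharacter G // ¬ p ∣ charDegree (χ : G → ℂ)} =
      ∑ χ : IrrCharacter G,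
        ∑ θ : IrrCharacter ↥(Subgroup.centralizer ((P : Subgroup G) : Set G)),
          (if R θ χ then Nat.card ↥(stab (P : Subgroup G)
            (θ : ↥(Subgroup.centralizer ((P : Subgroup G) : Set G)) → ℂ)) else 0) := by
    have hc : Nat.card {χ : IrrCharacter G // ¬ p ∣ charDegree (χ : G → ℂ)} =
        (Finset.univ.filter (fun χ : IrrCharacter G => ¬ p ∣ charDegree (χ : G → ℂ))).card := by
      rw [Nat.card_eq_fintype_card, Fintype.card_subtype]
    rw [hc, Finset.card_eq_sum_ones, Finset.mul_sum, Finset.sum_filter]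
    refine Finset.sum_congr rfl (fun χ _ => ?_)
    by_cases hχ : p ∣ charDegree (χ : G → ℂ)
    · rw [if_neg (not_not.mpr hχ)]
      symm
      apply Finset.sum_eq_zero
      intro θ _
      rw [if_neg (h2 χ hχ θ)]
    · rw [if_pos hχ, mul_one, h1 χ hχ]
  -- Step 4: the inner sum over `χ`
  have h4 : ∀ θ : IrrCharacter ↥(Subgroup.centralizer ((P : Subgroup G) : Set G)),
      ∑ χ : IrrCharacter G, (if R θ χ then Nat.card ↥(stab (P : Subgroup G)
          (θ : ↥(Subgroup.centralizer ((P : Subgroup G) : Set G)) → ℂ)) else 0) =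
      if TrivOn (P : Subgroup G) (θ : ↥(Subgroup.centralizer ((P : Subgroup G) : Set G)) → ℂ)
      then wt p (P : Subgroup G) (θ : ↥(Subgroup.centralizer ((P : Subgroup G) : Set G)) → ℂ)
      else 0 := by
    intro θ
    by_cases hθP : TrivOn (P : Subgroup G)
        (θ : ↥(Subgroup.centralizer ((P : Subgroup G) : Set G)) → ℂ)
    · rw [if_pos hθP]
      obtain ⟨B, hB, hdef⟩ := Cfsg.Agent.Lib.Helper79.McKayCD.exists_induced p M hM P hP θ
      have hRB : ∀ χ : IrrCharacter G, R θ χ ↔ χ ∈ B := by
        intro χ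
        rw [hR]
        constructor
        · rintro ⟨_, hθ⟩
          have hBeq := Cfsg.Agent.Lib.Helper16.SylowBlocks.induced_unique hMp _ _ B _ hB hθ
          rw [hBeq]
          exact Cfsg.Agent.Lib.Helper77.DefectClass.self_mem_blockOf hMp χ
        · intro hχ
          refine ⟨hθP, ?_⟩
          have hBeq := Cfsg.Agent.Lib.CT.DefectZeroBlock.eq_blockOf_of_mem hMp hB.2.1 hχ
          rw [← hBeq]
          exact hB
      have hcard := hcount θ B hθP hB.2.1 hdef hB
      have hset : B = ((Finset.univ.filter (fun χ : IrrCharacter G => R θ χ) :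
          Finset (IrrCharacter G)) : Set (IrrCharacter G)) := by
        ext χ
        simp [hRB]
      have hcard' : (Finset.univ.filter (fun χ : IrrCharacter G => R θ χ)).card = Nat.card B := by
        rw [Nat.card_coe_set_eq, hset, Set.ncard_coe_finset]
      rw [← Finset.sum_filter, Finset.sum_const, smul_eq_mul, hcard', hcard, mul_comm]
      rfl
    · rw [if_neg hθP]
      apply Finset.sum_eq_zero
      intro χ _
      rw [if_neg (fun h => hθP ((hR θ χ).mp h).1)]
  rw [h3, Finset.sum_comm]
  unfold locSum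
  rw [finsum_mem_def, finsum_eq_sum_of_fintype]
  refine Finset.sum_congr rfl (fun θ _ => ?_)
  rw [h4 θ, Set.indicator_apply]
  rfl

/-- The number of characters in a block with defect group `P` of order `p`, in terms of a root
`θ` of the block. -/
theorem card_block_of_root [Finite G] (p : ℕ) [Fact p.Prime] (M : Ideal AlgInt)
    (hM : IsPModular p M) (P : Sylow p G) (hP : Nat.card P = p)
    (θ : IrrCharacter ↥(Subgroup.centralizer ((P : Subgroup G) : Set G)))
    (B : Set (IrrCharacter G))
    (hθP : TrivOn (P : Subgroup G)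
      (θ : ↥(Subgroup.centralizer ((P : Subgroup G) : Set G)) → ℂ))
    (hB : IsPBlock M B) (hBP : IsDefectGroup p M B (P : Subgroup G))
    (hind : IsInducedBlock M (Subgroup.centralizer ((P : Subgroup G) : Set G))
      (blockOf M (θ : ↥(Subgroup.centralizer ((P : Subgroup G) : Set G)) → ℂ)) B) :
    Nat.card B = (Subgroup.centralizer ((P : Subgroup G) : Set G)).relIndex
        (stab (P : Subgroup G) (θ : ↥(Subgroup.centralizer ((P : Subgroup G) : Set G)) → ℂ)) +
      (p - 1) / (Subgroup.centralizer ((P : Subgroup G) : Set G)).relIndex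
        (stab (P : Subgroup G)
          (θ : ↥(Subgroup.centralizer ((P : Subgroup G) : Set G)) → ℂ)) := by
  have hMp : M.IsPrime := Cfsg.Agent.Lib.Helper77.LocalRing.isPrime_of_isPModular hM
  by_cases h2 : p = 2
  · subst h2
    exact Cfsg.Agent.Lib.Helper23.McKayH.card_block_two M hM P hP θ B hB hBP
  · exact (Cfsg.Agent.S4442.result p M hM h2 P hP B hB hBP
      (blockOf M (θ : ↥(Subgroup.centralizer ((P : Subgroup G) : Set G)) → ℂ)) hind θ
      (Cfsg.Agent.Lib.Helper77.DefectClass.self_mem_blockOf hMp θ) hθP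
      (stab (P : Subgroup G) (θ : ↥(Subgroup.centralizer ((P : Subgroup G) : Set G)) → ℂ))
      (fun g => Iff.rfl) _ _ rfl rfl).2.1

/-- If `p` divides the order of `G` exactly once and `P` is a Sylow `p`-subgroup, the number of
irreducible characters of degree prime to `p` is the class number of the normalizer of `P`. -/
theorem card_irr_not_dvd_eq [Finite G] (p : ℕ) [Fact p.Prime] (hdiv : p ∣ Nat.card G)
    (hsq : ¬ p ^ 2 ∣ Nat.card G) (P : Sylow p G) :
    Nat.card {χ : IrrCharacter G // ¬ p ∣ charDegree (χ : G → ℂ)} =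
      Nat.card (ConjClasses ↥(Subgroup.normalizer ((P : Subgroup G) : Set G))) := by
  have hp : p.Prime := Fact.out
  obtain ⟨M, hM⟩ := Cfsg.Agent.Lib.CT.Knorr.exists_isPModular p hp
  have hMp : M.IsPrime := Cfsg.Agent.Lib.Helper77.LocalRing.isPrime_of_isPModular hM
  have hfac : (Nat.card G).factorization p = 1 := by
    have h1 : 1 ≤ (Nat.card G).factorization p :=
      (hp.dvd_iff_one_le_factorization Nat.card_pos.ne').mp hdiv
    have h2 : ¬ 2 ≤ (Nat.card G).factorization p := fun h =>
      hsq ((hp.pow_dvd_iff_le_factorization Nat.card_pos.ne').mpr h)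
    omega
  have hP : Nat.card P = p := by
    have h := P.card_eq_multiplicity
    rw [hfac, pow_one] at h
    exact h
  have hG := card_mul_eq_locSum p M hM P hP
    (fun θ B hθP hB hBP hind => card_block_of_root p M hM P hP θ B hθP hB hBP hind)
  have hle : (P : Subgroup G) ≤ Subgroup.normalizer ((P : Subgroup G) : Set G) :=
    Subgroup.le_normalizer
  obtain ⟨Q, hQdef⟩ : ∃ Q : Sylow p ↥(Subgroup.normalizer ((P : Subgroup G) : Set G)),
      Q = P.subtype hle := ⟨_, rfl⟩
  have hQcoe : (Q : Subgroup ↥(Subgroup.normalizer ((P : Subgroup G) : Set G))) =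
      (P : Subgroup G).subgroupOf (Subgroup.normalizer ((P : Subgroup G) : Set G)) := by
    rw [hQdef]
    exact Sylow.coe_subtype _ _
  have hQ : Nat.card Q = p := by
    have h : Nat.card (Q : Subgroup ↥(Subgroup.normalizer ((P : Subgroup G) : Set G))) =
        Nat.card (P : Subgroup G) := by
      rw [hQcoe]
      exact Nat.card_congr (Subgroup.subgroupOfEquivOfLe hle).toEquiv
    exact h.trans hP
  have hN := card_mul_eq_locSum p M hM Q hQ
    (fun θ B hθP hB hBP hind => card_block_of_root p M hM Q hQ θ B hθP hB hBP hind)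
  have hall : ∀ χ : IrrCharacter ↥(Subgroup.normalizer ((P : Subgroup G) : Set G)),
      ¬ p ∣ charDegree (χ : ↥(Subgroup.normalizer ((P : Subgroup G) : Set G)) → ℂ) := by
    intro χ
    have hnorm : (Q : Subgroup ↥(Subgroup.normalizer ((P : Subgroup G) : Set G))).Normal := by
      rw [hQcoe]
      exact Subgroup.normal_in_normalizer
    have hidx : ¬ p ∣ (Q : Subgroup ↥(Subgroup.normalizer ((P : Subgroup G) : Set G))).index :=
      Q.not_dvd_index
    have hdef := Cfsg.Agent.Lib.Helper16.SylowBlocks.isDefectGroup_of_normal_sylow p hM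
      (Q : Subgroup ↥(Subgroup.normalizer ((P : Subgroup G) : Set G))) Q.isPGroup' hidx
      (blockOf M (χ : ↥(Subgroup.normalizer ((P : Subgroup G) : Set G)) → ℂ))
      (Cfsg.Agent.Lib.CT.DefectZeroBlock.isPBlock_blockOf χ)
    exact not_dvd_of_isDefectGroup p M hM Q hQ _
      (Cfsg.Agent.Lib.CT.DefectZeroBlock.isPBlock_blockOf χ) hdef χ
      (Cfsg.Agent.Lib.Helper77.DefectClass.self_mem_blockOf hMp χ)
  have hcardN : Nat.card {χ : IrrCharacter ↥(Subgroup.normalizer ((P : Subgroup G) : Set G)) //
      ¬ p ∣ charDegree (χ : ↥(Subgroup.normalizer ((P : Subgroup G) : Set G)) → ℂ)} =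
      Nat.card (ConjClasses ↥(Subgroup.normalizer ((P : Subgroup G) : Set G))) := by
    rw [← Cfsg.Agent.Lib.Helper3.Card.card_irrCharacter]
    exact Nat.card_congr (Equiv.subtypeUnivEquiv hall)
  rw [hcardN, hQcoe, Cfsg.Agent.Lib.Helper47.McKayG.locSum_normalizer, Cfsg.Agent.Lib.Helper47.McKayF.card_normalizer_subgroupOf] at hN
  have hpos : 0 < Nat.card ↥(Subgroup.normalizer ((P : Subgroup G) : Set G)) := Nat.card_pos
  exact Nat.eq_of_mul_eq_mul_left hpos (hG.trans hN.symm)

end Cfsg.Agent.Lib.Helper74.McKayMain
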