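import Mathlib
import Cfsg.Agent.S4452
import Cfsg.Agent.Lib.Helper3.TDBasic
import Cfsg.Agent.Lib.Helper3.FTBpn
import Cfsg.Agent.Lib.Helper78.Gallagher
import Cfsg.Agent.Lib.Helper80.CenterDvd
import Cfsg.Agent.Lib.Helper69.Conj
import Cfsg.Agent.Lib.Helper67.ClassSize

/-!
Groups with a normal `p`-complement and exactly one irreducible character of degree divisible
by `p`: the Sylow `p`-subgroups are abelian, and the classes of size prime to `p` are counted by
the classes of the Sylow normalizer.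
-/

set_option autoImplicit false

namespace Cfsg.Agent.Lib.Helper74.PCompl

open Cfsg Cfsg.Agent.Lib.CT.Wedderburn
open scoped ComplexConjugate

universe u

theorem classInner_const {H : Type u} [Group H] [Fintype H] (a b : ℂ) :
    classInner (fun _ : H => a) (fun _ : H => b) = a * conj b := by
  unfold classInner
  rw [Finset.sum_const, Finset.card_univ, Nat.card_eq_fintype_card, nsmul_eq_mul, ← mul_assoc,
    inv_mul_cancel₀, one_mul]
  exact Nat.cast_ne_zero.mpr Fintype.card_ne_zero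

/-- A nontrivial finite group has a nontrivial irreducible character. -/
theorem exists_irr_ne_one {H : Type u} [Group H] [Finite H] (hH : ∃ x : H, x ≠ 1) :
    ∃ θ : IrrCharacter H, θ ≠ ⟨fun _ => (1 : ℂ), Cfsg.Agent.Lib.CT.Ops.isIrrCharacter_one⟩ := by
  by_contra hcon
  push Not at hcon
  have hsub : Subsingleton (IrrCharacter H) := ⟨fun a b => (hcon a).trans (hcon b).symm⟩
  have h1 : Nat.card (IrrCharacter H) ≤ 1 := Finite.card_le_one_iff_subsingleton.2 hsub
  rw [Cfsg.Agent.Lib.CT.Orth.card_irrCharacter] at h1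
  have hsub2 : Subsingleton (ConjClasses H) := Finite.card_le_one_iff_subsingleton.1 h1
  obtain ⟨x, hx⟩ := hH
  have h2 : ConjClasses.mk x = ConjClasses.mk 1 := Subsingleton.elim _ _
  rw [ConjClasses.mk_eq_mk_iff_isConj] at h2
  exact hx (isConj_one_left.1 h2)

/-- If `G/N` is a `p`-group, `N ≠ 1`, and `G` has at most one irreducible character of degree
divisible by `p`, then `G/N` is abelian. -/
theorem quot_comm {G : Type u} [Group G] [Finite G] (p : ℕ) [Fact p.Prime] (N : Subgroup G)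
    [hNn : N.Normal] (hN1 : N ≠ ⊥) (k : ℕ) (hidx : N.index = p ^ k)
    (hone : ∀ χ χ' : IrrCharacter G, p ∣ charDegree χ.1 → p ∣ charDegree χ'.1 → χ = χ') :
    ∀ a b : G ⧸ N, a * b = b * a := by
  classical
  have hp : p.Prime := Fact.out
  haveI : Fintype G := Fintype.ofFinite G
  haveI : Fintype N := Fintype.ofFinite N
  by_contra hcon
  have h1 : ∃ ψ : IrrCharacter (G ⧸ N), charDegree ψ.1 ≠ 1 := by
    by_contra h
    push Not at h
    exact hcon (Cfsg.Agent.Lib.Helper3.TDBasic.comm_of_forall_degree_one h)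
  obtain ⟨ψ, hψ⟩ := h1
  have hψp : p ∣ charDegree ψ.1 := by
    have hd : charDegree ψ.1 ∣ p ^ k := by
      rw [← hidx, Subgroup.index_eq_card]
      exact Cfsg.Agent.Lib.Helper80.Integrality.charDegree_dvd_card ψ
    obtain ⟨j, -, hj'⟩ := (Nat.dvd_prime_pow hp).1 hd
    rw [hj'] at hψ ⊢
    cases j with
    | zero => exact absurd (pow_zero p) hψ
    | succ j => exact dvd_pow_self p (Nat.succ_ne_zero j)
  obtain ⟨χ₁, hχ₁⟩ : ∃ χ₁ : IrrCharacter G, χ₁ = Cfsg.Agent.Lib.Helper3.TDBasic.infl N ψ :=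
    ⟨_, rfl⟩
  have hχ₁v : ∀ g : G, χ₁.1 g = ψ.1 (g : G ⧸ N) := by
    intro g
    rw [hχ₁]
    rfl
  have hχ₁p : p ∣ charDegree χ₁.1 := by
    rw [hχ₁]
    exact hψp
  have hψc : IsCharacter (G ⧸ N) ψ.1 := isCharacter_of_irr ψ.2
  obtain ⟨d, hd⟩ := char_exists_apply_one hψc
  have hd0 : (d : ℂ) ≠ 0 := by
    rw [← hd]
    exact irr_apply_one_ne_zero ψ.2
  have hχ₁N : ∀ n : N, χ₁.1 (n : G) = (d : ℂ) := by
    intro n
    rw [hχ₁v, ← hd]
    exact congrArg ψ.1 ((QuotientGroup.eq_one_iff _).2 n.2)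
  -- a nontrivial irreducible character of `N`
  have hNx : ∃ x : N, x ≠ 1 := by
    by_contra h
    push Not at h
    apply hN1
    rw [Subgroup.eq_bot_iff_forall]
    intro x hx
    exact congrArg Subtype.val (h ⟨x, hx⟩)
  obtain ⟨θ, hθ⟩ := exists_irr_ne_one hNx
  obtain ⟨χ₂, hχ₂, -, -⟩ := Cfsg.Agent.Lib.Helper3.TDBasic.exists_over N θ
  have key : ∃ c : ℂ, ∀ n : N, χ₂.1 (n : G) = c := by
    by_cases hdiv : p ∣ charDegree χ₂.1
    · refine ⟨(d : ℂ), fun n => ?_⟩
      rw [hone χ₂ χ₁ hdiv hχ₁p]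
      exact hχ₁N n
    · refine ⟨1, fun n => ?_⟩
      have hres : IsIrrCharacter N (fun m : N => χ₂.1 m) :=
        Cfsg.Agent.Lib.Helper3.FTBpn.restrict_irr_of_index_pow p k G N hidx χ₂.1 χ₂.2 hdiv
      have hprod : IsIrrCharacter N (fun m : N => (fun _ : N => (1 : ℂ)) m * χ₂.1 m) := by
        simpa using hres
      obtain ⟨hG1, -, -⟩ := Cfsg.Agent.Lib.Helper78.Gallagher.gallagher_core N hNn
        (fun _ : N => (1 : ℂ)) Cfsg.Agent.Lib.CT.Ops.isIrrCharacter_one (fun _ _ => rfl)
        χ₂.1 χ₂.2 hprod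
      have hfr : classInner (indFun N (fun _ : N => (1 : ℂ))) χ₁.1 ≠ 0 := by
        rw [Cfsg.Agent.Lib.CT.FrobRec.frobenius_reciprocity N _ _
          (char_isClassFunction (isCharacter_of_irr χ₁.2))]
        have h2 : (fun h : N => χ₁.1 (h : G)) = fun _ : N => (d : ℂ) := funext hχ₁N
        rw [h2, classInner_const]
        simpa using hd0
      obtain ⟨hirr, -⟩ := hG1 χ₁ hfr
      have hdeg : p ∣ charDegree (χ₁.1 * χ₂.1) := by
        have hc₁ := char_natCast_charDegree (isCharacter_of_irr χ₁.2)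
        have hc₂ := char_natCast_charDegree (isCharacter_of_irr χ₂.2)
        have h3 : (χ₁.1 * χ₂.1) 1 = ((charDegree χ₁.1 * charDegree χ₂.1 : ℕ) : ℂ) := by
          rw [Pi.mul_apply, ← hc₁, ← hc₂]
          push_cast
          rfl
        rw [charDegree_eq_of_apply_one h3]
        exact Dvd.dvd.mul_right hχ₁p _
      have heq := hone ⟨χ₁.1 * χ₂.1, hirr⟩ χ₁ hdeg hχ₁p
      have h4 : χ₁.1 (n : G) * χ₂.1 (n : G) = χ₁.1 (n : G) := congrFun (congrArg Subtype.val heq) n
      rw [hχ₁N n] at h4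
      exact mul_left_cancel₀ hd0 (h4.trans (mul_one _).symm)
  obtain ⟨c, hc⟩ := key
  apply hχ₂
  have h5 : (fun n : N => χ₂.1 (n : G)) = c • (fun _ : N => (1 : ℂ)) := by
    funext n
    rw [hc n]
    simp
  rw [h5, Cfsg.Agent.Lib.CT.Orth.classInner_smul_left]
  have h6 := Cfsg.Agent.Lib.CT.Wedderburn.irr_orthonormal
    (⟨fun _ => (1 : ℂ), Cfsg.Agent.Lib.CT.Ops.isIrrCharacter_one⟩ : IrrCharacter N) θ
  rw [if_neg (fun h => hθ h.symm)] at h6
  rw [h6, mul_zero]

/-- If the normalizer of a Sylow `p`-subgroup centralizes it, the classes of size prime to `p`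
are in bijection with the classes of the normalizer. -/
theorem card_classes {G : Type u} [Group G] [Finite G] (p : ℕ) [Fact p.Prime] (P : Sylow p G)
    (hNC : ∀ n ∈ Subgroup.normalizer ((P : Subgroup G) : Set G),
      n ∈ Subgroup.centralizer ((P : Subgroup G) : Set G)) :
    Nat.card {C : ConjClasses G // ¬ p ∣ Nat.card C.carrier} =
      Nat.card (ConjClasses (Subgroup.normalizer ((P : Subgroup G) : Set G))) := by
  classical
  symm
  have hsize : ∀ x : G, Nat.card (ConjClasses.mk x).carrier =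
      (Subgroup.centralizer ({x} : Set G)).index := by
    intro x
    rw [Nat.card_coe_set_eq]
    exact Cfsg.Agent.Lib.Helper67.ClassSize.ncard_carrier_eq_index x
  have hmem : ∀ c : ConjClasses (Subgroup.normalizer ((P : Subgroup G) : Set G)),
      ¬ p ∣ Nat.card (ConjClasses.map
        (Subgroup.normalizer ((P : Subgroup G) : Set G)).subtype c).carrier := by
    intro c
    obtain ⟨m, rfl⟩ := ConjClasses.exists_rep c
    show ¬ p ∣ Nat.card (ConjClasses.mk (m : G)).carrier
    rw [hsize]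
    intro hdvd
    have hle : (P : Subgroup G) ≤ Subgroup.centralizer ({(m : G)} : Set G) := by
      intro u hu
      rw [Subgroup.mem_centralizer_iff]
      intro y hy
      rw [Set.mem_singleton_iff] at hy
      rw [hy]
      have h1 := Subgroup.mem_centralizer_iff.1 (hNC (m : G) m.2) u hu
      exact h1.symm
    exact P.not_dvd_index (hdvd.trans (Subgroup.index_dvd_of_le hle))
  apply Nat.card_congr
  apply Equiv.ofBijective (fun c => (⟨ConjClasses.map
    (Subgroup.normalizer ((P : Subgroup G) : Set G)).subtype c, hmem c⟩ :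
      {C : ConjClasses G // ¬ p ∣ Nat.card C.carrier}))
  constructor
  · intro c c' h
    obtain ⟨m, rfl⟩ := ConjClasses.exists_rep c
    obtain ⟨m', rfl⟩ := ConjClasses.exists_rep c'
    have h1 : ConjClasses.mk (m : G) = ConjClasses.mk (m' : G) := congrArg Subtype.val h
    rw [ConjClasses.mk_eq_mk_iff_isConj, isConj_iff] at h1
    obtain ⟨g, hg⟩ := h1
    have hx : (m : G) ∈ Subgroup.centralizer ((P : Subgroup G) : Set G) := hNC _ m.2
    have hy : (g⁻¹)⁻¹ * (m : G) * g⁻¹ ∈ Subgroup.centralizer ((P : Subgroup G) : Set G) := by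
      rw [inv_inv, hg]
      exact hNC _ m'.2
    obtain ⟨n, hn, hn'⟩ := Sylow.conj_eq_normalizer_conj_of_mem_centralizer P (m : G) g⁻¹ hx hy
    rw [inv_inv, hg] at hn'
    rw [ConjClasses.mk_eq_mk_iff_isConj, isConj_iff]
    refine ⟨⟨n, hn⟩⁻¹, ?_⟩
    apply Subtype.ext
    show n⁻¹ * (m : G) * n⁻¹⁻¹ = (m' : G)
    rw [inv_inv, hn']
  · rintro ⟨C, hC⟩
    obtain ⟨x, rfl⟩ := ConjClasses.exists_rep C
    rw [hsize] at hC
    obtain ⟨g, hg⟩ := Cfsg.Agent.Lib.Helper69.Conj.exists_conj_mem_centralizer_sylow P x hC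
    refine ⟨ConjClasses.mk ⟨g * x * g⁻¹, Subgroup.centralizer_le_normalizer _ hg⟩, ?_⟩
    apply Subtype.ext
    show ConjClasses.mk (g * x * g⁻¹) = ConjClasses.mk x
    rw [ConjClasses.mk_eq_mk_iff_isConj, isConj_iff]
    exact ⟨g⁻¹, by group⟩

/-- If the normalizer of a Sylow `p`-subgroup centralizes it, the irreducible characters of the
normalizer have degree prime to `p`. -/
theorem not_dvd_degree_normalizer {G : Type u} [Group G] [Finite G] (p : ℕ) [Fact p.Prime]
    (P : Sylow p G)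
    (hNC : ∀ n ∈ Subgroup.normalizer ((P : Subgroup G) : Set G),
      n ∈ Subgroup.centralizer ((P : Subgroup G) : Set G))
    (η : IrrCharacter (Subgroup.normalizer ((P : Subgroup G) : Set G))) :
    ¬ p ∣ charDegree η.1 := by
  intro hdvd
  have h1 := Cfsg.Agent.Lib.Helper80.CenterDvd.charDegree_dvd_index_center η
  have hle : (P : Subgroup G).subgroupOf (Subgroup.normalizer ((P : Subgroup G) : Set G)) ≤
      Subgroup.center (Subgroup.normalizer ((P : Subgroup G) : Set G)) := by
    intro x hx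
    rw [Subgroup.mem_center_iff]
    intro m
    apply Subtype.ext
    have h2 := Subgroup.mem_centralizer_iff.1 (hNC (m : G) m.2) (x : G)
      (Subgroup.mem_subgroupOf.1 hx)
    exact h2.symm
  have h3 : (Subgroup.center (Subgroup.normalizer ((P : Subgroup G) : Set G))).index ∣
      (P : Subgroup G).index :=
    (Subgroup.index_dvd_of_le hle).trans (Subgroup.relIndex_dvd_index_of_le Subgroup.le_normalizer)
  exact P.not_dvd_index (hdvd.trans (h1.trans h3))

end Cfsg.Agent.Lib.Helper74.PCompl
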