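import Mathlib
import Cfsg.Agent.Lib.Helper56.PEStmt

/-!
Points of a full cycle: shared lemmas for the core pieces of S2276.
-/

set_option autoImplicit false

namespace Cfsg.Agent.Lib.Helper74.PECyc

open Equiv Equiv.Perm

variable {β : Type} [DecidableEq β] [Fintype β]

/-- the points `x_i = c ^ i x₀` -/
def pt (c : Perm β) (x₀ : β) (i : ℕ) : β := (c ^ i) x₀

theorem pt_zero (c : Perm β) (x₀ : β) : pt c x₀ 0 = x₀ := by simp [pt]

theorem pt_succ (c : Perm β) (x₀ : β) (i : ℕ) : pt c x₀ (i + 1) = c (pt c x₀ i) := by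
  unfold pt
  rw [pow_succ']
  rfl

theorem pt_add (c : Perm β) (x₀ : β) (i j : ℕ) : pt c x₀ (i + j) = (c ^ i) (pt c x₀ j) := by
  unfold pt
  rw [pow_add]
  rfl

/-- the conclusion of `CycPts` -/
structure Full (c : Perm β) : Prop where
  pow_card : c ^ Fintype.card β = 1
  inj : ∀ (x : β) (i j : ℕ), i < Fintype.card β → j < Fintype.card β →
    (c ^ i) x = (c ^ j) x → i = j
  surj : ∀ x y : β, ∃ i, i < Fintype.card β ∧ (c ^ i) x = y

theorem Full.pt_ne {c : Perm β} (h : Full c) (x₀ : β) {i j : ℕ} (hi : i < Fintype.card β)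
    (hj : j < Fintype.card β) (hij : i ≠ j) : pt c x₀ i ≠ pt c x₀ j :=
  fun e => hij (h.inj x₀ i j hi hj e)

theorem Full.pt_card {c : Perm β} (h : Full c) (x₀ : β) : pt c x₀ (Fintype.card β) = pt c x₀ 0 := by
  unfold pt
  rw [h.pow_card, pow_zero]

theorem Full.pt_add_card {c : Perm β} (h : Full c) (x₀ : β) (i : ℕ) :
    pt c x₀ (i + Fintype.card β) = pt c x₀ i := by
  unfold pt
  rw [pow_add, h.pow_card, mul_one]

theorem Full.pt_mod {c : Perm β} (h : Full c) (x₀ : β) (i : ℕ) :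
    pt c x₀ i = pt c x₀ (i % Fintype.card β) := by
  unfold pt
  conv_lhs => rw [← Nat.mod_add_div i (Fintype.card β)]
  rw [pow_add, pow_mul, h.pow_card, one_pow, mul_one]

theorem Full.pt_eq_iff {c : Perm β} (h : Full c) (x₀ : β) (hpos : 0 < Fintype.card β) (i j : ℕ) :
    pt c x₀ i = pt c x₀ j ↔ i % Fintype.card β = j % Fintype.card β := by
  constructor
  · intro e
    rw [h.pt_mod x₀ i, h.pt_mod x₀ j] at e
    exact h.inj x₀ _ _ (Nat.mod_lt _ hpos) (Nat.mod_lt _ hpos) e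
  · intro e
    rw [h.pt_mod x₀ i, h.pt_mod x₀ j, e]

theorem Full.exists_pt {c : Perm β} (h : Full c) (x₀ y : β) :
    ∃ i, i < Fintype.card β ∧ pt c x₀ i = y := h.surj x₀ y

theorem Full.swap_pt_of_ne {c : Perm β} (h : Full c) (x₀ : β) {a b i : ℕ}
    (ha : a < Fintype.card β) (hb : b < Fintype.card β) (hi : i < Fintype.card β)
    (h1 : a ≠ i) (h2 : b ≠ i) : swap (pt c x₀ a) (pt c x₀ b) (pt c x₀ i) = pt c x₀ i :=
  swap_apply_of_ne_of_ne (h.pt_ne x₀ hi ha (Ne.symm h1)) (h.pt_ne x₀ hi hb (Ne.symm h2))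

theorem pow_two_pt (c : Perm β) (x₀ : β) (i : ℕ) : (c ^ 2) (pt c x₀ i) = pt c x₀ (i + 2) := by
  rw [pow_two, Perm.mul_apply, ← pt_succ, ← pt_succ]

theorem Full.nodup_map {c : Perm β} (h : Full c) (x₀ : β) (l : List ℕ) (hl : l.Nodup)
    (hlt : ∀ a ∈ l, a < Fintype.card β) : (l.map (pt c x₀)).Nodup := by
  apply List.Nodup.map_on _ hl
  intro a ha b hb hab
  by_contra hne
  exact h.pt_ne x₀ (hlt a ha) (hlt b hb) hne hab

end Cfsg.Agent.Lib.Helper74.PECyc
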