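import Mathlib
import Cfsg.Agent.Lib.Helper56.PEStmt
import Cfsg.Agent.Lib.Helper74.PECyc

set_option autoImplicit false

namespace Cfsg.Agent.Lib.Helper74.PEBM

open Equiv Equiv.Perm Cfsg.Agent.Lib.Helper56 Cfsg.Agent.Lib.Helper74.PECyc

theorem main (hCyc : PEStmt.CycPts) (hFix : PEStmt.FixCert) (hA5 : PEStmt.A5C) : PEStmt.BM := by
  intro β _ _ p hp c hc hsupp hpR hR
  obtain ⟨hpow, hinj, hsurj⟩ := hCyc c hc hsupp
  have hF : Full c := ⟨hpow, hinj, hsurj⟩
  obtain ⟨R, hRdef⟩ : ∃ R, R = Fintype.card β := ⟨_, rfl⟩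
  rw [← hRdef] at hR hpR
  have hne : Nonempty β := Fintype.card_pos_iff.mp (by omega)
  obtain ⟨x₀⟩ := hne
  obtain ⟨x, hxdef⟩ : ∃ x : ℕ → β, x = pt c x₀ := ⟨_, rfl⟩
  have hx_succ : ∀ i, c (x i) = x (i + 1) := fun i => by rw [hxdef, pt_succ]
  have hx_ne : ∀ {i j : ℕ}, i < R → j < R → i ≠ j → x i ≠ x j := by
    intro i j hi hj hij
    rw [hxdef]
    exact hF.pt_ne x₀ (hRdef ▸ hi) (hRdef ▸ hj) hij
  have hxR : x R = x 0 := by rw [hxdef, hRdef]; exact hF.pt_card x₀
  have hex : ∀ y, ∃ i, i < R ∧ x i = y := by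
    intro y
    rw [hxdef, hRdef]
    exact hF.exists_pt x₀ y
  obtain ⟨g, hgdef⟩ : ∃ g : Perm β, g = swap (x 0) (x 1) := ⟨_, rfl⟩
  have hg0 : g (x 0) = x 1 := by rw [hgdef]; exact swap_apply_left _ _
  have hg1 : g (x 1) = x 0 := by rw [hgdef]; exact swap_apply_right _ _
  have hgo : ∀ i, i < R → 0 ≠ i → 1 ≠ i → g (x i) = x i := by
    intro i hi h0 h1
    rw [hgdef]
    exact swap_apply_of_ne_of_ne (hx_ne hi (by omega) (Ne.symm h0)) (hx_ne hi (by omega) (Ne.symm h1))
  have hginv : g⁻¹ = g := by rw [hgdef]; exact swap_inv _ _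
  have h01 : c (x 0) = x 1 := hx_succ 0
  have h12 : c (x 1) = x 2 := hx_succ 1
  have h23 : c (x 2) = x 3 := hx_succ 2
  refine ⟨g, ?_, ?_, ?_⟩
  · rw [hgdef]
    exact Perm.sign_swap (hx_ne (by omega) (by omega) (by norm_num))
  · rintro ⟨k, hk⟩
    have hfix := hFix p hp (c * (g * c * g⁻¹)) ⟨k, hk⟩
    have hset : Finset.univ.filter (fun y => (c * (g * c * g⁻¹)) y = y) = {x 1} := by
      ext y
      simp only [Finset.mem_filter, Finset.mem_univ, true_and, Finset.mem_singleton]
      rw [hginv]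
      simp only [Perm.mul_apply]
      obtain ⟨i, hi, rfl⟩ := hex y
      by_cases h0 : i = 0
      · subst h0
        rw [hg0, h12, hgo 2 (by omega) (by omega) (by omega), h23]
        constructor
        · intro h; exact absurd h (hx_ne (by omega) (by omega) (by omega))
        · intro h; exact absurd h (hx_ne (by omega) (by omega) (by omega))
      by_cases h1 : i = 1
      · subst h1
        rw [hg1, h01, hg1, h01]
      by_cases h2 : i = R - 1
      · subst h2
        rw [hgo (R - 1) (by omega) (by omega) (by omega), hx_succ, show R - 1 + 1 = R by omega,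
          hxR, hg0, h12]
        constructor
        · intro h; exact absurd h (hx_ne (by omega) (by omega) (by omega))
        · intro h; exact absurd h (hx_ne (by omega) (by omega) (by omega))
      · rw [hgo i hi (by omega) (by omega), hx_succ, hgo (i + 1) (by omega) (by omega) (by omega),
          hx_succ]
        constructor
        · intro h
          exfalso
          by_cases h3 : i + 1 + 1 < R
          · exact hx_ne h3 hi (by omega) h
          · have e : i + 1 + 1 = R := by omega
            rw [e, hxR] at h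
            exact hx_ne (by omega) hi (by omega) h
        · intro h; exact absurd h (hx_ne hi (by omega) (by omega))
    rw [hset, Finset.card_singleton, ← hRdef] at hfix
    have h1 : (1 : ℕ) % p = R % p := hfix
    rw [Nat.mod_eq_zero_of_dvd hpR] at h1
    have h2 : p ∣ 1 := Nat.dvd_of_mod_eq_zero h1
    exact hp.one_lt.ne' (Nat.dvd_one.mp h2)
  · have hcH : c ∈ Subgroup.closure ({c, g * c * g⁻¹} : Set (Perm β)) :=
      Subgroup.subset_closure (by simp)
    have hdH : g * c * g⁻¹ ∈ Subgroup.closure ({c, g * c * g⁻¹} : Set (Perm β)) :=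
      Subgroup.subset_closure (by simp)
    have e1 : swap (x 0) (x 1) * swap (x 1) (x 2) = (g * c * g⁻¹) * c⁻¹ := by
      have h1 : swap (x 1) (x 2) = c * g * c⁻¹ := by
        rw [hgdef, ← Equiv.swap_apply_apply, h01, h12]
      rw [h1, hginv, ← hgdef]
      group
    have hc2 : ∀ i, (c ^ 2) (x i) = x (i + 2) := by
      intro i
      rw [pow_two, Perm.mul_apply, hx_succ, hx_succ]
    have e2 : swap (x 2) (x 3) * swap (x 3) (x 4)
        = c ^ 2 * (swap (x 0) (x 1) * swap (x 1) (x 2)) * (c ^ 2)⁻¹ := by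
      have h1 : swap (x 2) (x 3) = c ^ 2 * swap (x 0) (x 1) * (c ^ 2)⁻¹ := by
        rw [← Equiv.swap_apply_apply, hc2, hc2]
      have h2 : swap (x 3) (x 4) = c ^ 2 * swap (x 1) (x 2) * (c ^ 2)⁻¹ := by
        rw [← Equiv.swap_apply_apply, hc2, hc2]
      rw [h1, h2]
      group
    have hm1 : swap (x 0) (x 1) * swap (x 1) (x 2)
        ∈ Subgroup.closure ({c, g * c * g⁻¹} : Set (Perm β)) := by
      rw [e1]
      exact Subgroup.mul_mem _ hdH (Subgroup.inv_mem _ hcH)
    apply hA5 (Subgroup.closure ({c, g * c * g⁻¹} : Set (Perm β))) (x 0) (x 1) (x 2) (x 3) (x 4)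
    · have hn : ([0, 1, 2, 3, 4] : List ℕ).Nodup := by decide
      have := List.Nodup.map_on (f := x) (l := [0, 1, 2, 3, 4]) (by
        intro a ha b hb hab
        simp only [List.mem_cons, List.mem_nil_iff, or_false] at ha hb
        by_contra hne
        exact hx_ne (by omega) (by omega) hne hab) hn
      simpa using this
    · exact hm1
    · rw [e2]
      exact Subgroup.mul_mem _ (Subgroup.mul_mem _ (Subgroup.pow_mem _ hcH 2) hm1)
        (Subgroup.inv_mem _ (Subgroup.pow_mem _ hcH 2))

end Cfsg.Agent.Lib.Helper74.PEBM
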