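import Mathlib
import Cfsg.Agent.Lib.Helper56.PEStmt
import Cfsg.Agent.Lib.Helper74.PECyc

set_option autoImplicit false

namespace Cfsg.Agent.Lib.Helper74.PEBP

open Equiv Equiv.Perm Cfsg.Agent.Lib.Helper56 Cfsg.Agent.Lib.Helper74.PECyc

/-- rotation of a 3-cycle -/
theorem rot3 {α : Type} [DecidableEq α] {a b c : α} (hab : a ≠ b) (hac : a ≠ c) :
    swap a b * swap b c = swap b c * swap c a := by
  have h := swap_mul_swap_mul_swap hab hac
  have h1 : swap b c * swap a b = swap c a * swap b c := by
    rw [← h]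
    simp [mul_assoc]
  have h2 := congrArg (fun π => π⁻¹) h1
  simp only [mul_inv_rev, swap_inv] at h2
  exact h2

theorem main (hCyc : PEStmt.CycPts) (hFix : PEStmt.FixCert) (hA5 : PEStmt.A5C)
    (hRNS : PEStmt.RNS) (hNS6 : PEStmt.NS6) : PEStmt.BP := by
  intro β _ _ p hp hp2 c hc hsupp hpR hR hodd
  obtain ⟨hpow, hinj, hsurj⟩ := hCyc c hc hsupp
  have hF : Full c := ⟨hpow, hinj, hsurj⟩
  obtain ⟨R, hRdef⟩ : ∃ R, R = Fintype.card β := ⟨_, rfl⟩
  rw [← hRdef] at hR hpR hodd
  have hne : Nonempty β := Fintype.card_pos_iff.mp (by omega)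
  obtain ⟨x₀⟩ := hne
  obtain ⟨x, hxdef⟩ : ∃ x : ℕ → β, x = pt c x₀ := ⟨_, rfl⟩
  have hx_succ : ∀ i, c (x i) = x (i + 1) := fun i => by rw [hxdef, pt_succ]
  have hx_ne : ∀ {i j : ℕ}, i < R → j < R → i ≠ j → x i ≠ x j := by
    intro i j hi hj hij
    rw [hxdef]
    exact hF.pt_ne x₀ (hRdef ▸ hi) (hRdef ▸ hj) hij
  have hxR : x R = x 0 := by rw [hxdef, hRdef]; exact hF.pt_card x₀
  have hex : ∀ y, ∃ i, i < R ∧ x i = y := by
    intro y
    rw [hxdef, hRdef]
    exact hF.exists_pt x₀ y
  have hsw : ∀ a b i, a < R → b < R → i < R → a ≠ i → b ≠ i →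
      swap (x a) (x b) (x i) = x i := by
    intro a b i ha hb hi h1 h2
    exact swap_apply_of_ne_of_ne (hx_ne hi ha (Ne.symm h1)) (hx_ne hi hb (Ne.symm h2))
  obtain ⟨g, hgdef⟩ : ∃ g : Perm β, g = swap (x 0) (x 1) * swap (x 2) (x 3) := ⟨_, rfl⟩
  have hg0 : g (x 0) = x 1 := by
    rw [hgdef, Perm.mul_apply, hsw 2 3 0 (by omega) (by omega) (by omega) (by omega) (by omega),
      swap_apply_left]
  have hg1 : g (x 1) = x 0 := by
    rw [hgdef, Perm.mul_apply, hsw 2 3 1 (by omega) (by omega) (by omega) (by omega) (by omega),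
      swap_apply_right]
  have hg2 : g (x 2) = x 3 := by
    rw [hgdef, Perm.mul_apply, swap_apply_left,
      hsw 0 1 3 (by omega) (by omega) (by omega) (by omega) (by omega)]
  have hg3 : g (x 3) = x 2 := by
    rw [hgdef, Perm.mul_apply, swap_apply_right,
      hsw 0 1 2 (by omega) (by omega) (by omega) (by omega) (by omega)]
  have hgo : ∀ i, i < R → 4 ≤ i → g (x i) = x i := by
    intro i hi h4
    rw [hgdef, Perm.mul_apply, hsw 2 3 i (by omega) (by omega) hi (by omega) (by omega),
      hsw 0 1 i (by omega) (by omega) hi (by omega) (by omega)]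
  have hgi0 : g⁻¹ (x 0) = x 1 := Perm.inv_eq_iff_eq.mpr hg1.symm
  have hgi1 : g⁻¹ (x 1) = x 0 := Perm.inv_eq_iff_eq.mpr hg0.symm
  have hgi2 : g⁻¹ (x 2) = x 3 := Perm.inv_eq_iff_eq.mpr hg3.symm
  have hgi3 : g⁻¹ (x 3) = x 2 := Perm.inv_eq_iff_eq.mpr hg2.symm
  have hgio : ∀ i, i < R → 4 ≤ i → g⁻¹ (x i) = x i :=
    fun i hi h4 => Perm.inv_eq_iff_eq.mpr (hgo i hi h4).symm
  have hci : ∀ i, c⁻¹ (x (i + 1)) = x i := fun i => Perm.inv_eq_iff_eq.mpr (hx_succ i).symm
  have hci0 : c⁻¹ (x 0) = x (R - 1) := by
    apply Perm.inv_eq_iff_eq.mpr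
    rw [hx_succ, show R - 1 + 1 = R by omega, hxR]
  have hc1 : c⁻¹ (x 1) = x 0 := hci 0
  have hc2 : c⁻¹ (x 2) = x 1 := hci 1
  have hc3 : c⁻¹ (x 3) = x 2 := hci 2
  have hc4 : c⁻¹ (x 4) = x 3 := hci 3
  have hc5 : c⁻¹ (x 5) = x 4 := hci 4
  have h01 : c (x 0) = x 1 := hx_succ 0
  have h12 : c (x 1) = x 2 := hx_succ 1
  have h23 : c (x 2) = x 3 := hx_succ 2
  have h34 : c (x 3) = x 4 := hx_succ 3
  have h45 : c (x 4) = x 5 := hx_succ 4
  refine ⟨g, ?_, ?_, ?_⟩
  · rw [hgdef, Perm.sign_mul, Perm.sign_swap (hx_ne (by omega) (by omega) (by norm_num)),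
      Perm.sign_swap (hx_ne (by omega) (by omega) (by norm_num))]
    norm_num
  · rintro ⟨k, hk⟩
    have hfix := hFix p hp (c * (g * c * g⁻¹)) ⟨k, hk⟩
    have hset : Finset.univ.filter (fun y => (c * (g * c * g⁻¹)) y = y) = {x 1, x 3} := by
      ext y
      simp only [Finset.mem_filter, Finset.mem_univ, true_and, Finset.mem_insert,
        Finset.mem_singleton]
      simp only [Perm.mul_apply]
      obtain ⟨i, hi, rfl⟩ := hex y
      by_cases h0 : i = 0
      · subst h0
        rw [hgi0, h12, hg2, h34]
        constructor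
        · intro h; exact absurd h (hx_ne (by omega) (by omega) (by omega))
        · rintro (h | h)
          · exact absurd h (hx_ne (by omega) (by omega) (by omega))
          · exact absurd h (hx_ne (by omega) (by omega) (by omega))
      by_cases h1 : i = 1
      · subst h1
        rw [hgi1, h01, hg1, h01]
        simp
      by_cases h2 : i = 2
      · subst h2
        rw [hgi2, h34, hgo 4 (by omega) (by omega), h45]
        constructor
        · intro h
          exfalso
          by_cases h5 : 5 < R
          · exact hx_ne h5 (by omega) (by omega) h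
          · have e : 5 = R := by omega
            rw [e, hxR] at h
            exact hx_ne (by omega) (by omega) (by omega) h
        · rintro (h | h)
          · exact absurd h (hx_ne (by omega) (by omega) (by omega))
          · exact absurd h (hx_ne (by omega) (by omega) (by omega))
      by_cases h3 : i = 3
      · subst h3
        rw [hgi3, h23, hg3, h23]
        simp
      by_cases h4 : i = R - 1
      · subst h4
        rw [hgio (R - 1) (by omega) (by omega), hx_succ, show R - 1 + 1 = R by omega, hxR, hg0,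
          h12]
        constructor
        · intro h; exact absurd h (hx_ne (by omega) (by omega) (by omega))
        · rintro (h | h)
          · exact absurd h (hx_ne (by omega) (by omega) (by omega))
          · exact absurd h (hx_ne (by omega) (by omega) (by omega))
      · rw [hgio i hi (by omega), hx_succ, hgo (i + 1) (by omega) (by omega), hx_succ]
        constructor
        · intro h
          exfalso
          by_cases h5 : i + 1 + 1 < R
          · exact hx_ne h5 hi (by omega) h
          · have e : i + 1 + 1 = R := by omega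
            rw [e, hxR] at h
            exact hx_ne (by omega) hi (by omega) h
        · rintro (h | h)
          · exact absurd h (hx_ne hi (by omega) (by omega))
          · exact absurd h (hx_ne hi (by omega) (by omega))
    rw [hset, Finset.card_pair (hx_ne (by omega) (by omega) (by norm_num)), ← hRdef] at hfix
    have h1 : (2 : ℕ) % p = R % p := hfix
    rw [Nat.mod_eq_zero_of_dvd hpR] at h1
    have h2 : p ∣ 2 := Nat.dvd_of_mod_eq_zero h1
    exact hp2 ((Nat.prime_dvd_prime_iff_eq hp Nat.prime_two).mp h2)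
  · have hcH : c ∈ Subgroup.closure ({c, g * c * g⁻¹} : Set (Perm β)) :=
      Subgroup.subset_closure (by simp)
    have hdH : g * c * g⁻¹ ∈ Subgroup.closure ({c, g * c * g⁻¹} : Set (Perm β)) :=
      Subgroup.subset_closure (by simp)
    obtain ⟨e, hedef⟩ : ∃ e : Perm β, e = g * c * g⁻¹ * c⁻¹ := ⟨_, rfl⟩
    have heH : e ∈ Subgroup.closure ({c, g * c * g⁻¹} : Set (Perm β)) := by
      rw [hedef]
      exact Subgroup.mul_mem _ hdH (Subgroup.inv_mem _ hcH)
    have hev : ∀ y, e y = g (c (g⁻¹ (c⁻¹ y))) := fun y => by rw [hedef]; rfl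
    have he0 : e (x 0) = x 1 := by
      rw [hev, hci0, hgio (R - 1) (by omega) (by omega), hx_succ, show R - 1 + 1 = R by omega,
        hxR, hg0]
    have he1 : e (x 1) = x 3 := by rw [hev, hc1, hgi0, h12, hg2]
    have he2 : e (x 2) = x 0 := by rw [hev, hc2, hgi1, h01, hg1]
    have he3 : e (x 3) = x 4 := by rw [hev, hc3, hgi2, h34, hgo 4 (by omega) (by omega)]
    have he4 : e (x 4) = x 2 := by rw [hev, hc4, hgi3, h23, hg3]
    have heo : ∀ i, i < R → 5 ≤ i → e (x i) = x i := by
      intro i hi h5
      obtain ⟨j, rfl⟩ : ∃ j, i = j + 1 := ⟨i - 1, by omega⟩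
      rw [hev, hci j, hgio j (by omega) (by omega), hx_succ, hgo (j + 1) hi (by omega)]
    by_cases hR5 : R = 5
    · obtain ⟨t, htdef⟩ : ∃ t : Perm β, t = e * c⁻¹ := ⟨_, rfl⟩
      have htH : t ∈ Subgroup.closure ({c, g * c * g⁻¹} : Set (Perm β)) := by
        rw [htdef]
        exact Subgroup.mul_mem _ heH (Subgroup.inv_mem _ hcH)
      have ht : t = swap (x 0) (x 2) * swap (x 2) (x 3) := by
        ext y
        obtain ⟨i, hi, rfl⟩ := hex y
        rw [htdef, Perm.mul_apply, Perm.mul_apply]
        have hi5 : i < 5 := by omega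
        interval_cases i
        · rw [hci0, show R - 1 = 4 by omega, he4,
            hsw 2 3 0 (by omega) (by omega) (by omega) (by omega) (by omega), swap_apply_left]
        · rw [hc1, he0, hsw 2 3 1 (by omega) (by omega) (by omega) (by omega) (by omega),
            hsw 0 2 1 (by omega) (by omega) (by omega) (by omega) (by omega)]
        · rw [hc2, he1, swap_apply_left,
            hsw 0 2 3 (by omega) (by omega) (by omega) (by omega) (by omega)]
        · rw [hc3, he2, swap_apply_right, swap_apply_right]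
        · rw [hc4, he3, hsw 2 3 4 (by omega) (by omega) (by omega) (by omega) (by omega),
            hsw 0 2 4 (by omega) (by omega) (by omega) (by omega) (by omega)]
      have ht2 : swap (x 3) (x 4) * swap (x 4) (x 1) = c * t * c⁻¹ := by
        rw [ht]
        have h1 : swap (x 1) (x 3) = c * swap (x 0) (x 2) * c⁻¹ := by
          rw [← Equiv.swap_apply_apply, h01, h23]
        have h2 : swap (x 3) (x 4) = c * swap (x 2) (x 3) * c⁻¹ := by
          rw [← Equiv.swap_apply_apply, h23, h34]
        have h3 : swap (x 1) (x 3) * swap (x 3) (x 4) = swap (x 3) (x 4) * swap (x 4) (x 1) :=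
          rot3 (hx_ne (by omega) (by omega) (by omega)) (hx_ne (by omega) (by omega) (by omega))
        rw [← h3, h1, h2]
        group
      apply hA5 (Subgroup.closure ({c, g * c * g⁻¹} : Set (Perm β))) (x 0) (x 2) (x 3) (x 4) (x 1)
      · have hn : ([0, 2, 3, 4, 1] : List ℕ).Nodup := by decide
        have := List.Nodup.map_on (f := x) (l := [0, 2, 3, 4, 1]) (by
          intro a ha b hb hab
          simp only [List.mem_cons, List.mem_nil_iff, or_false] at ha hb
          by_contra hne
          exact hx_ne (by omega) (by omega) hne hab) hn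
        simpa using this
      · rw [← ht]
        exact htH
      · rw [ht2]
        exact Subgroup.mul_mem _ (Subgroup.mul_mem _ hcH htH) (Subgroup.inv_mem _ hcH)
    · have hR6 : 6 ≤ R := by omega
      obtain ⟨hN1, hN2, hN3, hN4⟩ := hNS6
      obtain ⟨ι, hιdef⟩ : ∃ ι : Fin 6 → β, ι = fun b => x b.val := ⟨_, rfl⟩
      have hιinj : Function.Injective ι := by
        intro a b hab
        rw [hιdef] at hab
        apply Fin.ext
        by_contra hne
        have ha := a.isLt
        have hb := b.isLt
        exact hx_ne (by omega) (by omega) hne hab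
      obtain ⟨B, hBdef⟩ : ∃ B : Perm β, B = c * e * c⁻¹ := ⟨_, rfl⟩
      have hBH : B ∈ Subgroup.closure ({c, g * c * g⁻¹} : Set (Perm β)) := by
        rw [hBdef]
        exact Subgroup.mul_mem _ (Subgroup.mul_mem _ hcH heH) (Subgroup.inv_mem _ hcH)
      have hBv : ∀ y, B y = c (e (c⁻¹ y)) := fun y => by rw [hBdef]; rfl
      have hB0 : B (x 0) = x 0 := by
        rw [hBv, hci0, heo (R - 1) (by omega) (by omega), hx_succ, show R - 1 + 1 = R by omega,
          hxR]
      have hB1 : B (x 1) = x 2 := by rw [hBv, hc1, he0, h12]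
      have hB2 : B (x 2) = x 4 := by rw [hBv, hc2, he1, h34]
      have hB3 : B (x 3) = x 1 := by rw [hBv, hc3, he2, h01]
      have hB4 : B (x 4) = x 5 := by rw [hBv, hc4, he3, h45]
      have hB5 : B (x 5) = x 3 := by rw [hBv, hc5, he4, h23]
      have he5 : e (x 5) = x 5 := heo 5 (by omega) (by omega)
      have key : ∀ (F : Perm (Fin 6)) (A : Perm β) (v : Fin 6 → Fin 6), (∀ b, F b = v b) →
          (∀ b : Fin 6, A (x b.val) = x (v b).val) → ∀ b, A (ι b) = ι (F b) := by
        intro F A v h1 h2 b
        rw [h1 b, hιdef]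
        exact h2 b
      refine hRNS ι hιinj (swap 0 1 * swap 2 3 * swap 1 2 * swap 3 4)
        (swap 1 2 * swap 3 4 * swap 2 3 * swap 4 5) e B ?_ ?_ hN4 _ heH hBH
      · apply key _ e ![1, 3, 0, 4, 2, 5] (by decide)
        intro b
        fin_cases b
        · exact he0
        · exact he1
        · exact he2
        · exact he3
        · exact he4
        · exact he5
      · apply key _ B ![0, 2, 4, 1, 5, 3] (by decide)
        intro b
        fin_cases b
        · exact hB0
        · exact hB1
        · exact hB2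
        · exact hB3
        · exact hB4
        · exact hB5

end Cfsg.Agent.Lib.Helper74.PEBP
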