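import Mathlib
import Cfsg.Agent.Lib.Helper56.PEStmt
import Cfsg.Agent.Lib.Helper74.PECyc

set_option autoImplicit false

namespace Cfsg.Agent.Lib.Helper74.PEK2

open Equiv Equiv.Perm Cfsg.Agent.Lib.Helper56 Cfsg.Agent.Lib.Helper74.PECyc

theorem main (hOrb : PEStmt.Orb) (hCyc : PEStmt.CycPts) (hBM : PEStmt.BM) (hBlow : PEStmt.Blow)
    (hRP : PEStmt.RP) (hRNS : PEStmt.RNS) : PEStmt.K2 := by
  intro β _ _ p hp c hc hsupp S hS5 hpS hSR hSlt
  obtain ⟨hpow, hinj, hsurj⟩ := hCyc c hc hsupp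
  have hF : Full c := ⟨hpow, hinj, hsurj⟩
  obtain ⟨R, hRdef⟩ : ∃ R, R = Fintype.card β := ⟨_, rfl⟩
  rw [← hRdef] at hSR hSlt
  obtain ⟨M, hM⟩ := hSR
  have hM2 : 2 ≤ M := by
    by_contra h
    have : M ≤ 1 := by omega
    nlinarith
  have hRpos : 0 < R := by omega
  have hMR : M < R := by nlinarith
  have hne : Nonempty β := Fintype.card_pos_iff.mp (hRdef ▸ hRpos)
  obtain ⟨x₀⟩ := hne
  have hu0 : (c ^ M) x₀ ≠ x₀ := by
    intro h
    have h1 : (c ^ M) x₀ = (c ^ 0) x₀ := by rw [h]; simp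
    have := hinj x₀ M 0 (hRdef ▸ hMR) (hRdef ▸ hRpos) h1
    omega
  obtain ⟨c', hc'1, hc'2, hc'3⟩ := hOrb (c ^ M) x₀ hu0
  obtain ⟨hpow', hinj', hsurj'⟩ := hCyc c' hc'2 hc'3
  have hx0mem : x₀ ∈ ((c ^ M).cycleOf x₀).support := by
    rw [Equiv.Perm.mem_support_cycleOf_iff]
    exact ⟨Equiv.Perm.SameCycle.refl _ _, Equiv.Perm.mem_support.mpr hu0⟩
  obtain ⟨b₀, hb₀⟩ : ∃ b₀ : {y // y ∈ ((c ^ M).cycleOf x₀).support}, b₀.1 = x₀ :=
    ⟨⟨x₀, hx0mem⟩, rfl⟩
  have hpowrel : ∀ (i : ℕ) (b : {y // y ∈ ((c ^ M).cycleOf x₀).support}),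
      ((c' ^ i) b).1 = (c ^ (M * i)) b.1 := by
    intro i
    induction i with
    | zero => intro b; simp
    | succ k ih =>
      intro b
      rw [pow_succ', Perm.mul_apply, ← hc'1, ih, ← Perm.mul_apply, ← pow_add]
      congr 2
      ring
  obtain ⟨n, hn⟩ : ∃ n, n = Fintype.card {y // y ∈ ((c ^ M).cycleOf x₀).support} := ⟨_, rfl⟩
  have hnpos : 0 < n := by rw [hn]; exact Fintype.card_pos_iff.mpr ⟨b₀⟩
  have hcardγ : n = S := by
    have h1 : S ∣ n := by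
      have e1 : ((c' ^ n) b₀).1 = (c ^ (M * n)) b₀.1 := hpowrel n b₀
      rw [hn, hpow', ← hn, Perm.one_apply, hb₀] at e1
      have e2 : pt c x₀ (M * n) = pt c x₀ 0 := by
        rw [pt_zero]
        exact e1.symm
      have e3 := (hF.pt_eq_iff x₀ (hRdef ▸ hRpos) _ _).mp e2
      rw [← hRdef, Nat.zero_mod] at e3
      have e4 : S * M ∣ M * n := by
        rw [← hM]
        exact Nat.dvd_of_mod_eq_zero e3
      rw [mul_comm S M] at e4
      exact Nat.dvd_of_mul_dvd_mul_left (by omega : 0 < M) e4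
    have h2 : n ≤ S := by
      by_contra hlt
      push Not at hlt
      have e1 : ((c' ^ S) b₀).1 = (c ^ (M * S)) b₀.1 := hpowrel S b₀
      rw [mul_comm M S, ← hM, hRdef, hpow] at e1
      have e2 : (c' ^ S) b₀ = (c' ^ 0) b₀ := by
        apply Subtype.ext
        rw [e1]
        simp
      have := hinj' b₀ S 0 (hn ▸ hlt) (hn ▸ hnpos) e2
      omega
    exact Nat.le_antisymm h2 (Nat.le_of_dvd hnpos h1)
  rw [hn] at hcardγ
  obtain ⟨g', hg'sign, hgood1, hgood2⟩ := hBM p hp c' hc'2 hc'3 (by rw [hcardγ]; exact hpS)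
    (by rw [hcardγ]; exact hS5)
  obtain ⟨t', ht'def⟩ : ∃ t' : Perm {y // y ∈ ((c ^ M).cycleOf x₀).support},
    t' = g' * c' * g'⁻¹ := ⟨_, rfl⟩
  rw [← ht'def] at hgood1 hgood2
  -- the points of the orbit
  have hγpt : ∀ b : {y // y ∈ ((c ^ M).cycleOf x₀).support}, ∃ j, b.1 = pt c x₀ (M * j) := by
    intro b
    obtain ⟨i, -, hi⟩ := hsurj' b₀ b
    refine ⟨i, ?_⟩
    rw [← hi, hpowrel i b₀, hb₀]
    rfl
  have hιinj : Function.Injective
      (Subtype.val : {y // y ∈ ((c ^ M).cycleOf x₀).support} → β) := Subtype.val_injective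
  have hA : ∀ b : {y // y ∈ ((c ^ M).cycleOf x₀).support}, (c ^ M) b.1 = (c' b).1 := hc'1
  have hB : ∀ b : {y // y ∈ ((c ^ M).cycleOf x₀).support},
      (Perm.ofSubtype t') b.1 = (t' b).1 := fun b => Perm.ofSubtype_apply_coe t' b
  refine ⟨Perm.ofSubtype t', ?_, ?_, ?_⟩
  · rw [Equiv.Perm.cycleType_ofSubtype, ht'def, Equiv.Perm.cycleType_conj, hc'2.cycleType, hc'3,
      Finset.card_univ, hcardγ]
  · rintro ⟨k, hk⟩
    have hblow := hBlow (Subtype.val : {y // y ∈ ((c ^ M).cycleOf x₀).support} → β) c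
      (Perm.ofSubtype t') c' t' M (by omega) hA hB
      (by
        intro y hy
        apply Perm.ofSubtype_apply_of_not_mem
        intro hmem
        exact hy ⟨⟨y, hmem⟩, rfl⟩)
      (by
        intro b i hi0 hiM hmem
        obtain ⟨b', hb'⟩ := hmem
        obtain ⟨j, hj⟩ := hγpt b
        obtain ⟨j', hj'⟩ := hγpt b'
        rw [hj, hj', ← pt_add] at hb'
        have e3 := (hF.pt_eq_iff x₀ (hRdef ▸ hRpos) _ _).mp hb'
        rw [← hRdef] at e3
        have e4 : ((i + M * j) % R) % M = ((M * j') % R) % M := by rw [e3]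
        rw [Nat.mod_mod_of_dvd _ (Dvd.intro_left S hM.symm),
          Nat.mod_mod_of_dvd _ (Dvd.intro_left S hM.symm), Nat.mul_mod_right,
          Nat.add_mul_mod_self_left, Nat.mod_eq_of_lt hiM] at e4
        omega)
    have hnp := hRP (Subtype.val : {y // y ∈ ((c ^ M).cycleOf x₀).support} → β) hιinj p hp
      (c' * t') ((c * Perm.ofSubtype t') ^ M) hblow hgood1
    apply hnp
    have hdvd : orderOf ((c * Perm.ofSubtype t') ^ M) ∣ p ^ k := by
      rw [← hk]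
      exact orderOf_pow_dvd M
    obtain ⟨j, -, hj⟩ := (Nat.dvd_prime_pow hp).mp hdvd
    exact ⟨j, hj⟩
  · exact hRNS (Subtype.val : {y // y ∈ ((c ^ M).cycleOf x₀).support} → β) hιinj c' t' (c ^ M)
      (Perm.ofSubtype t') hA hB hgood2 _
      (Subgroup.pow_mem _ (Subgroup.subset_closure (by simp)) M)
      (Subgroup.subset_closure (by simp))

end Cfsg.Agent.Lib.Helper74.PEK2
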