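import Mathlib
import Cfsg.Agent.Lib.Helper56.PEStmt
import Cfsg.Agent.Lib.Helper74.PECyc

set_option autoImplicit false

namespace Cfsg.Agent.Lib.Helper74.PEK3

open Equiv Equiv.Perm Cfsg.Agent.Lib.Helper56 Cfsg.Agent.Lib.Helper74.PECyc

theorem main (hOrb : PEStmt.Orb) (hCyc : PEStmt.CycPts) (hBM : PEStmt.BM)
    (hFix : PEStmt.FixCert) (hRNS : PEStmt.RNS) : PEStmt.K3 := by
  intro β _ _ p hp c hc hsupp S q μ' hS5 hpS hSR h3S hq3 hqS hμ hsum
  obtain ⟨hpow, hinj, hsurj⟩ := hCyc c hc hsupp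
  have hF : Full c := ⟨hpow, hinj, hsurj⟩
  obtain ⟨R, hRdef⟩ : ∃ R, R = Fintype.card β := ⟨_, rfl⟩
  rw [← hRdef] at hSR h3S hsum
  obtain ⟨M, hM⟩ := hSR
  have hM3 : 3 ≤ M := by
    by_contra h
    have : M ≤ 2 := by omega
    nlinarith
  have hRpos : 0 < R := by omega
  have hMR : M < R := by nlinarith
  have hqS' : q ≤ S := Nat.le_of_dvd (by omega) hqS
  have hMdvd : M ∣ R := Dvd.intro_left S hM.symm
  have hne : Nonempty β := Fintype.card_pos_iff.mp (hRdef ▸ hRpos)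
  obtain ⟨x₀⟩ := hne
  have hu0 : (c ^ M) x₀ ≠ x₀ := by
    intro h
    have h1 : (c ^ M) x₀ = (c ^ 0) x₀ := by rw [h]; simp
    have := hinj x₀ M 0 (hRdef ▸ hMR) (hRdef ▸ hRpos) h1
    omega
  obtain ⟨c', hc'1, hc'2, hc'3⟩ := hOrb (c ^ M) x₀ hu0
  obtain ⟨hpow', hinj', hsurj'⟩ := hCyc c' hc'2 hc'3
  have hx0mem : x₀ ∈ ((c ^ M).cycleOf x₀).support := by
    rw [Equiv.Perm.mem_support_cycleOf_iff]
    exact ⟨Equiv.Perm.SameCycle.refl _ _, Equiv.Perm.mem_support.mpr hu0⟩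
  obtain ⟨b₀, hb₀⟩ : ∃ b₀ : {y // y ∈ ((c ^ M).cycleOf x₀).support}, b₀.1 = x₀ :=
    ⟨⟨x₀, hx0mem⟩, rfl⟩
  have hpowrel : ∀ (i : ℕ) (b : {y // y ∈ ((c ^ M).cycleOf x₀).support}),
      ((c' ^ i) b).1 = (c ^ (M * i)) b.1 := by
    intro i
    induction i with
    | zero => intro b; simp
    | succ k ih =>
      intro b
      rw [pow_succ', Perm.mul_apply, ← hc'1, ih, ← Perm.mul_apply, ← pow_add]
      congr 2
      ring
  obtain ⟨n, hn⟩ : ∃ n, n = Fintype.card {y // y ∈ ((c ^ M).cycleOf x₀).support} := ⟨_, rfl⟩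
  have hnpos : 0 < n := by rw [hn]; exact Fintype.card_pos_iff.mpr ⟨b₀⟩
  have hcardγ : n = S := by
    have h1 : S ∣ n := by
      have e1 : ((c' ^ n) b₀).1 = (c ^ (M * n)) b₀.1 := hpowrel n b₀
      rw [hn, hpow', ← hn, Perm.one_apply, hb₀] at e1
      have e2 : pt c x₀ (M * n) = pt c x₀ 0 := by
        rw [pt_zero]
        exact e1.symm
      have e3 := (hF.pt_eq_iff x₀ (hRdef ▸ hRpos) _ _).mp e2
      rw [← hRdef, Nat.zero_mod] at e3
      have e4 : S * M ∣ M * n := by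
        rw [← hM]
        exact Nat.dvd_of_mod_eq_zero e3
      rw [mul_comm S M] at e4
      exact Nat.dvd_of_mul_dvd_mul_left (by omega : 0 < M) e4
    have h2 : n ≤ S := by
      by_contra hlt
      push Not at hlt
      have e1 : ((c' ^ S) b₀).1 = (c ^ (M * S)) b₀.1 := hpowrel S b₀
      rw [mul_comm M S, ← hM, hRdef, hpow] at e1
      have e2 : (c' ^ S) b₀ = (c' ^ 0) b₀ := by
        apply Subtype.ext
        rw [e1]
        simp
      have := hinj' b₀ S 0 (hn ▸ hlt) (hn ▸ hnpos) e2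
      omega
    exact Nat.le_antisymm h2 (Nat.le_of_dvd hnpos h1)
  rw [hn] at hcardγ
  obtain ⟨g', hg'sign, hgood1, hgood2⟩ := hBM p hp c' hc'2 hc'3 (by rw [hcardγ]; exact hpS)
    (by rw [hcardγ]; exact hS5)
  obtain ⟨t', ht'def⟩ : ∃ t' : Perm {y // y ∈ ((c ^ M).cycleOf x₀).support},
    t' = g' * c' * g'⁻¹ := ⟨_, rfl⟩
  rw [← ht'def] at hgood1 hgood2
  have hγpt : ∀ b : {y // y ∈ ((c ^ M).cycleOf x₀).support}, ∃ j, b.1 = pt c x₀ (M * j) := by
    intro b
    obtain ⟨i, -, hi⟩ := hsurj' b₀ b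
    refine ⟨i, ?_⟩
    rw [← hi, hpowrel i b₀, hb₀]
    rfl
  -- indices modulo M
  have hmodM : ∀ a b : ℕ, pt c x₀ a = pt c x₀ b → a % M = b % M := by
    intro a b h
    have e3 := (hF.pt_eq_iff x₀ (hRdef ▸ hRpos) _ _).mp h
    rw [← hRdef] at e3
    have e4 : (a % R) % M = (b % R) % M := by rw [e3]
    rwa [Nat.mod_mod_of_dvd _ hMdvd, Nat.mod_mod_of_dvd _ hMdvd] at e4
  have hOmod : ∀ a : ℕ, pt c x₀ a ∈ ((c ^ M).cycleOf x₀).support → a % M = 0 := by
    intro a ha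
    obtain ⟨j, hj⟩ := hγpt ⟨_, ha⟩
    have := hmodM _ _ hj
    rw [this, Nat.mul_mod_right]
  -- the index list of the q-cycle
  obtain ⟨rest, hrest⟩ : ∃ rest : List ℕ,
    rest = (List.range (q - 2)).map (fun i => 1 + (i + 1) * M) := ⟨_, rfl⟩
  have hrest_mem : ∀ a ∈ rest, ∃ i, i < q - 2 ∧ a = 1 + (i + 1) * M := by
    intro a ha
    rw [hrest, List.mem_map] at ha
    obtain ⟨i, hi, rfl⟩ := ha
    exact ⟨i, List.mem_range.mp hi, rfl⟩
  have hrest_len : rest.length = q - 2 := by rw [hrest]; simp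
  have hidx_lt : ∀ a ∈ 1 :: 2 :: rest, a < R := by
    intro a ha
    simp only [List.mem_cons] at ha
    rcases ha with rfl | rfl | ha
    · omega
    · omega
    · obtain ⟨i, hi, rfl⟩ := hrest_mem a ha
      have h1 : (i + 1) * M ≤ (S - 2) * M := Nat.mul_le_mul_right M (by omega)
      have h2 : (S - 2) * M + 2 * M = S * M := by
        rw [← Nat.add_mul]
        congr 1
        omega
      omega
  have hidx_mod : ∀ a ∈ 1 :: 2 :: rest, a % M ≠ 0 := by
    intro a ha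
    simp only [List.mem_cons] at ha
    rcases ha with rfl | rfl | ha
    · rw [Nat.mod_eq_of_lt (by omega)]; omega
    · rw [Nat.mod_eq_of_lt (by omega)]; omega
    · obtain ⟨i, hi, rfl⟩ := hrest_mem a ha
      rw [Nat.add_mul_mod_self_right, Nat.mod_eq_of_lt (by omega)]
      omega
  have hidx_nodup : (1 :: 2 :: rest).Nodup := by
    rw [List.nodup_cons, List.nodup_cons]
    refine ⟨?_, ?_, ?_⟩
    · simp only [List.mem_cons]
      rintro (h | h)
      · omega
      · obtain ⟨i, hi, h⟩ := hrest_mem _ h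
        have : 0 < (i + 1) * M := Nat.mul_pos (by omega) (by omega)
        omega
    · intro h
      obtain ⟨i, hi, h⟩ := hrest_mem _ h
      have : M ≤ (i + 1) * M := Nat.le_mul_of_pos_left M (by omega)
      omega
    · rw [hrest]
      apply List.Nodup.map _ List.nodup_range
      intro i j hij
      have h1 : (i + 1) * M = (j + 1) * M := by
        have : 1 + (i + 1) * M = 1 + (j + 1) * M := hij
        omega
      have := Nat.eq_of_mul_eq_mul_right (by omega : 0 < M) h1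
      omega
  obtain ⟨l, hl⟩ : ∃ l : List β, l = pt c x₀ 1 :: pt c x₀ 2 :: rest.map (pt c x₀) := ⟨_, rfl⟩
  have hl_eq : l = (1 :: 2 :: rest).map (pt c x₀) := by rw [hl]; rfl
  have hl_nodup : l.Nodup := by
    rw [hl_eq]
    exact hF.nodup_map x₀ _ hidx_nodup (by rw [← hRdef]; exact hidx_lt)
  have hl_len : l.length = q := by
    rw [hl]
    simp only [List.length_cons, List.length_map, hrest_len]
    omega
  have hl_mem : ∀ y, y ∈ l → ∃ a ∈ 1 :: 2 :: rest, y = pt c x₀ a := by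
    intro y hy
    rw [hl_eq, List.mem_map] at hy
    obtain ⟨a, ha, rfl⟩ := hy
    exact ⟨a, ha, rfl⟩
  have hN1 : ∀ k, k % M = 0 → pt c x₀ k ∉ l := by
    intro k hk hmem
    obtain ⟨a, ha, hya⟩ := hl_mem _ hmem
    have := hmodM _ _ hya
    exact hidx_mod a ha (by omega)
  have hOl : ∀ y, y ∈ ((c ^ M).cycleOf x₀).support → y ∉ l := by
    intro y hy hmem
    obtain ⟨a, ha, rfl⟩ := hl_mem _ hmem
    exact hidx_mod a ha (hOmod a hy)
  have h1l : pt c x₀ 1 ∈ l := by rw [hl]; simp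
  have h2l : pt c x₀ 2 ∈ l := by rw [hl]; simp
  -- the q-cycle
  obtain ⟨t₂, ht₂def⟩ : ∃ t₂ : Perm β, t₂ = l.formPerm := ⟨_, rfl⟩
  have ht2cyc : t₂.IsCycle := by
    rw [ht₂def]
    exact List.isCycle_formPerm hl_nodup (by omega)
  have ht2supp : t₂.support = l.toFinset := by
    rw [ht₂def]
    apply List.support_formPerm_of_nodup _ hl_nodup
    intro z hz
    have := congrArg List.length hz
    rw [hl_len] at this
    simp at this
    omega
  have ht2card : t₂.support.card = q := by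
    rw [ht2supp, List.toFinset_card_of_nodup hl_nodup, hl_len]
  have ht2type : t₂.cycleType = {q} := by rw [ht2cyc.cycleType, ht2card]
  have ht2fix : ∀ y, y ∉ l → t₂ y = y := by
    intro y hy
    rw [ht₂def]
    exact List.formPerm_apply_of_notMem hy
  have ht2mem : ∀ y, y ∈ l → t₂ y ∈ l := by
    intro y hy
    rw [ht₂def]
    exact List.formPerm_apply_mem_of_mem hy
  have ht2imem : ∀ y, y ∈ l → t₂⁻¹ y ∈ l := by
    intro y hy
    apply List.mem_of_formPerm_apply_mem (l := l)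
    rw [← ht₂def]
    have e : t₂ (t₂⁻¹ y) = y := by
      rw [← Perm.mul_apply, mul_inv_cancel, Perm.one_apply]
    rw [e]
    exact hy
  have ht2ifix : ∀ y, y ∉ l → t₂⁻¹ y = y :=
    fun y hy => Perm.inv_eq_iff_eq.mpr (ht2fix y hy).symm
  have ht2head : t₂ (pt c x₀ 1) = pt c x₀ 2 := by
    rw [ht₂def, hl]
    exact List.formPerm_apply_head _ _ _ (hl ▸ hl_nodup)
  have ht2inv2 : t₂⁻¹ (pt c x₀ 2) = pt c x₀ 1 := Perm.inv_eq_iff_eq.mpr ht2head.symm
  have hne12 : pt c x₀ 2 ≠ pt c x₀ 1 :=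
    hF.pt_ne x₀ (by rw [← hRdef]; omega) (by rw [← hRdef]; omega) (by norm_num)
  have ht2two : t₂ (pt c x₀ 2) ≠ pt c x₀ 1 := by
    intro h
    have h1 : (t₂ ^ 2) (pt c x₀ 1) = pt c x₀ 1 := by
      rw [pow_two, Perm.mul_apply, ht2head, h]
    have hne : t₂ (pt c x₀ 1) ≠ pt c x₀ 1 := by
      rw [ht2head]
      exact hne12
    have h2 := (ht2cyc.pow_eq_one_iff' hne).mpr h1
    have h3 := orderOf_dvd_of_pow_eq_one h2
    rw [ht2cyc.orderOf, ht2card] at h3
    have := Nat.le_of_dvd (by norm_num) h3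
    omega
  -- the rest
  have hδcard : μ'.sum ≤ Fintype.card {y // y ∉ ((c ^ M).cycleOf x₀).support ∧ y ∉ l} := by
    rw [Fintype.card_subtype]
    have e1 : Finset.univ.filter (fun y => y ∉ ((c ^ M).cycleOf x₀).support ∧ y ∉ l)
        = Finset.univ \ (((c ^ M).cycleOf x₀).support ∪ l.toFinset) := by
      ext y
      simp
    rw [e1, Finset.card_univ_sdiff]
    have e2 : (((c ^ M).cycleOf x₀).support ∪ l.toFinset).card ≤ S + q := by
      refine (Finset.card_union_le _ _).trans ?_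
      rw [List.toFinset_card_of_nodup hl_nodup, hl_len, ← Fintype.card_coe, hcardγ]
    rw [← hRdef]
    omega
  obtain ⟨ρ', hρ'⟩ := (Equiv.Perm.exists_with_cycleType_iff
    {y // y ∉ ((c ^ M).cycleOf x₀).support ∧ y ∉ l}).mpr ⟨hδcard, hμ⟩
  obtain ⟨t₁, ht₁def⟩ : ∃ t₁ : Perm β, t₁ = Perm.ofSubtype t' := ⟨_, rfl⟩
  obtain ⟨ρ, hρdef⟩ : ∃ ρ : Perm β, ρ = Perm.ofSubtype ρ' := ⟨_, rfl⟩
  have ht1fix : ∀ y, y ∉ ((c ^ M).cycleOf x₀).support → t₁ y = y := by
    intro y hy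
    rw [ht₁def]
    exact Perm.ofSubtype_apply_of_not_mem t' hy
  have ht1mem : ∀ b : {y // y ∈ ((c ^ M).cycleOf x₀).support}, t₁ b.1 = (t' b).1 := by
    intro b
    rw [ht₁def]
    exact Perm.ofSubtype_apply_coe t' b
  have hρfix : ∀ y, (y ∈ ((c ^ M).cycleOf x₀).support ∨ y ∈ l) → ρ y = y := by
    intro y hy
    rw [hρdef]
    apply Perm.ofSubtype_apply_of_not_mem
    rintro ⟨h1, h2⟩
    rcases hy with h | h
    · exact h1 h
    · exact h2 h
  have hρmem : ∀ y, y ∉ l → ρ y ∉ l := by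
    intro y hy
    by_cases h : y ∉ ((c ^ M).cycleOf x₀).support ∧ y ∉ l
    · have := (Perm.ofSubtype_apply_mem_iff_mem ρ' y).mpr h
      rw [hρdef]
      exact this.2
    · have e : ρ y = y := by
        rw [hρdef]
        exact Perm.ofSubtype_apply_of_not_mem ρ' h
      rw [e]
      exact hy
  have ht1type : t₁.cycleType = {S} := by
    rw [ht₁def, Equiv.Perm.cycleType_ofSubtype, ht'def, Equiv.Perm.cycleType_conj,
      hc'2.cycleType, hc'3, Finset.card_univ, hcardγ]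
  have hρtype : ρ.cycleType = μ' := by rw [hρdef, Equiv.Perm.cycleType_ofSubtype, hρ']
  have hd12 : Perm.Disjoint t₁ t₂ := by
    intro y
    by_cases hy : y ∈ ((c ^ M).cycleOf x₀).support
    · exact Or.inr (ht2fix y (hOl y hy))
    · exact Or.inl (ht1fix y hy)
  have hd1ρ : Perm.Disjoint t₁ ρ := by
    intro y
    by_cases hy : y ∈ ((c ^ M).cycleOf x₀).support
    · exact Or.inr (hρfix y (Or.inl hy))
    · exact Or.inl (ht1fix y hy)
  have hd2ρ : Perm.Disjoint t₂ ρ := by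
    intro y
    by_cases hy : y ∈ l
    · exact Or.inr (hρfix y (Or.inr hy))
    · exact Or.inl (ht2fix y hy)
  have hAtype : (t₁ * t₂ * ρ).cycleType = S ::ₘ q ::ₘ μ' := by
    rw [(hd1ρ.mul_left hd2ρ).cycleType_mul, hd12.cycleType_mul, ht1type, ht2type, hρtype,
      add_assoc, Multiset.singleton_add, Multiset.singleton_add]
  have hBtype : (t₁ * t₂⁻¹ * ρ).cycleType = S ::ₘ q ::ₘ μ' := by
    rw [(hd1ρ.mul_left hd2ρ.inv_left).cycleType_mul, hd12.inv_right.cycleType_mul, ht1type,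
      Equiv.Perm.cycleType_inv, ht2type, hρtype, add_assoc, Multiset.singleton_add,
      Multiset.singleton_add]
  have hAQ : ∀ y, y ∈ l → (t₁ * t₂ * ρ) y = t₂ y := by
    intro y hy
    rw [Perm.mul_apply, Perm.mul_apply, hρfix y (Or.inr hy)]
    exact ht1fix _ (fun h => hOl _ h (ht2mem y hy))
  have hBQ : ∀ y, y ∈ l → (t₁ * t₂⁻¹ * ρ) y = t₂⁻¹ y := by
    intro y hy
    rw [Perm.mul_apply, Perm.mul_apply, hρfix y (Or.inr hy)]
    exact ht1fix _ (fun h => hOl _ h (ht2imem y hy))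
  have hAB : ∀ y, y ∉ l → (t₁ * t₂ * ρ) y = (t₁ * t₂⁻¹ * ρ) y := by
    intro y hy
    rw [Perm.mul_apply, Perm.mul_apply, Perm.mul_apply, Perm.mul_apply,
      ht2fix _ (hρmem y hy), ht2ifix _ (hρmem y hy)]
  have hAγ : ∀ b : {y // y ∈ ((c ^ M).cycleOf x₀).support}, (t₁ * t₂ * ρ) b.1 = (t' b).1 := by
    intro b
    rw [Perm.mul_apply, Perm.mul_apply, hρfix b.1 (Or.inl b.2), ht2fix b.1 (hOl b.1 b.2), ht1mem]
  have hBγ : ∀ b : {y // y ∈ ((c ^ M).cycleOf x₀).support},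
      (t₁ * t₂⁻¹ * ρ) b.1 = (t' b).1 := by
    intro b
    rw [Perm.mul_apply, Perm.mul_apply, hρfix b.1 (Or.inl b.2), ht2ifix b.1 (hOl b.1 b.2),
      ht1mem]
  have hns : ∀ X : Perm β, (∀ b : {y // y ∈ ((c ^ M).cycleOf x₀).support}, X b.1 = (t' b).1) →
      ¬ Group.IsSolvable ↥(Subgroup.closure ({c, X} : Set (Perm β))) := by
    intro X hX
    exact hRNS (Subtype.val : {y // y ∈ ((c ^ M).cycleOf x₀).support} → β)
      Subtype.val_injective c' t' (c ^ M) X hc'1 hX hgood2 _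
      (Subgroup.pow_mem _ (Subgroup.subset_closure (by simp)) M)
      (Subgroup.subset_closure (by simp))
  -- agreements with c⁻¹ on the q-cycle
  have hci : ∀ k, c⁻¹ (pt c x₀ (k + 1)) = pt c x₀ k :=
    fun k => Perm.inv_eq_iff_eq.mpr (pt_succ c x₀ k)
  have hkey : ∀ y, y ∈ l → (t₂ y ≠ c⁻¹ y) ∧ (t₂⁻¹ y = c⁻¹ y ↔ y = pt c x₀ 2) := by
    intro y hy
    obtain ⟨a, ha, rfl⟩ := hl_mem y hy
    simp only [List.mem_cons] at ha
    rcases ha with rfl | rfl | ha
    · have h0 : c⁻¹ (pt c x₀ 1) = pt c x₀ 0 := hci 0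
      have hnot : pt c x₀ 0 ∉ l := hN1 0 (by simp)
      rw [h0]
      refine ⟨fun h => hnot (h ▸ ht2mem _ hy), ?_⟩
      constructor
      · intro h
        exact absurd (h ▸ ht2imem _ hy) hnot
      · intro h
        exact absurd h hne12.symm
    · have h0 : c⁻¹ (pt c x₀ 2) = pt c x₀ 1 := hci 1
      rw [h0]
      exact ⟨ht2two, by simp [ht2inv2]⟩
    · obtain ⟨i, hi, rfl⟩ := hrest_mem a ha
      have h0 : c⁻¹ (pt c x₀ (1 + (i + 1) * M)) = pt c x₀ ((i + 1) * M) := by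
        rw [add_comm]
        exact hci _
      have hnot : pt c x₀ ((i + 1) * M) ∉ l := hN1 _ (Nat.mul_mod_left _ _)
      rw [h0]
      refine ⟨fun h => hnot (h ▸ ht2mem _ hy), ?_⟩
      constructor
      · intro h
        exact absurd (h ▸ ht2imem _ hy) hnot
      · intro h
        have := hmodM _ _ h
        rw [Nat.add_mul_mod_self_right, Nat.mod_eq_of_lt (by omega),
          Nat.mod_eq_of_lt (by omega)] at this
        omega
  have hfilter : Finset.univ.filter (fun y => (c * (t₁ * t₂⁻¹ * ρ)) y = y)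
      = insert (pt c x₀ 2) (Finset.univ.filter (fun y => (c * (t₁ * t₂ * ρ)) y = y)) := by
    ext y
    simp only [Finset.mem_filter, Finset.mem_univ, true_and, Finset.mem_insert]
    have hiff : ∀ X : Perm β, (c * X) y = y ↔ X y = c⁻¹ y := by
      intro X
      rw [Perm.mul_apply]
      exact Perm.eq_inv_iff_eq.symm
    rw [hiff, hiff]
    by_cases hy : y ∈ l
    · rw [hBQ y hy, hAQ y hy]
      have := hkey y hy
      constructor
      · intro h
        exact Or.inl (this.2.mp h)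
      · rintro (h | h)
        · exact this.2.mpr h
        · exact absurd h this.1
    · rw [← hAB y hy]
      constructor
      · intro h
        exact Or.inr h
      · rintro (h | h)
        · exact absurd (h.symm ▸ h2l) hy
        · exact h
  have hnotmem : pt c x₀ 2 ∉ Finset.univ.filter (fun y => (c * (t₁ * t₂ * ρ)) y = y) := by
    simp only [Finset.mem_filter, Finset.mem_univ, true_and]
    rw [Perm.mul_apply, hAQ _ h2l]
    intro h
    exact (hkey _ h2l).1 (Perm.eq_inv_iff_eq.mpr h)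
  by_cases hA : ∃ k : ℕ, orderOf (c * (t₁ * t₂ * ρ)) = p ^ k
  · refine ⟨t₁ * t₂⁻¹ * ρ, hBtype, ?_, hns _ hBγ⟩
    intro hB
    have h1 := hFix p hp _ hA
    have h2 := hFix p hp _ hB
    rw [hfilter, Finset.card_insert_of_notMem hnotmem] at h2
    obtain ⟨a, ha⟩ : ∃ a, a = (Finset.univ.filter (fun y => (c * (t₁ * t₂ * ρ)) y = y)).card :=
      ⟨_, rfl⟩
    rw [← ha] at h1 h2
    have h3 : a ≡ a + 1 [MOD p] := h1.trans h2.symm
    have h4 := (Nat.modEq_iff_dvd' (Nat.le_succ a)).mp h3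
    have h5 : a.succ - a = 1 := by omega
    rw [h5] at h4
    exact hp.one_lt.ne' (Nat.dvd_one.mp h4)
  · exact ⟨t₁ * t₂ * ρ, hAtype, hA, hns _ hAγ⟩

end Cfsg.Agent.Lib.Helper74.PEK3
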