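import Mathlib
import Cfsg.Agent.Lib.Helper22.S56Stmt

set_option autoImplicit false

/-! # S1356 piece NILPROD (helper74, third seat) -/

namespace Cfsg.Agent.Lib.Helper74.S56NILPROD

universe u

open Cfsg Cfsg.Agent.Lib.Helper22.S56Stmt

open scoped commutatorElement

theorem nilp_of_inj {A B : Type*} [Group A] [Group B] (f : A →* B) (hf : Function.Injective f)
    [Group.IsNilpotent B] : Group.IsNilpotent A :=
  Group.nilpotent_of_mulEquiv (MonoidHom.ofInjective hf).symm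

theorem main : NilProd.{u} := by
  intro X _ _ H O D _ _ q _ hO hOH hDH hDO hHOD hnil hcent
  classical
  have hDnil : Group.IsNilpotent ↥D := by
    have := hnil
    let f : ↥D →* ↥(H.map (QuotientGroup.mk' O)) :=
      { toFun := fun d => ⟨QuotientGroup.mk' O (d : X), Subgroup.mem_map_of_mem _ (hDH d.2)⟩
        map_one' := by apply Subtype.ext; simp
        map_mul' := fun a b => by apply Subtype.ext; simp }
    refine nilp_of_inj f ?_
    intro a b hab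
    have h1 : (QuotientGroup.mk' O (a : X)) = QuotientGroup.mk' O (b : X) :=
      congrArg Subtype.val hab
    have h2 : (a : X)⁻¹ * (b : X) ∈ O := QuotientGroup.eq.1 h1
    have h3 : (a : X)⁻¹ * (b : X) ∈ D ⊓ O := ⟨D.mul_mem (D.inv_mem a.2) b.2, h2⟩
    rw [hDO, Subgroup.mem_bot] at h3
    exact Subtype.ext (inv_mul_eq_one.1 h3)
  have hDD : ⁅D, D⁆ ≤ D := by
    rw [Subgroup.commutator_le]
    intro g₁ h₁ g₂ h₂
    rw [commutatorElement_def]
    exact D.mul_mem (D.mul_mem (D.mul_mem h₁ h₂) (D.inv_mem h₁)) (D.inv_mem h₂)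
  have hDDnil : Group.IsNilpotent ↥⁅D, D⁆ := by
    have := hDnil
    exact nilp_of_inj (Subgroup.inclusion hDD) (Subgroup.inclusion_injective hDD)
  have hOnil : Group.IsNilpotent ↥O := hO.isNilpotent
  let φ : ↥O × ↥⁅D, D⁆ →* X := MonoidHom.noncommCoprod O.subtype (⁅D, D⁆).subtype (by
    intro o d
    exact (Subgroup.mem_centralizer_iff.1 (hcent d.2)) o o.2)
  have hLnil : Group.IsNilpotent ↥φ.range :=
    Group.nilpotent_of_surjective φ.rangeRestrict φ.rangeRestrict_surjective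
  have hle : ⁅H, H⁆ ≤ φ.range := by
    rw [Subgroup.commutator_le]
    intro h₁ hh₁ h₂ hh₂
    have m1 : h₁ ∈ ((O ⊔ D : Subgroup X) : Set X) := hHOD hh₁
    have m2 : h₂ ∈ ((O ⊔ D : Subgroup X) : Set X) := hHOD hh₂
    rw [Subgroup.normal_mul] at m1 m2
    obtain ⟨o₁, ho₁, d₁, hd₁, rfl⟩ := Set.mem_mul.1 m1
    obtain ⟨o₂, ho₂, d₂, hd₂, rfl⟩ := Set.mem_mul.1 m2
    have key : ⁅o₁ * d₁, o₂ * d₂⁆ * ⁅d₁, d₂⁆⁻¹ ∈ O := by
      rw [← QuotientGroup.eq_one_iff]
      have e1 : ((o₁ : X) : X ⧸ O) = 1 := (QuotientGroup.eq_one_iff o₁).2 ho₁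
      have e2 : ((o₂ : X) : X ⧸ O) = 1 := (QuotientGroup.eq_one_iff o₂).2 ho₂
      simp only [commutatorElement_def, QuotientGroup.mk_mul, QuotientGroup.mk_inv, e1, e2,
        one_mul]
      group
    refine ⟨(⟨_, key⟩, ⟨⁅d₁, d₂⁆, Subgroup.commutator_mem_commutator hd₁ hd₂⟩), ?_⟩
    have e : φ (⟨_, key⟩, ⟨⁅d₁, d₂⁆, Subgroup.commutator_mem_commutator hd₁ hd₂⟩)
        = (⁅o₁ * d₁, o₂ * d₂⁆ * ⁅d₁, d₂⁆⁻¹) * ⁅d₁, d₂⁆ := rfl
    rw [e, inv_mul_cancel_right]
  have := hLnil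
  exact nilp_of_inj (Subgroup.inclusion hle) (Subgroup.inclusion_injective hle)

end Cfsg.Agent.Lib.Helper74.S56NILPROD
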