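import Mathlib
import Cfsg.Agent.Lib.Helper4.UniStmt

/-!
# S4395, piece EF2: the involution `Frob^(a/2)` of a field with `p^a` elements, `a` even
-/

set_option autoImplicit false

namespace Cfsg.Agent.Lib.Helper74.UniEF2

open Cfsg.Agent.Lib.Helper4.UniStmt

universe u

theorem card_roots_le {K : Type u} [Field K] [Finite K] (n : ℕ) (hn : 1 < n) (c : K) :
    Nat.card {z : K // z ^ n + c * z = 0} ≤ n := by
  classical
  set f : Polynomial K := Polynomial.X ^ n + Polynomial.C c * Polynomial.X with hf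
  have hdeg : f.natDegree = n := by
    rw [hf, Polynomial.natDegree_add_eq_left_of_natDegree_lt]
    · exact Polynomial.natDegree_X_pow n
    · rw [Polynomial.natDegree_X_pow]
      exact lt_of_le_of_lt
        (le_trans (Polynomial.natDegree_C_mul_le c _) Polynomial.natDegree_X_le) hn
  have hf0 : f ≠ 0 := by
    intro h0
    rw [h0, Polynomial.natDegree_zero] at hdeg
    omega
  have hmem : ∀ z : {z : K // z ^ n + c * z = 0}, (z : K) ∈ f.roots.toFinset := by
    intro z
    rw [Multiset.mem_toFinset, Polynomial.mem_roots hf0, Polynomial.IsRoot, hf]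
    simpa using z.2
  have hinj : Function.Injective (fun z : {z : K // z ^ n + c * z = 0} =>
      (⟨z.1, hmem z⟩ : (f.roots.toFinset : Finset K))) := by
    intro z z' h
    have h' : (z : K) = (z' : K) := congrArg (fun w : (f.roots.toFinset : Finset K) => (w : K)) h
    exact Subtype.ext h'
  have h1 := Nat.card_le_card_of_injective _ hinj
  have h2 : Nat.card (f.roots.toFinset : Finset K) = f.roots.toFinset.card := by
    rw [Nat.card_eq_fintype_card, Fintype.card_coe]
  rw [h2] at h1
  exact le_trans h1 (le_trans (Multiset.toFinset_card_le _) (hdeg ▸ Polynomial.card_roots' f))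

theorem main : EF2.{u} := by
  intro p q _ _ hpq heven K _ _ lam hcard hlam
  have hp : p.Prime := Fact.out
  have hq : q.Prime := Fact.out
  set a := orderOf (p : ZMod q) with ha
  have hp0 : (p : ZMod q) ≠ 0 := by
    intro h0
    rw [ZMod.natCast_eq_zero_iff] at h0
    exact hpq ((Nat.prime_dvd_prime_iff_eq hq hp).1 h0).symm
  have ha0 : 0 < a := by
    rw [ha, orderOf_pos_iff, isOfFinOrder_iff_pow_eq_one]
    exact ⟨q - 1, Nat.sub_pos_of_lt hq.one_lt, ZMod.pow_card_sub_one_eq_one hp0⟩
  obtain ⟨b, hab⟩ : ∃ b, a = 2 * b := ⟨a / 2, by omega⟩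
  have hb0 : 0 < b := by omega
  have hb2 : a / 2 = b := by omega
  -- the characteristic
  obtain ⟨r, hr⟩ := CharP.exists K
  have hrp : r.Prime := CharP.char_is_prime K r
  let _ := Fintype.ofFinite K
  have hcp : CharP K p := by
    obtain ⟨n, -, hn⟩ := FiniteField.card K r
    rw [← Nat.card_eq_fintype_card, hcard] at hn
    have h1 : r ∣ p ^ a := by
      rw [hn]; exact dvd_pow_self r n.ne_zero
    have h2 : r = p := (Nat.prime_dvd_prime_iff_eq hrp hp).1 (hrp.dvd_of_dvd_pow h1)
    exact h2 ▸ hr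
  set s : K →+* K := iterateFrobenius K p b with hsdef
  have hs : ∀ x : K, s x = x ^ p ^ b := fun x => iterateFrobenius_def p b x
  have hcardK : ∀ x : K, x ^ (p ^ a) = x := by
    intro x
    have h1 := FiniteField.pow_card x
    rwa [← Nat.card_eq_fintype_card, hcard] at h1
  have hss : ∀ x, s (s x) = x := by
    intro x
    rw [hs, hs, ← pow_mul, ← pow_add, ← two_mul, ← hab]; exact hcardK x
  have hpb : (p : ZMod q) ^ b = -1 := by
    have h1 : ((p : ZMod q) ^ b) * ((p : ZMod q) ^ b) = 1 := by
      rw [← pow_add, ← two_mul, ← hab]; exact pow_orderOf_eq_one _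
    have h2 : (p : ZMod q) ^ b ≠ 1 := pow_ne_one_of_lt_orderOf (by omega) (by omega)
    rcases mul_self_eq_one_iff.1 h1 with h | h
    · exact absurd h h2
    · exact h
  have hqdvd : q ∣ p ^ b + 1 := by
    rw [← ZMod.natCast_eq_zero_iff]
    push_cast
    rw [hpb]; ring
  have hlam2 : lam * s lam = 1 := by
    rw [hs, ← pow_succ']
    obtain ⟨c, hc⟩ := hqdvd
    rw [hc, pow_mul, hlam, one_pow]
  have hn1 : 1 < p ^ b := Nat.one_lt_pow (by omega) hp.one_lt
  let T : K →+ K := AddMonoidHom.id K + (s : K →+ K)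
  have hT : ∀ z, T z = z + s z := fun z => rfl
  have hker : Nat.card T.ker = Nat.card {z : K // z + s z = 0} :=
    Nat.card_congr (Equiv.subtypeEquivRight (fun z => by rw [AddMonoidHom.mem_ker, hT]))
  have hkerle : Nat.card {z : K // z + s z = 0} ≤ p ^ b := by
    have h1 := card_roots_le (p ^ b) hn1 (1 : K)
    have h2 : Nat.card {z : K // z + s z = 0}
        = Nat.card {z : K // z ^ (p ^ b) + 1 * z = 0} :=
      Nat.card_congr (Equiv.subtypeEquivRight (fun z => by rw [hs, one_mul, add_comm]))
    rw [h2]; exact h1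
  have hfixle : Nat.card {c : K // c ^ (p ^ b) + (-1) * c = 0} ≤ p ^ b :=
    card_roots_le (p ^ b) hn1 (-1 : K)
  have hrange_mem : ∀ c ∈ T.range, c ^ (p ^ b) + (-1) * c = 0 := by
    rintro c ⟨z, rfl⟩
    rw [hT, ← hs, map_add, hss]; ring
  let ι : T.range → {c : K // c ^ (p ^ b) + (-1) * c = 0} :=
    fun c => ⟨c.1, hrange_mem c.1 c.2⟩
  have hι : Function.Injective ι := by
    intro c c' h
    have h' : (c : K) = (c' : K) :=
      congrArg (fun w : {c : K // c ^ (p ^ b) + (-1) * c = 0} => (w : K)) h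
    exact Subtype.ext h'
  have hrangele : Nat.card T.range ≤ p ^ b :=
    le_trans (Nat.card_le_card_of_injective ι hι) hfixle
  have hprod : Nat.card T.ker * Nat.card T.range = p ^ b * p ^ b := by
    rw [← AddSubgroup.index_ker, AddSubgroup.card_mul_index, hcard, hab, two_mul, pow_add]
  have hkereq : Nat.card T.ker = p ^ b := by
    rw [hker] at hprod ⊢
    rcases lt_or_eq_of_le hkerle with hlt | heq
    · exfalso
      have : Nat.card {z : K // z + s z = 0} * Nat.card T.range < p ^ b * p ^ b :=
        Nat.mul_lt_mul_of_lt_of_le hlt hrangele (by positivity)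
      omega
    · exact heq
  have hrangeeq : Nat.card T.range = p ^ b := by
    rw [hkereq] at hprod
    exact Nat.eq_of_mul_eq_mul_left (by positivity) hprod
  have hbij : Function.Bijective ι :=
    hι.bijective_of_nat_card_le (by rw [hrangeeq]; exact hfixle)
  refine ⟨s, hss, hlam2, by rw [← hker, hkereq, hb2], ?_⟩
  intro c hc
  have hc' : c ^ (p ^ b) + (-1) * c = 0 := by rw [← hs, hc]; ring
  obtain ⟨⟨y, z, hz⟩, hy⟩ := hbij.2 ⟨c, hc'⟩
  refine ⟨z, ?_⟩
  have h1 := congrArg Subtype.val hy
  rw [← hT, hz]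
  exact h1

end Cfsg.Agent.Lib.Helper74.UniEF2
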